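import Groth.Agent.L22.Bundle.Indep
import Groth.Agent.L22.Cyc.FlatRat
import Groth.Agent.L22.Cyc.PushRat

/-!
Caps, flat pullback and push-forward as additive maps of cycles, and rationally trivial cycles as a subgroup.
-/

set_option autoImplicit false
set_option linter.style.haveILetI false
set_option backward.isDefEq.respectTransparency.types false
set_option backward.isDefEq.respectTransparency false

universe u

open CategoryTheory AlgebraicGeometry TopologicalSpace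

noncomputable section

namespace Groth.L22.Chern

variable {X Y Z : Scheme.{u}}

/-- Rationally trivial cycles. -/
def ratGroup [IsLocallyNoetherian X] {δ : X → ℤ} (hδ : Cyc.IsDimFun X δ) (k : ℤ) :
    AddSubgroup (AlgebraicCycle X ℤ) where
  carrier := {α | Cyc.RatEquivZero δ k α}
  zero_mem' := (Groth.L22.C1.ratOn_zero (S := Set.univ) fun _ => rfl).ratEquivZero _ rfl
  add_mem' := fun ha hb => Groth.L22.C1.ratEquivZero_add k ha hb
  neg_mem' := fun ha => ((Groth.L22.C1.ratOn_univ ha).zsmul hδ (-1)).ratEquivZero _ (funext fun x => by simp)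

theorem mem_ratGroup [IsLocallyNoetherian X] {δ : X → ℤ} {hδ : Cyc.IsDimFun X δ} {k : ℤ}
    {α : AlgebraicCycle X ℤ} : α ∈ ratGroup hδ k ↔ Cyc.RatEquivZero δ k α := Iff.rfl

theorem ratEquiv_iff [IsLocallyNoetherian X] {δ : X → ℤ} {hδ : Cyc.IsDimFun X δ} {k : ℤ}
    {α β : AlgebraicCycle X ℤ} : Cyc.RatEquiv δ k α β ↔ α - β ∈ ratGroup hδ k := Iff.rfl

/-- Cycles of given dimension as a subgroup. -/
def zGroup (δ : X → ℤ) (k : ℤ) : AddSubgroup (AlgebraicCycle X ℤ) where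
  carrier := Cyc.Zk X δ k
  zero_mem' := fun _ _ => rfl
  add_mem' := fun {a b} ha hb x hx => by
    rw [Function.locallyFinsuppWithin.coe_add, Pi.add_apply, ha x hx, hb x hx, add_zero]
  neg_mem' := fun {a} ha x hx => by
    rw [Function.locallyFinsuppWithin.coe_neg, Pi.neg_apply, ha x hx, neg_zero]

theorem mem_zGroup {δ : X → ℤ} {k : ℤ} {α : AlgebraicCycle X ℤ} : α ∈ zGroup δ k ↔ α ∈ Cyc.Zk X δ k := Iff.rfl

theorem sum_apply {I : Type*} (T : Finset I) (A : I → AlgebraicCycle X ℤ) (x : X) :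
    (∑ i ∈ T, A i) x = ∑ i ∈ T, A i x := by
  classical
  induction T using Finset.induction with
  | empty => rfl
  | insert a T' ha ih =>
    rw [Finset.sum_insert ha, Finset.sum_insert ha, Function.locallyFinsuppWithin.coe_add, Pi.add_apply, ih]

section Cap

variable [IsLocallyNoetherian X] {δ : X → ℤ} (hδ : Cyc.IsDimFun X δ) {L : X.Modules} (hL : PicF.IsInvertible L)
  {t : ℕ → (ξ : X) → Cyc.secFibre L ξ} (ht : ∀ m ξ, t m ξ ≠ 0)

include hδ hL ht in
/-- The iterated cap. -/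
def cap (m : ℕ) : AlgebraicCycle X ℤ →+ AlgebraicCycle X ℤ :=
  AddMonoidHom.mk' (fun A => (Groth.L22.C1.exists_cycle_c1Pow hδ hL t ht A m).choose) fun A B => by
    have h : ∀ (C : AlgebraicCycle X ℤ) (x : X), (Groth.L22.C1.exists_cycle_c1Pow hδ hL t ht C m).choose x =
        Cyc.c1PowFun δ L t m ⇑C x :=
      fun C x => congrFun (Groth.L22.C1.exists_cycle_c1Pow hδ hL t ht C m).choose_spec x
    refine Function.locallyFinsuppWithin.ext fun x => ?_
    refine (h (A + B) x).trans ((Groth.L22.C1.c1PowFun_finset_sum hδ hL Finset.univ (fun i : Bool => if i then A else B) (A + B)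
        (fun y => by simp) t ht m x).trans ?_)
    rw [Fintype.sum_bool]
    exact (congrArg₂ (· + ·) (h A x) (h B x)).symm

theorem cap_coe (m : ℕ) (A : AlgebraicCycle X ℤ) : ⇑(cap hδ hL ht m A) = Cyc.c1PowFun δ L t m ⇑A :=
  (Groth.L22.C1.exists_cycle_c1Pow hδ hL t ht A m).choose_spec

theorem cap_zero (A : AlgebraicCycle X ℤ) : cap hδ hL ht 0 A = A :=
  DFunLike.coe_injective (cap_coe hδ hL ht 0 A)

theorem cap_succ (m : ℕ) (A : AlgebraicCycle X ℤ) :
    ⇑(cap hδ hL ht (m + 1) A) = Cyc.c1CapFun δ L ⇑(cap hδ hL ht m A) (t m) := by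
  rw [cap_coe, cap_coe]; rfl

theorem cap_mem {d : ℤ} {A : AlgebraicCycle X ℤ} (hA : A ∈ Cyc.Zk X δ d) (m : ℕ) :
    cap hδ hL ht m A ∈ Cyc.Zk X δ (d - m) :=
  Groth.L22.C1.c1PowFun_mem t A hA m _ (cap_coe hδ hL ht m A)

theorem cap_rat {d : ℤ} {A : AlgebraicCycle X ℤ} (hA : A ∈ ratGroup hδ d) (m : ℕ) :
    cap hδ hL ht m A ∈ ratGroup hδ (d - m) :=
  Groth.L22.C1.c1Pow_ratEquivZero hδ hL t ht m d A hA _ (cap_coe hδ hL ht m A)

theorem cap_change {t' : ℕ → (ξ : X) → Cyc.secFibre L ξ} (ht' : ∀ m ξ, t' m ξ ≠ 0) {d : ℤ}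
    {A : AlgebraicCycle X ℤ} (hA : A ∈ Cyc.Zk X δ d) (m : ℕ) :
    cap hδ hL ht m A - cap hδ hL ht' m A ∈ ratGroup hδ (d - m) :=
  (Groth.L22.C1.ratOn_c1Pow_change hδ hL (S := Set.univ) (fun _ _ _ _ => trivial) d A hA (fun _ _ => trivial)
    t t' ht ht' m).ratEquivZero _ (funext fun x => by
      rw [Function.locallyFinsuppWithin.coe_sub, Pi.sub_apply, cap_coe, cap_coe])

include hL in
/-- Nowhere vanishing rational sections exist. -/
theorem exists_secs : ∃ v : ℕ → (ξ : X) → Cyc.secFibre L ξ, ∀ m ξ, v m ξ ≠ 0 := by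
  choose g hg using Groth.L22.C1.exists_isGen hL
  exact ⟨fun _ ξ => Groth.L22.C1.mk L (g ξ), fun _ ξ => Groth.L22.C1.mk_gen_ne_zero hL (hg ξ)⟩

end Cap

section Pull

/-- The dimension shift at generic points of fibres. -/
def Shift (f : X ⟶ Y) (δX : X → ℤ) (δY : Y → ℤ) (c : ℤ) : Prop :=
  ∀ x, Groth.L22.Cyc.FibGen f x → δX x = δY (f x) + c

variable [IsLocallyNoetherian X] (f : X ⟶ Y) {δX : X → ℤ} {δY : Y → ℤ} {c : ℤ} (hc : Shift f δX δY c)

include hc in
theorem exists_pull (α : AlgebraicCycle Y ℤ) : ∃ γ : AlgebraicCycle X ℤ, ⇑γ = Cyc.pullFun f δX δY c ⇑α := by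
  refine Groth.L22.C1.exists_cycle _ fun x => ?_
  obtain ⟨W, hW, hxW, -⟩ := exists_isAffineOpen_mem_and_subset (x := f x) (U := ⊤) trivial
  obtain ⟨V, hV, hxV, hVW⟩ := exists_isAffineOpen_mem_and_subset (x := x) (U := f ⁻¹ᵁ W) hxW
  refine ⟨V, hxV, ((α.locallyFiniteSupport.finite_inter_support_of_isCompact hW.isCompact).biUnion
    fun η _ => Groth.L22.Cyc.finite_fibGen_over f hV η).subset fun t ht => ?_⟩
  have h := ht.1
  rw [Function.mem_support, Groth.L22.Cyc.pullFun_eq' f hc, mul_ne_zero_iff] at h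
  exact Set.mem_biUnion (show f t ∈ (W : Set Y) ∩ Function.support ⇑α from ⟨hVW ht.2, h.1⟩)
    ⟨ht.2, by_contra fun h' => h.2 (by rw [Groth.L22.Cyc.mult_eq_top h']; rfl), rfl⟩

include hc in
/-- Flat pullback. -/
def pullC : AlgebraicCycle Y ℤ →+ AlgebraicCycle X ℤ :=
  AddMonoidHom.mk' (fun α => (exists_pull f hc α).choose) fun A B => by
    have h : ∀ (C : AlgebraicCycle Y ℤ) (x : X), (exists_pull f hc C).choose x = Cyc.pullFun f δX δY c ⇑C x :=
      fun C x => congrFun (exists_pull f hc C).choose_spec x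
    refine Function.locallyFinsuppWithin.ext fun x => ?_
    refine (h (A + B) x).trans (Eq.trans ?_ (congrArg₂ (· + ·) (h A x) (h B x)).symm)
    simp only [Cyc.pullFun, Function.locallyFinsuppWithin.coe_add, Pi.add_apply]
    split_ifs <;> ring

theorem pullC_coe (α : AlgebraicCycle Y ℤ) : ⇑(pullC f hc α) = Cyc.pullFun f δX δY c ⇑α :=
  (exists_pull f hc α).choose_spec

theorem pullC_apply (α : AlgebraicCycle Y ℤ) (x : X) :
    pullC f hc α x = α (f x) * ((Groth.L22.Cyc.mult f x).toNat : ℤ) := by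
  rw [pullC_coe, Groth.L22.Cyc.pullFun_eq' f hc]

theorem pullC_mem {k : ℤ} {α : AlgebraicCycle Y ℤ} (hα : α ∈ Cyc.Zk Y δY k) :
    pullC f hc α ∈ Cyc.Zk X δX (k + c) := fun x hx => by
  by_contra h
  rw [pullC_apply] at h
  obtain ⟨h1, h2⟩ := mul_ne_zero_iff.1 h
  have hg : Groth.L22.Cyc.FibGen f x := by_contra fun h' => h2 (by rw [Groth.L22.Cyc.mult_eq_top h']; rfl)
  exact h1 (hα _ fun e => hx (by rw [hc x hg, e]))

variable [IsLocallyNoetherian Y]

theorem pullC_rat [Flat f] (hX : Cyc.IsDimFun X δX) (hY : Cyc.IsDimFun Y δY) {k : ℤ} {α : AlgebraicCycle Y ℤ}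
    (hα : α ∈ ratGroup hY k) : pullC f hc α ∈ ratGroup hX (k + c) :=
  Groth.L22.Cyc.ratEquivZero_pullFun (p := f) hY hX hc α hα _ (pullC_coe f hc α)

end Pull

section Push

variable [IsLocallyNoetherian X] (f : X ⟶ Y) [IsProper f] (δX : X → ℤ) (δY : Y → ℤ)

/-- Proper push-forward. -/
def pushC : AlgebraicCycle X ℤ →+ AlgebraicCycle Y ℤ :=
  AddMonoidHom.mk' (AlgebraicCycle.map f δX δY) fun A B => by
    ext y
    rw [Function.locallyFinsuppWithin.coe_add, Pi.add_apply,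
      Groth.L22.C1.map_sum_apply f δY Finset.univ (fun i : Bool => if i then A else B) (A + B)
        (fun y => by simp) y, Fintype.sum_bool]
    rfl

theorem pushC_eq (A : AlgebraicCycle X ℤ) : pushC f δX δY A = AlgebraicCycle.map f δX δY A := rfl

variable {δX δY} [IsLocallyNoetherian Y]

theorem pushC_rat (hX : Cyc.IsDimFun X δX) (hY : Cyc.IsDimFun Y δY) (hf : Cyc.DeltaCompat f δX δY) {k : ℤ}
    {α : AlgebraicCycle X ℤ} (hα : α ∈ ratGroup hX k) : pushC f δX δY α ∈ ratGroup hY k := by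
  have h : Cyc.RatEquiv δX k α 0 := by rw [Cyc.RatEquiv, sub_zero]; exact hα
  have h2 := Groth.L22.Cyc.ratEquiv_map f hX hY hf _ _ _ h
  rw [Cyc.RatEquiv, show AlgebraicCycle.map f δX δY (0 : AlgebraicCycle X ℤ) = 0 from (pushC f δX δY).map_zero,
    sub_zero] at h2
  exact h2

theorem pushC_mem {k : ℤ} {α : AlgebraicCycle X ℤ} (hα : α ∈ Cyc.Zk X δX k) :
    pushC f δX δY α ∈ Cyc.Zk Y δY k := fun y hy => by
  show (∑ᶠ x ∈ f ⁻¹' {y}, α x * ((AlgebraicCycle.mapCoeff f δX δY x : ℕ) : ℤ)) = 0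
  refine finsum_mem_eq_zero_of_forall_eq_zero fun x hx => ?_
  by_cases e : δX x = δY (f.base x)
  · rw [hα x (fun e' => hy (by rw [← (hx : f x = y)]; exact e.symm.trans e')), zero_mul]
  · rw [AlgebraicCycle.mapCoeff, if_neg e]; simp

end Push

end Groth.L22.Chern
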