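import Groth.Agent.L22.Chern.AffInject
import Groth.Agent.L12.FinCov.Basis
import Groth.Agent.S8271

/-!
Injectivity of the flat pullback to a vector bundle.
-/

set_option autoImplicit false
set_option linter.style.haveILetI false
set_option backward.isDefEq.respectTransparency.types false
set_option backward.isDefEq.respectTransparency false

universe u

open CategoryTheory CategoryTheory.Limits AlgebraicGeometry TopologicalSpace Opposite

noncomputable section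

namespace Groth.L22.Chern

/-- The structure module is the module of the unit algebra. -/
def unitModIso (X : Scheme.{u}) : Coh.structureModule X ≅ (RelSpec.QCAlg.unit X).toModule where
  hom := Groth.L12.FinCov.mkHom (M := Coh.structureModule X) (N := (RelSpec.QCAlg.unit X).toModule)
    (fun _ s => s) (fun _ _ _ => rfl) (fun _ _ _ => rfl) (fun _ _ _ _ => rfl)
  inv := Groth.L12.FinCov.mkHom (M := (RelSpec.QCAlg.unit X).toModule) (N := Coh.structureModule X)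
    (fun _ s => s) (fun _ _ _ => rfl) (fun _ _ _ => rfl) (fun _ _ _ _ => rfl)
  hom_inv_id := Scheme.Modules.hom_ext _ _ fun _ => by ext s; rfl
  inv_hom_id := Scheme.Modules.hom_ext _ _ fun _ => by ext s; rfl

theorem isFinLocFreeOfRank_biprod {X : Scheme.{u}} (ℰ : X.Modules) (r : ℕ) (hr : FlatMod.IsFinLocFreeOfRank r ℰ) :
    FlatMod.IsFinLocFreeOfRank (r + 1) (Coh.structureModule X ⊞ ℰ) := by
  refine Groth.L12.FinCov.isFinLocFreeOfRank_of_bases fun x => ?_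
  obtain ⟨U, hxU, ⟨e⟩⟩ := hr x
  obtain ⟨s, hs⟩ := Groth.L17.FinLocBases.exists_isBasis ℰ e
  have hU : U.ι ''ᵁ ⊤ = U := (Scheme.Hom.image_top_eq_opensRange U.ι).trans U.opensRange_ι
  obtain ⟨V, β, -, hxV, hβ, -⟩ := Groth.L22.Bundle.exists_basis_cons_of
    (biprod.inl : Coh.structureModule X ⟶ Coh.structureModule X ⊞ ℰ) biprod.snd biprod.inl_snd
    (ShortComplex.Splitting.shortExact
      { r := biprod.fst, s := biprod.inr, f_r := biprod.inl_fst, s_g := biprod.inr_snd, id := biprod.total })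
    x s (hU.ge hxU) (Groth.L19.ProjBdl.isBasisOn_of_locBases hs)
  exact ⟨V, β, hxV, hβ⟩

theorem rat_of_rat_vectorBundle {X : Scheme.{u}} {δ : X → ℤ} (hX : Cyc.IsSetup X δ) (ℰ : X.Modules) (r : ℕ)
    (hr : FlatMod.IsFinLocFreeOfRank r ℰ) (A : RelSpec.QCAlg X) (j : ℰ ⟶ A.toModule)
    (hA : RelSpec.IsSymAlg ℰ A j) (δE : ↥A.spec → ℤ) (hE : Cyc.IsSetup A.spec δE)
    (hδ : Cyc.DeltaCompat A.π δE δ) (k : ℤ) (α : AlgebraicCycle X ℤ) (hα : α ∈ Cyc.Zk X δ k)
    (γ : AlgebraicCycle A.spec ℤ) (hγ : ⇑γ = Cyc.pullFun A.π δE δ r ⇑α)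
    (h0 : Cyc.RatEquivZero δE (k + r) γ) : Cyc.RatEquivZero δ k α := by
  let E' := Coh.structureModule X ⊞ ℰ
  have hE' : FlatMod.IsFinLocFreeOfRank (r + 1) E' := isFinLocFreeOfRank_biprod ℰ r hr
  haveI := Groth.L22.Bundle.isQCoh_of_rank hE'
  haveI := Groth.L22.Bundle.isQCoh_of_rank hr
  haveI : Coh.IsQCoh (Coh.structureModule X) :=
    Groth.L22.Bundle.isQCoh_of_rank (Groth.L19.ProjBdl.isFinLocFreeOfRank_one_structureModule (T := X))
  let O : X.Modules := Coh.structureModule X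
  obtain ⟨A1, j1, hA1⟩ : ∃ (A1 : RelSpec.QCAlg X) (j1 : O ⟶ A1.toModule), RelSpec.IsSymAlg O A1 j1 :=
    ⟨_, _, Groth.L18.SymSheaf.isSymAlg O⟩
  obtain ⟨AE, jE, hAE⟩ : ∃ (AE : RelSpec.QCAlg X) (jE : E' ⟶ AE.toModule), RelSpec.IsSymAlg E' AE jE :=
    ⟨_, _, Groth.L18.SymSheaf.isSymAlg E'⟩
  obtain ⟨ψE, hψE, -⟩ := hA1 AE ((biprod.inl : O ⟶ E') ≫ jE)
  obtain ⟨ψF, hψF, -⟩ := hA AE ((biprod.inr : ℰ ⟶ E') ≫ jE)
  let u := (unitModIso X).hom
  obtain ⟨ε, hε, -⟩ := hA1 (RelSpec.QCAlg.unit X) u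
  have hpb := Groth.Agent.S8271.result O ℰ inferInstance inferInstance A1 A AE j1 j jE hA1 hA hAE ψE ψF hψE hψF
  haveI := Groth.L22.Bundle.isIso_unit_π X
  let h0' : A.spec ⟶ (RelSpec.QCAlg.unit X).spec := A.π ≫ inv (RelSpec.QCAlg.unit X).π
  have hw : (h0' ≫ RelSpec.QCAlg.specMap ε) ≫ A1.π = 𝟙 _ ≫ A.π := by
    rw [Category.assoc, RelSpec.QCAlg.specMap_π, Category.assoc, IsIso.inv_hom_id, Category.comp_id, Category.id_comp]
  let σ : A.spec ⟶ AE.spec := hpb.lift (h0' ≫ RelSpec.QCAlg.specMap ε) (𝟙 _) hw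
  have hσ : σ ≫ RelSpec.QCAlg.specMap ψF = 𝟙 _ := hpb.lift_snd _ _ _
  have hσ' : σ ≫ RelSpec.QCAlg.specMap ψE = h0' ≫ RelSpec.QCAlg.specMap ε := hpb.lift_fst _ _ _
  haveI : IsIso (σ ≫ RelSpec.QCAlg.specMap ψF) := by rw [hσ]; infer_instance
  haveI : IsIso (RelSpec.QCAlg.specMap ε ≫ A1.π) := by rw [RelSpec.QCAlg.specMap_π]; infer_instance
  have hB : IsPullback σ h0' (RelSpec.QCAlg.specMap ψE) (RelSpec.QCAlg.specMap ε) :=
    IsPullback.of_right (IsPullback.of_horiz_isIso ⟨by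
      rw [hσ, RelSpec.QCAlg.specMap_π, Category.id_comp, Category.assoc, IsIso.inv_hom_id, Category.comp_id]⟩) hσ' hpb.flip
  refine rat_of_rat_affineBundle hX (biprod.inl : O ⟶ E') (biprod.snd : E' ⟶ ℰ) biprod.inl_snd
    (ShortComplex.Splitting.shortExact
      { r := biprod.fst, s := biprod.inr, f_r := biprod.inl_fst, s_g := biprod.inr_snd, id := biprod.total })
    r hE' hr hAE hA1 ψE hψE u ε hε hB.isoPullback A.π ?_ hE hδ hα γ hγ h0
  rw [hB.isoPullback_hom_fst_assoc, ← RelSpec.QCAlg.specMap_π ψF, reassoc_of% hσ]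

end Groth.L22.Chern
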