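import Groth.Agent.L22.Chern.Compat
import Groth.Agent.L22.C1.Iso
import Groth.Agent.L22.C1.GysinBC
import Groth.Agent.L22.C1.GysinComm
import Groth.Agent.L22.C1.Closed

/-!
Chern class caps commute with the Gysin map of an effective Cartier divisor.
-/

set_option autoImplicit false
set_option linter.style.haveILetI false
set_option backward.isDefEq.respectTransparency.types false
set_option backward.isDefEq.respectTransparency false

universe u

open CategoryTheory CategoryTheory.Limits AlgebraicGeometry TopologicalSpace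
open Groth.L18.Frame (pull)

noncomputable section

namespace Groth.L22.Chern

section Op

variable {X D : Scheme.{u}} [IsLocallyNoetherian X] (i : D ⟶ X) [IsClosedImmersion i]

/-- Restriction of coefficients. -/
def comapC : AlgebraicCycle X ℤ →+ AlgebraicCycle D ℤ :=
  AddMonoidHom.mk' (fun A => (Groth.L22.C1.exists_cycle_comap i A).choose) fun A B => by
    have h : ∀ (C : AlgebraicCycle X ℤ) (d : D), (Groth.L22.C1.exists_cycle_comap i C).choose d = C (i d) :=
      fun C => (Groth.L22.C1.exists_cycle_comap i C).choose_spec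
    refine Function.locallyFinsuppWithin.ext fun d => ?_
    exact (h (A + B) d).trans (congrArg₂ (· + ·) (h A d) (h B d)).symm

theorem comapC_apply (A : AlgebraicCycle X ℤ) (d : D) : comapC i A d = A (i d) :=
  (Groth.L22.C1.exists_cycle_comap i A).choose_spec d

variable {δ : X → ℤ} (hδ : Cyc.IsDimFun X δ) {L : X.Modules} (hL : PicF.IsInvertible L)
  (s : L.presheaf.obj (Opposite.op ⊤)) {w : (ξ : X) → Cyc.secFibre L ξ} (hw : ∀ ξ, w ξ ≠ 0)

/-- The Gysin map on cycles. -/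
def gys : AlgebraicCycle X ℤ →+ AlgebraicCycle D ℤ :=
  (comapC i).comp (cap hδ hL (t := fun _ => Cyc.gysinChoice L s w)
    (fun _ => Groth.L22.C1.gysinChoice_ne_zero s w hw) 1)

theorem gys_apply (A : AlgebraicCycle X ℤ) (d : D) :
    gys i hδ hL s hw A d = Cyc.c1CapFun δ L ⇑A (Cyc.gysinChoice L s w) (i d) := by
  show comapC i _ d = _
  rw [comapC_apply, cap_succ, cap_zero]

theorem gys_mem {k : ℤ} {A : AlgebraicCycle X ℤ} (hA : A ∈ Cyc.Zk X δ k) :
    gys i hδ hL s hw A ∈ Cyc.Zk D (fun d => δ (i d)) (k - 1) := fun d hd => by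
  show comapC i _ d = 0
  rw [comapC_apply]
  exact cap_mem hδ hL _ hA 1 _ (by simpa using hd)

variable [IsLocallyNoetherian D] (hdD : Cyc.IsDimFun D fun d => δ (i d)) (hD : Cyc.IsZeroSchemeOf i L s)

include hD in
theorem gys_rat {k : ℤ} {A : AlgebraicCycle X ℤ} (hA : A ∈ ratGroup hδ k) :
    gys i hδ hL s hw A ∈ ratGroup hdD (k - 1) :=
  Groth.L22.C1.gysin_ratEquivZero hδ hL i s hD (k - 1) A
    (by rw [sub_add_cancel]; exact hA) w hw _ (gys_apply i hδ hL s hw A)

include hD in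
theorem gys_cap {N : X.Modules} (hN : PicF.IsInvertible N) {t : ℕ → (ξ : X) → Cyc.secFibre N ξ}
    (ht : ∀ m ξ, t m ξ ≠ 0) {t' : ℕ → (d : D) → Cyc.secFibre ((Scheme.Modules.pullback i).obj N) d}
    (ht' : ∀ m ξ, t' m ξ ≠ 0) {d : ℤ} {A : AlgebraicCycle X ℤ} (hA : A ∈ Cyc.Zk X δ d) (m : ℕ) :
    gys i hδ hL s hw (cap hδ hN ht m A) -
      cap hdD (Groth.L18.Ample.isInvertible_pullback i hN) ht' m (gys i hδ hL s hw A) ∈
        ratGroup hdD (d - m - 1) := by
  have hN' := Groth.L18.Ample.isInvertible_pullback i hN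
  induction m with
  | zero => rw [cap_zero, cap_zero, sub_self]; exact zero_mem _
  | succ m ih =>
    have h1 : gys i hδ hL s hw (cap hδ hN ht (m + 1) A) -
        cap hdD hN' (t := fun _ => t' m) (fun _ => ht' m) 1 (gys i hδ hL s hw (cap hδ hN ht m A)) ∈
          ratGroup hdD (d - m - 2) :=
      Groth.L22.C1.gysin_c1Cap hδ hL hN i s hD _ _ (cap_mem hδ hN ht hA m) w hw (t m) (ht m) (t' m) (ht' m)
        ⇑(gys i hδ hL s hw (cap hδ hN ht m A)) (funext fun z => gys_apply i hδ hL s hw _ z) _ _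
        (fun z => by rw [gys_apply, cap_succ]) (by rw [cap_succ, cap_zero])
    have h2 := cap_rat hdD hN' (t := fun _ => t' m) (fun _ => ht' m) ih 1
    rw [map_sub, cap_step hdD hN' ht'] at h2
    rw [show d - (m : ℤ) - 1 - ((1 : ℕ) : ℤ) = d - ((m + 1 : ℕ) : ℤ) - 1 by push_cast; ring] at h2
    rw [show d - (m : ℤ) - 2 = d - ((m + 1 : ℕ) : ℤ) - 1 by push_cast; ring] at h1
    simpa using add_mem h1 h2

end Op

/-- Chern caps are insensitive to an isomorphism of the twisting module. -/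
theorem isChernCap_iso {Y P : Scheme.{u}} [IsLocallyNoetherian Y] [IsLocallyNoetherian P] {π : P ⟶ Y}
    {δY : Y → ℤ} {δP : P → ℤ} (hdP : Cyc.IsDimFun P δP) {n : ℕ} (hp : Shift π δP δY (n : ℤ))
    {L M : P.Modules} (φ : L ≅ M) (hL : PicF.IsInvertible L) (hM : PicF.IsInvertible M) {k : ℤ}
    {α : AlgebraicCycle Y ℤ} {γ : Fin (n + 1 + 1) → AlgebraicCycle Y ℤ}
    (h : Cyc.IsChernCap π δY δP L (n + 1) k α γ) : Cyc.IsChernCap π δY δP M (n + 1) k α γ := by
  obtain ⟨a0, a1, a2⟩ := (isChernCap_iff hdP hL hp).1 h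
  obtain ⟨t, ht⟩ := exists_secs hL
  have ht' : ∀ (m : ℕ) (ξ : P), Groth.L22.C1.mapSec φ.hom ξ (t m ξ) ≠ 0 := fun m ξ =>
    Groth.L22.C1.mapSec_ne_zero φ.hom hL hM ξ _ (ht m ξ)
  refine isChernCap_of_one hdP hM hp ht' a0 a1 ?_
  have e : rel hdP hM hp ht' γ = rel hdP hL hp ht γ := Function.locallyFinsuppWithin.ext fun y => by
    rw [rel_apply, rel_apply]
    simp only [Groth.L22.C1.c1PowFun_mapSec φ.hom hL hM hdP]
  rw [e]
  exact a2 t ht

variable {X P D : Scheme.{u}} [IsLocallyNoetherian X] [IsLocallyNoetherian P] {p : P ⟶ X} [IsProper p]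
  {E : X.Modules} {O1 : P.Modules} {q : (Scheme.Modules.pullback p).obj E ⟶ O1} {n : ℕ}
  {δ : X → ℤ} {δP : P → ℤ} (hdX : Cyc.IsDimFun X δ) (hdP : Cyc.IsDimFun P δP) (hδ : Cyc.DeltaCompat p δP δ)
  (hPB : KRR.IsProjBundle p E O1 q) (hE : FlatMod.IsFinLocFreeOfRank (n + 1) E)
  {L : X.Modules} (hL : PicF.IsInvertible L) (s : L.presheaf.obj (Opposite.op ⊤))
  (i : D ⟶ X) [IsClosedImmersion i] (hD : Cyc.IsZeroSchemeOf i L s)
  {w : (ξ : X) → Cyc.secFibre L ξ} (hw : ∀ ξ, w ξ ≠ 0)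

include hdX hdP hδ hPB hE hL hD hw in
theorem isChernCap_gysin {k : ℤ} {α : AlgebraicCycle X ℤ} {γ : Fin (n + 1 + 1) → AlgebraicCycle X ℤ}
    (hγ : Cyc.IsChernCap p δ δP O1 (n + 1) k α γ) :
    Cyc.IsChernCap (pullback.snd p i) (fun d => δ (i d)) (fun z => δP (pullback.fst p i z))
      ((Scheme.Modules.pullback (pullback.fst p i)).obj O1) (n + 1) (k - 1)
      (gys i hdX hL s hw α) (fun j => gys i hdX hL s hw (γ j)) := by
  haveI : IsLocallyNoetherian D := LocallyOfFiniteType.isLocallyNoetherian i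
  haveI : IsLocallyNoetherian (↑(pullback p i) : Scheme.{u}) :=
    LocallyOfFiniteType.isLocallyNoetherian (pullback.fst p i)
  haveI := Groth.L22.Bundle.flat_of_isProjBundle hPB hE
  have hdD := Groth.L22.Cyc.isDimFun_closedImmersion i hdX
  have hdR := Groth.L22.Cyc.isDimFun_closedImmersion (pullback.fst p i) hdP
  have hO := Groth.L22.Bundle.isInvertible_of_one hPB.invertible
  have hO' := Groth.L18.Ample.isInvertible_pullback (pullback.fst p i) hO
  have hp : Shift p δP δ (n : ℤ) := Groth.L22.Bundle.delta_of_fibGen hdP hδ hPB hE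
  have hrd : Cyc.HasRelDim p n := Groth.L22.Cyc.hasRelDim_of_rtrdeg p fun x hx => by
    obtain ⟨b, hb, hbd⟩ := hδ x
    have hs := hp x hx
    have : b = n := by omega
    rw [show Groth.L22.Cyc.rtrdeg p x = (b : Cardinal.{u}) from hb, this]
  have hPB' := Groth.L22.Bundle.isProjBundle_baseChange q hPB (IsPullback.of_hasPullback p i)
  have hE' := rank_pullback i hE
  have hδ' : Cyc.DeltaCompat (pullback.snd p i) (fun z => δP (pullback.fst p i z)) fun d => δ (i d) :=
    Groth.L22.Bundle.deltaCompat_cancel (pullback.snd p i) i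
      (pullback.condition (f := p) (g := i) ▸ Groth.L22.Bundle.deltaCompat_comp (pullback.fst p i) p hδ)
      (Groth.L22.C1.deltaCompat_closedImmersion i δ)
  have hps : Shift (pullback.snd p i) (fun z => δP (pullback.fst p i z)) (fun d => δ (i d)) (n : ℤ) :=
    Groth.L22.Bundle.delta_of_fibGen hdR hδ' hPB' hE'
  have hM := Groth.L18.Ample.isInvertible_pullback p hL
  have hτ := Groth.L22.C1.isZeroScheme_base p i hL s hD
  have hw' : ∀ ξ, Groth.L22.C1.pullSec p w ξ ≠ 0 := fun ξ => Groth.L22.C1.pullSec_ne_zero p hL hM w ξ (hw _)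
  obtain ⟨a0, a1, a2⟩ := (isChernCap_iff hdP hO hp).1 hγ
  obtain ⟨t, ht⟩ := exists_secs hO
  obtain ⟨t', ht'⟩ := exists_secs hO'
  refine isChernCap_of_one hdR hO' hps ht' (congrArg _ a0) (fun j => ?_) ?_
  · have := gys_mem i hdX hL s hw (a1 j)
    rwa [show k - ((j : ℕ) : ℤ) - 1 = k - 1 - ((j : ℕ) : ℤ) by ring] at this
  · have h1 := gys_rat (pullback.fst p i) hdP hM (pull p L ⊤ s) hw' hdR hτ (a2 t ht)
    have h2 : gys (pullback.fst p i) hdP hM (pull p L ⊤ s) hw' (rel hdP hO hp ht γ) -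
        rel hdR hO' hps ht' (fun j => gys i hdX hL s hw (γ j)) ∈ ratGroup hdR (k - 1 - 1) := by
      simp only [rel, map_sum, map_zsmul, ← Finset.sum_sub_distrib, ← smul_sub]
      refine sum_mem fun l _ => zsmul_mem ?_ _
      have hB : γ (Fin.rev l) ∈ Cyc.Zk X δ (k - ((Fin.rev l : Fin (n + 1 + 1)) : ℤ) - 1 + 1) := by
        rw [sub_add_cancel]; exact a1 _
      have hgp : gys (pullback.fst p i) hdP hM (pull p L ⊤ s) hw' (pullC p hp (γ (Fin.rev l))) -
          pullC (pullback.snd p i) hps (gys i hdX hL s hw (γ (Fin.rev l))) ∈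
            ratGroup hdR (k - ((Fin.rev l : Fin (n + 1 + 1)) : ℤ) - 1 + n) :=
        Groth.L22.C1.gysin_pullFun p i hL s hD hdX hdP n hrd hδ _ hτ _ (γ (Fin.rev l)) hB w hw _ hw' _ _
          (fun z => by rw [gys_apply, pullC_coe])
          (by rw [pullC_coe, show ⇑(gys i hdX hL s hw (γ (Fin.rev l))) =
            fun d => Cyc.c1CapFun δ L ⇑(γ (Fin.rev l)) (Cyc.gysinChoice L s w) (i d) from
              funext fun d => gys_apply i hdX hL s hw _ d])
      rw [show k - ((Fin.rev l : Fin (n + 1 + 1)) : ℤ) - 1 + n = k - 2 + (l : ℕ) by rw [rev_cast]; ring] at hgp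
      have e1 := gys_cap (pullback.fst p i) hdP hM (pull p L ⊤ s) hw' hdR hτ hO ht ht'
        (term_mem hp a1 l) (l : ℕ)
      have e2 := cap_rat hdR hO' ht' hgp (l : ℕ)
      rw [map_sub] at e2
      rw [show k - 1 + ((l : ℕ) : ℤ) - ((l : ℕ) : ℤ) - 1 = k - 1 - 1 by ring] at e1
      rw [show k - 2 + ((l : ℕ) : ℤ) - ((l : ℕ) : ℤ) = k - 1 - 1 by ring] at e2
      simpa using add_mem e1 e2
    simpa using sub_mem h1 h2

end Groth.L22.Chern
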