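import Groth.Agent.L22.Chern.Compat
import Groth.Agent.L22.Chern.Gysin
import Groth.Agent.L22.C1.Tensor
import Mathlib.Algebra.BigOperators.Intervals

/-!
The relation of Chern caps for a twist by an invertible module.
-/

set_option autoImplicit false
set_option linter.style.haveILetI false
set_option linter.unusedSectionVars false
set_option backward.isDefEq.respectTransparency false

universe u

open CategoryTheory CategoryTheory.Limits AlgebraicGeometry TopologicalSpace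

noncomputable section

namespace Groth.L22.Chern

/-- Pascal's rule for weighted sums. -/
theorem sum_pascal {G : Type*} [AddCommGroup G] (f : ℕ → G) (i : ℕ) :
    ∑ a ∈ Finset.range (i + 2), ((i + 1).choose a : ℤ) • f a =
      ∑ a ∈ Finset.range (i + 1), (i.choose a : ℤ) • (f (a + 1) + f a) := by
  have h : ∑ a ∈ Finset.range (i + 1), (i.choose a : ℤ) • f a =
      (i.choose 0 : ℤ) • f 0 + ∑ a ∈ Finset.range (i + 1), (i.choose (a + 1) : ℤ) • f (a + 1) := by
    rw [Finset.sum_range_succ' (fun a => (i.choose a : ℤ) • f a) i,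
      Finset.sum_range_succ (fun a => (i.choose (a + 1) : ℤ) • f (a + 1)) i, Nat.choose_succ_self]
    simp [add_comm]
  rw [Finset.sum_range_succ' _ (i + 1)]
  simp only [Nat.choose_succ_succ, Nat.succ_eq_add_one, Nat.cast_add, add_smul, smul_add, Finset.sum_add_distrib]
  rw [h]
  simp only [Nat.choose_zero_right]
  abel

theorem sum_sign_choose (a m : ℕ) :
    ∑ i ∈ Finset.range (m + 1), (-1 : ℤ) ^ i * (m.choose i : ℤ) * (i.choose a : ℤ) =
      if a = m then (-1 : ℤ) ^ m else 0 := by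
  rcases Nat.lt_or_ge m a with h | h
  · rw [if_neg (by omega)]
    refine Finset.sum_eq_zero fun i hi => ?_
    rw [Nat.choose_eq_zero_of_lt (lt_of_lt_of_le' h (by simpa [Nat.lt_succ_iff] using hi))]
    simp
  · obtain ⟨d, rfl⟩ := Nat.exists_eq_add_of_le h
    rw [show a + d + 1 = a + (d + 1) by ring, Finset.sum_range_add]
    rw [Finset.sum_eq_zero fun i hi => by
      rw [Nat.choose_eq_zero_of_lt (Finset.mem_range.1 hi)]; simp, zero_add]
    have e : ∀ l ∈ Finset.range (d + 1), (-1 : ℤ) ^ (a + l) * ((a + d).choose (a + l) : ℤ) * ((a + l).choose a : ℤ) =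
        ((-1 : ℤ) ^ a * ((a + d).choose a : ℤ)) * ((-1 : ℤ) ^ l * (d.choose l : ℤ)) := fun l _ => by
      have h1 := Nat.choose_mul (n := a + d) (k := a + l) (s := a) (Nat.le_add_right a l)
      rw [show a + d - a = d by omega, show a + l - a = l by omega] at h1
      have h2 : ((a + d).choose (a + l) : ℤ) * ((a + l).choose a : ℤ) = ((a + d).choose a : ℤ) * (d.choose l : ℤ) := by
        exact_mod_cast h1
      rw [pow_add, mul_assoc, h2]
      ring
    rw [Finset.sum_congr rfl e, ← Finset.mul_sum, Int.alternating_sum_range_choose]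
    rcases Nat.eq_zero_or_pos d with rfl | hd
    · simp
    · rw [if_neg (by omega), if_neg (by omega), mul_zero]

variable {X P : Scheme.{u}} [IsLocallyNoetherian X] [IsLocallyNoetherian P] {p : P ⟶ X} [Flat p]
  {δ : X → ℤ} {δP : P → ℤ} (hdX : Cyc.IsDimFun X δ) (hdP : Cyc.IsDimFun P δP)
  {O O' : P.Modules} (hL : PicF.IsInvertible O) (hL' : PicF.IsInvertible O')
  {M : X.Modules} (hM : PicF.IsInvertible M) {n : ℕ} (hp : Shift p δP δ (n : ℤ))
  (e : CohB1.tensorMod O ((Scheme.Modules.pullback p).obj M) ≅ O')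

section Const

variable {Y : Scheme.{u}} [IsLocallyNoetherian Y] {δY : Y → ℤ} (hdY : Cyc.IsDimFun Y δY) {N : Y.Modules}
  (hN : PicF.IsInvertible N) {s : (ξ : Y) → Cyc.secFibre N ξ} (hs : ∀ ξ, s ξ ≠ 0)

/-- The iterated cap with one section. -/
def pw (m : ℕ) : AlgebraicCycle Y ℤ →+ AlgebraicCycle Y ℤ := cap hdY hN (t := fun _ => s) (fun _ => hs) m

theorem pw_succ (m : ℕ) (A : AlgebraicCycle Y ℤ) : pw hdY hN hs 1 (pw hdY hN hs m A) = pw hdY hN hs (m + 1) A :=
  cap_step hdY hN (t := fun _ => s) (fun _ => hs) m A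

theorem pw_pw (i : ℕ) : ∀ (j : ℕ) (A : AlgebraicCycle Y ℤ), pw hdY hN hs i (pw hdY hN hs j A) = pw hdY hN hs (i + j) A := by
  induction i with
  | zero => intro j A; rw [zero_add]; exact cap_zero _ _ _ _
  | succ i ih =>
    intro j A
    rw [← pw_succ hdY hN hs i, ih j, pw_succ hdY hN hs (i + j), show i + j + 1 = i + 1 + j by ring]

theorem pw_mem {d : ℤ} {A : AlgebraicCycle Y ℤ} (hA : A ∈ Cyc.Zk Y δY d) (m : ℕ) :
    pw hdY hN hs m A ∈ Cyc.Zk Y δY (d - m) := cap_mem hdY hN _ hA m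

theorem pw_rat {d : ℤ} {A : AlgebraicCycle Y ℤ} (hA : A ∈ ratGroup hdY d) (m : ℕ) :
    pw hdY hN hs m A ∈ ratGroup hdY (d - m) := cap_rat hdY hN _ hA m

end Const

variable {s : (ξ : P) → Cyc.secFibre O ξ} (hs : ∀ ξ, s ξ ≠ 0) {s' : (ξ : P) → Cyc.secFibre O' ξ} (hs' : ∀ ξ, s' ξ ≠ 0)
  {u : (ξ : X) → Cyc.secFibre M ξ} (hu : ∀ ξ, u ξ ≠ 0)

include e in
theorem pw_split {v : (ξ : P) → Cyc.secFibre ((Scheme.Modules.pullback p).obj M) ξ} (hv : ∀ ξ, v ξ ≠ 0)
    {d : ℤ} {B : AlgebraicCycle P ℤ} (hB : B ∈ Cyc.Zk P δP d) :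
    pw hdP hL' hs' 1 B -
      (pw hdP hL hs 1 B + pw hdP (Groth.L18.Ample.isInvertible_pullback p hM) hv 1 B) ∈ ratGroup hdP (d - 1) := by
  have hM' := Groth.L18.Ample.isInvertible_pullback p hM
  have hT := Groth.L18.GenLoc.isInvertible_tensor hL hM'
  obtain ⟨w, hw⟩ := exists_secs hT
  have h1 : pw hdP hL hs 1 B + pw hdP hM' hv 1 B - cap hdP hT hw 1 B ∈ ratGroup hdP (d - 1) :=
    Groth.L22.C1.c1Cap_tensor hdP hL hM' hT (d - 1) B (by rwa [sub_add_cancel]) s hs v hv (w 0) (hw 0) _ _ _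
      (by rw [pw, cap_succ, cap_zero]) (by rw [pw, cap_succ, cap_zero]) (by rw [cap_succ, cap_zero])
  have hw' : ∀ (m : ℕ) (ξ : P), Groth.L22.C1.mapSec e.hom ξ (w m ξ) ≠ 0 := fun m ξ =>
    Groth.L22.C1.mapSec_ne_zero e.hom hT hL' ξ _ (hw m ξ)
  have e1 : cap hdP hL' hw' 1 B = cap hdP hT hw 1 B := DFunLike.coe_injective (by
    rw [cap_coe, cap_coe, Groth.L22.C1.c1PowFun_mapSec e.hom hT hL' hdP])
  have h2 := cap_change hdP hL' (t := fun _ => s') (fun _ => hs') hw' hB 1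
  rw [e1] at h2
  rw [show ((1 : ℕ) : ℤ) = 1 from Nat.cast_one] at h2
  have := sub_mem h2 h1
  simpa [pw] using this

include hdX e hM hu in
theorem pw_expand {d : ℤ} {A : AlgebraicCycle X ℤ} (hA : A ∈ Cyc.Zk X δ d) (i : ℕ) :
    pw hdP hL' hs' i (pullC p hp A) -
      ∑ a ∈ Finset.range (i + 1), (i.choose a : ℤ) • pw hdP hL hs a (pullC p hp (pw hdX hM hu (i - a) A)) ∈
        ratGroup hdP (d + n - i) := by
  have hM' := Groth.L18.Ample.isInvertible_pullback p hM
  obtain ⟨v, hv⟩ := exists_secs hM'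
  induction i with
  | zero =>
    rw [show (0 + 1) = 1 from rfl, Finset.sum_range_one]
    simp [pw, cap_zero]
  | succ i ih =>
    have h1 := pw_rat hdP hL' hs' ih 1
    rw [map_sub, pw_succ, map_sum] at h1
    simp only [map_zsmul] at h1
    rw [show d + (n : ℤ) - (i : ℤ) - ((1 : ℕ) : ℤ) = d + n - ((i + 1 : ℕ) : ℤ) by push_cast; ring] at h1
    have h2 : (∑ a ∈ Finset.range (i + 1), (i.choose a : ℤ) • pw hdP hL' hs' 1 (pw hdP hL hs a (pullC p hp (pw hdX hM hu (i - a) A)))) -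
        ∑ a ∈ Finset.range (i + 1), (i.choose a : ℤ) • (pw hdP hL hs (a + 1) (pullC p hp (pw hdX hM hu (i + 1 - (a + 1)) A)) +
          pw hdP hL hs a (pullC p hp (pw hdX hM hu (i + 1 - a) A))) ∈ ratGroup hdP (d + n - ((i + 1 : ℕ) : ℤ)) := by
      rw [← Finset.sum_sub_distrib]
      refine sum_mem fun a ha => ?_
      rw [← smul_sub]
      refine zsmul_mem ?_ _
      have hai : a ≤ i := Nat.lt_succ_iff.1 (Finset.mem_range.1 ha)
      have hA1 := pw_mem hdX hM hu hA (i - a)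
      have hB := pw_mem hdP hL hs (pullC_mem p hp hA1) a
      rw [show d - ((i - a : ℕ) : ℤ) + n - (a : ℤ) = d + n - (i : ℤ) by omega] at hB
      have s1 := pw_split hdP hL hL' hM e hs hs' (hv 0) hB
      rw [pw_succ] at s1
      have s2 := cap_comm hdP hL hM' (t := fun _ => s) (fun _ => hs) (v := fun _ => v 0) (fun _ => hv 0)
        (pullC_mem p hp hA1) a
      have s3 := cap_pullC hdP hdX hM p hp (t := fun _ => u) (fun _ => hu) (t' := fun _ => v 0) (fun _ => hv 0) hA1 1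
      have s4 := pw_rat hdP hL hs s3 a
      rw [map_sub] at s4
      rw [show d + (n : ℤ) - (i : ℤ) - 1 = d + n - ((i + 1 : ℕ) : ℤ) by push_cast; ring] at s1
      rw [show d - ((i - a : ℕ) : ℤ) + n - (a : ℤ) - 1 = d + n - ((i + 1 : ℕ) : ℤ) by omega] at s2
      rw [show d - ((i - a : ℕ) : ℤ) + n - ((1 : ℕ) : ℤ) - (a : ℤ) = d + n - ((i + 1 : ℕ) : ℤ) by omega] at s4
      have e2 : cap hdX hM (t := fun _ => u) (fun _ => hu) 1 (pw hdX hM hu (i - a) A) = pw hdX hM hu (i + 1 - a) A := by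
        show pw hdX hM hu 1 _ = _
        rw [pw_succ]
        congr 2
        omega
      rw [e2] at s4
      rw [show i + 1 - (a + 1) = i - a by omega]
      have := add_mem s1 (sub_mem s2 s4)
      refine (congrArg (· ∈ ratGroup hdP _) ?_).mp this
      simp only [pw]
      abel
    rw [sum_pascal (fun a => pw hdP hL hs a (pullC p hp (pw hdX hM hu (i + 1 - a) A))) i]
    simpa using add_mem h1 h2

include hdX hdP hL hL' hp e hM hu in
/-- The Chern caps of a twist. -/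
theorem isChernCap_tensor {k : ℤ} {α : AlgebraicCycle X ℤ} {γ : Fin (n + 1 + 1) → AlgebraicCycle X ℤ}
    (hγ : Cyc.IsChernCap p δ δP O (n + 1) k α γ) :
    Cyc.IsChernCap p δ δP O' (n + 1) k α (fun i => ∑ j ∈ Finset.range ((i : ℕ) + 1),
      ((n + 1 - (i : ℕ) + j).choose j : ℤ) • pw hdX hM hu j (γ ⟨(i : ℕ) - j, by omega⟩)) := by
  obtain ⟨s, hs⟩ := exists_secs hL
  obtain ⟨s', hs'⟩ := exists_secs hL'
  obtain ⟨a0, a1, a2⟩ := (isChernCap_iff hdP hL hp).1 hγ
  let g : ℕ → AlgebraicCycle X ℤ := fun m => if h : m < n + 1 + 1 then γ ⟨m, h⟩ else 0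
  have hg : ∀ m (h : m < n + 1 + 1), g m = γ ⟨m, h⟩ := fun m h => dif_pos h
  let T : ℕ → AlgebraicCycle X ℤ := fun i => ∑ j ∈ Finset.range (i + 1),
    ((n + 1 - i + j).choose j : ℤ) • pw hdX hM hu j (g (i - j))
  have hT : (fun i : Fin (n + 1 + 1) => ∑ j ∈ Finset.range ((i : ℕ) + 1),
      ((n + 1 - (i : ℕ) + j).choose j : ℤ) • pw hdX hM hu j (γ ⟨(i : ℕ) - j, by omega⟩)) = fun i : Fin (n + 1 + 1) => T i := by
    funext i
    exact Finset.sum_congr rfl fun j _ => by rw [hg _ (by omega)]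
  rw [hT]
  have hgm : ∀ m, m < n + 1 + 1 → g m ∈ Cyc.Zk X δ (k - m) := fun m h => by rw [hg m h]; exact a1 ⟨m, h⟩
  refine isChernCap_of_one hdP hL' hp (t := fun _ => s' 0) (fun _ => hs' 0) ?_ (fun i => ?_) ?_
  · show T ((0 : Fin (n + 1 + 1)) : ℕ) = α
    simp [T, pw, cap_zero, ← a0, g]
  · refine sum_mem (S := zGroup δ _) fun j hj => zsmul_mem ?_ _
    have hji : j ≤ (i : ℕ) := Nat.lt_succ_iff.1 (Finset.mem_range.1 hj)
    have := pw_mem hdX hM hu (hgm ((i : ℕ) - j) (by omega)) j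
    rwa [show k - (((i : ℕ) - j : ℕ) : ℤ) - (j : ℤ) = k - ((i : ℕ) : ℤ) by omega] at this
  · let N := n + 1 + 1
    let F : ℕ → ℕ → AlgebraicCycle P ℤ := fun a m =>
      pw hdP hL (hs 0) a (pullC p hp (pw hdX hM hu (m - a) (g (n + 1 - m))))
    have hrev : ∀ i : Fin N, ((Fin.rev i : Fin N) : ℕ) = n + 1 - (i : ℕ) := fun i => by
      rw [Fin.val_rev]; omega
    -- the relation as a double sum
    have h1 : rel hdP hL' hp (t := fun _ => s' 0) (fun _ => hs' 0) (fun i : Fin N => T i) -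
        ∑ i ∈ Finset.range N, ∑ m ∈ Finset.Ico i N, ∑ a ∈ Finset.range (i + 1),
          (((-1 : ℤ) ^ i * (m.choose i : ℤ) * (i.choose a : ℤ))) • F a m ∈ ratGroup hdP (k - 1) := by
      rw [rel, ← Fin.sum_univ_eq_sum_range (fun i => ∑ m ∈ Finset.Ico i N, ∑ a ∈ Finset.range (i + 1),
          (((-1 : ℤ) ^ i * (m.choose i : ℤ) * (i.choose a : ℤ))) • F a m) N, ← Finset.sum_sub_distrib]
      refine sum_mem fun i _ => ?_
      have hi := i.isLt
      rw [Finset.sum_Ico_eq_sum_range]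
      simp only [T, hrev, map_sum, map_zsmul, Finset.smul_sum]
      rw [show n + 1 - (i : ℕ) + 1 = N - (i : ℕ) by omega, ← Finset.sum_sub_distrib]
      refine sum_mem fun j hj => ?_
      have hjl : j < N - (i : ℕ) := Finset.mem_range.1 hj
      rw [show n + 1 - (n + 1 - (i : ℕ)) + j = (i : ℕ) + j by omega,
        show n + 1 - (i : ℕ) - j = n + 1 - ((i : ℕ) + j) by omega]
      have hz := pw_mem hdX hM hu (hgm (n + 1 - ((i : ℕ) + j)) (by omega)) j
      have h := zsmul_mem (pw_expand hdX hdP hL hL' hM hp e (hs 0) (hs' 0) hu hz (i : ℕ))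
        ((-1 : ℤ) ^ (i : ℕ) * (((i : ℕ) + j).choose j : ℤ))
      rw [show k - ((n + 1 - ((i : ℕ) + j) : ℕ) : ℤ) - (j : ℤ) + n - ((i : ℕ) : ℤ) = k - 1 by omega] at h
      rw [smul_sub, Finset.smul_sum] at h
      refine (congrArg (· ∈ ratGroup hdP _) ?_).mp h
      simp only [smul_smul]
      congr 1
      refine Finset.sum_congr rfl fun a ha => ?_
      have hai : a ≤ (i : ℕ) := Nat.lt_succ_iff.1 (Finset.mem_range.1 ha)
      simp only [F, pw_pw]
      rw [show (i : ℕ) - a + j = (i : ℕ) + j - a by omega, Nat.choose_symm_add]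
    have h2 : (∑ i ∈ Finset.range N, ∑ m ∈ Finset.Ico i N, ∑ a ∈ Finset.range (i + 1),
        (((-1 : ℤ) ^ i * (m.choose i : ℤ) * (i.choose a : ℤ))) • F a m) =
        rel hdP hL hp (t := fun _ => s 0) (fun _ => hs 0) γ := by
      rw [Finset.range_eq_Ico, Finset.sum_Ico_Ico_comm]
      rw [← Finset.range_eq_Ico, rel, ← Fin.sum_univ_eq_sum_range]
      refine Finset.sum_congr rfl fun i _ => ?_
      have hi := i.isLt
      rw [← Finset.range_eq_Ico]
      have e3 : ∀ l ∈ Finset.range ((i : ℕ) + 1), (∑ a ∈ Finset.range (l + 1),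
          (((-1 : ℤ) ^ l * ((i : ℕ).choose l : ℤ) * (l.choose a : ℤ))) • F a (i : ℕ)) =
          ∑ a ∈ Finset.range ((i : ℕ) + 1),
            (((-1 : ℤ) ^ l * ((i : ℕ).choose l : ℤ) * (l.choose a : ℤ))) • F a (i : ℕ) := fun l hl => by
        refine Finset.sum_subset (Finset.range_mono (Finset.mem_range.1 hl)) fun a _ ha => ?_
        rw [Nat.choose_eq_zero_of_lt (n := l) (k := a) (by rw [Finset.mem_range] at ha; omega)]
        simp
      rw [Finset.sum_congr rfl e3, Finset.sum_comm]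
      simp only [← Finset.sum_smul, sum_sign_choose]
      rw [Finset.sum_eq_single (i : ℕ) (fun a _ ha => by rw [if_neg ha, zero_smul])
        (fun h => absurd (Finset.self_mem_range_succ _) h), if_pos rfl]
      simp only [F, Nat.sub_self]
      congr 2
      rw [show pw hdX hM hu 0 (g (n + 1 - (i : ℕ))) = g (n + 1 - (i : ℕ)) from cap_zero _ _ _ _,
        hg _ (by omega), show (⟨n + 1 - (i : ℕ), by omega⟩ : Fin N) = Fin.rev i from Fin.ext (hrev i).symm]
    rw [h2] at h1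
    simpa using add_mem h1 (a2 (fun _ => s 0) (fun _ => hs 0))

end Groth.L22.Chern
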