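import Groth.Agent.L22.Chern.Classes
import Groth.Agent.L22.Chern.TensorRel
import Groth.Agent.L18.PBundle.TensorLine
import Groth.Agent.S8258

/-!
Chern caps of a tensor product with an invertible module.
-/

set_option autoImplicit false
set_option linter.style.haveILetI false
set_option linter.unusedSectionVars false
set_option backward.isDefEq.respectTransparency false

universe u

open CategoryTheory CategoryTheory.Limits AlgebraicGeometry TopologicalSpace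
open Groth.L00.Tensor (tensorIso tensorPowOne)

noncomputable section

namespace Groth.L22.Chern

variable {X : Scheme.{u}}

/-- A relative-`Proj` model of the projective bundle. -/
theorem exists_relProj_bundle {E : X.Modules} (hq : Coh.IsQCoh E) :
    ∃ (𝒮 : RelProj.QCGrAlg X) (j : E ⟶ 𝒮.toModule) (P : Scheme.{u}) (p : P ⟶ X)
      (chart : ∀ (U : X.Opens) (hU : IsAffineOpen U), (((p ⁻¹ᵁ U : P.Opens) : Scheme.{u}) ≅ Proj (𝒮.deg U hU)))
      (O : P.Modules) (lam : ∀ (U : X.Opens) (hU : IsAffineOpen U),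
        O ⟶ (Scheme.Modules.pushforward (RelProj.emb p chart U hU)).obj (GrTwist.twist (𝒮.deg U hU) 1))
      (q : (Scheme.Modules.pullback p).obj E ⟶ O),
      RelProj.IsGrSymAlg E 𝒮 j ∧ RelProj.IsRelProj 𝒮 p chart ∧ RelProj.IsRelTwist 𝒮 p chart 1 O lam ∧
        KRR.IsProjBundle p E O q := by
  haveI := hq
  have hS := Groth.L18.SymSheaf.isGrSymAlg E
  obtain ⟨P, p, chart, hP⟩ := Groth.Agent.S8258.result (Groth.L18.SymSheaf.symGr E)
  obtain ⟨O, lam, hO⟩ := Groth.L18.PBundle.exists_twist hP 1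
  have hinv := Groth.L18.RelTilde.isInvertible_of_genDegOne
    (Groth.L18.PBundle.isGenDegOne_of_isGrSymAlg hq hS) hO
  obtain ⟨q, hPB⟩ := Groth.L22.Bundle.exists_isProjBundle hq hS hP hO hinv
  exact ⟨_, _, P, p, chart, O, lam, q, hS, hP, hO, hPB⟩

/-- A bundle of `E ⊗ M` over the bundle of `E`. -/
theorem exists_tensor_bundle {n : ℕ} {E M : X.Modules} (hE : FlatMod.IsFinLocFreeOfRank (n + 1) E)
    (hM : PicF.IsInvertible M) {P : Scheme.{u}} {p : P ⟶ X} {O1 : P.Modules}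
    {q : (Scheme.Modules.pullback p).obj E ⟶ O1} (hP : KRR.IsProjBundle p E O1 q) :
    ∃ (P' : Scheme.{u}) (p' : P' ⟶ X) (O' : P'.Modules)
      (q' : (Scheme.Modules.pullback p').obj (CohB1.tensorMod E M) ⟶ O') (h : P' ⟶ P),
      KRR.IsProjBundle p' (CohB1.tensorMod E M) O' q' ∧ IsIso h ∧ h ≫ p = p' ∧
        Nonempty (CohB1.tensorMod ((Scheme.Modules.pullback h).obj O1) ((Scheme.Modules.pullback p').obj M) ≅ O') := by
  have hq : Coh.IsQCoh E := Groth.L29.DC.PCQCoh.isQCoh_of_isFinLocFree (Groth.L18.KRRAmple.isFinLocFree_of_rank hE)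
  haveI := hq
  haveI := Groth.L21.Extend.isQCoh_of_isInvertible hM
  have hq' : Coh.IsQCoh (CohB1.tensorMod E M) := Groth.L00.Tensor.isQCoh_tensorMod E M
  obtain ⟨𝒮, j, P0, p0, c0, O0, l0, q0, hS, hR0, hO0, hB0⟩ := exists_relProj_bundle hq
  obtain ⟨𝒯, k, P1, p1, c1, O1', l1, q1, hT, hR1, hO1, hB1⟩ := exists_relProj_bundle hq'
  obtain ⟨h0, hh0, hh0p, ⟨e0⟩⟩ := exists_bundle_iso (Iso.refl E) hP hB0
  obtain ⟨i, hi, hiso⟩ := Groth.L18.PBundle.exists_iso_tensor hq hM hS hT hR0 hR1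
  obtain ⟨e1⟩ := hiso 1 O0 l0 O1' l1 hO0 hO1
  haveI := hh0
  have hip : i.inv ≫ p0 = p1 := by rw [← hi, Iso.inv_hom_id_assoc]
  refine ⟨P1, p1, O1', q1, i.inv ≫ h0, hB1, inferInstance, by rw [Category.assoc, hh0p, hip], ⟨?_⟩⟩
  let a : (Scheme.Modules.pullback (i.inv ≫ h0)).obj O1 ≅ (Scheme.Modules.pullback i.inv).obj O0 :=
    ((Scheme.Modules.pullbackComp i.inv h0).app O1).symm ≪≫ (Scheme.Modules.pullback i.inv).mapIso e0
  let b : (Scheme.Modules.pullback p1).obj M ≅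
      (Scheme.Modules.pullback i.inv).obj ((Scheme.Modules.pullback p0).obj (CohB1.tensorPow M 1)) :=
    (Scheme.Modules.pullback p1).mapIso (tensorPowOne M).symm ≪≫
      (Scheme.Modules.pullbackCongr hip).symm.app _ ≪≫ ((Scheme.Modules.pullbackComp i.inv p0).app _).symm
  exact tensorIso a b ≪≫ Groth.L29.DC.PullTensor.pullTensor i.inv _ _ ≪≫
    (Scheme.Modules.pullback i.inv).mapIso e1.symm ≪≫ (Scheme.Modules.pullbackComp i.inv i.hom).app O1' ≪≫
      (Scheme.Modules.pullbackCongr i.inv_hom_id).app O1' ≪≫ (Scheme.Modules.pullbackId P1).app O1'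

variable [IsLocallyNoetherian X] {δ : X → ℤ}

/-- Chern caps of a twist, on arbitrary bundles. -/
theorem isChernCap_twist (hX : Cyc.IsSetup X δ) {n : ℕ} {E E' M : X.Modules}
    (hE : FlatMod.IsFinLocFreeOfRank (n + 1) E) (hE' : FlatMod.IsFinLocFreeOfRank (n + 1) E')
    (hM : PicF.IsInvertible M) (θ : CohB1.tensorMod E M ≅ E') {P P' : Scheme.{u}} {p : P ⟶ X} {p' : P' ⟶ X}
    {O1 : P.Modules} {O1' : P'.Modules} {q : (Scheme.Modules.pullback p).obj E ⟶ O1}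
    {q' : (Scheme.Modules.pullback p').obj E' ⟶ O1'} (hP : KRR.IsProjBundle p E O1 q)
    (hP' : KRR.IsProjBundle p' E' O1' q') {δP : P → ℤ} {δP' : P' → ℤ} (hδ : Cyc.DeltaCompat p δP δ)
    (hδ' : Cyc.DeltaCompat p' δP' δ) {u : (ξ : X) → Cyc.secFibre M ξ} (hu : ∀ ξ, u ξ ≠ 0) {k : ℤ}
    {α : AlgebraicCycle X ℤ} {γ : Fin (n + 1 + 1) → AlgebraicCycle X ℤ}
    (hγ : Cyc.IsChernCap p δ δP O1 (n + 1) k α γ) :
    Cyc.IsChernCap p' δ δP' O1' (n + 1) k α (fun i => ∑ j ∈ Finset.range ((i : ℕ) + 1),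
      ((n + 1 - (i : ℕ) + j).choose j : ℤ) • pw hX.2.2 hM hu j (γ ⟨(i : ℕ) - j, by omega⟩)) := by
  obtain ⟨P1, p1, O', q1, h, hB1, hh, hhp, ⟨e⟩⟩ := exists_tensor_bundle hE hM hP
  haveI := hh
  haveI := isProper_bundle hP hE
  have hE1 : FlatMod.IsFinLocFreeOfRank (n + 1) (CohB1.tensorMod E M) := fun x => by
    obtain ⟨U, hx, ⟨i⟩⟩ := hE' x
    exact ⟨U, hx, ⟨(Scheme.Modules.restrictFunctor U.ι).mapIso θ ≪≫ i⟩⟩
  haveI := isProper_bundle hB1 hE1
  haveI := isProper_bundle hP' hE'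
  haveI := Groth.L22.Bundle.flat_of_isProjBundle hP hE
  haveI := Groth.L22.Bundle.flat_of_isProjBundle hB1 hE1
  obtain ⟨δ1, hP1s, hc1⟩ := Groth.L22.Cyc.exists_setup p1 hX
  have hPs := setup_of_compat p hX hδ
  have hPs' := setup_of_compat p' hX hδ'
  haveI := hPs.1
  haveI := hPs'.1
  haveI := hP1s.1
  have hsq : IsPullback h p1 p (𝟙 X) := IsPullback.of_horiz_isIso ⟨by rw [hhp, Category.comp_id]⟩
  have hid : Cyc.DeltaCompat (𝟙 X) δ δ := fun d => ⟨0,
    (Groth.L22.Bundle.rtrdeg_eq_zero (𝟙 X) d).trans Nat.cast_zero.symm, by simp⟩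
  have hrd : Cyc.HasRelDim (𝟙 X) 0 := Groth.L22.Cyc.hasRelDim_of_rtrdeg _ fun x _ => by
    rw [Groth.L22.Bundle.rtrdeg_eq_zero, Nat.cast_zero]
  have h1 := isChernCap_pull hX.2.2 hX.2.2 hPs.2.2 hP1s.2.2 hP hE hδ hc1 hsq hrd hid hγ
  have hpid : ∀ A : AlgebraicCycle X ℤ,
      pullC (𝟙 X) (Groth.L22.Cyc.shift_of_deltaCompat (𝟙 X) hrd hid) A = A := fun A =>
    Function.locallyFinsuppWithin.ext fun d => by
      rw [pullC_apply, Groth.L22.Bundle.mult_openImmersion (𝟙 X) d]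
      simp
  simp only [hpid] at h1
  rw [show k + ((0 : ℕ) : ℤ) = k by simp] at h1
  have h2 := isChernCap_tensor hX.2.2 hP1s.2.2
    (Groth.L18.Ample.isInvertible_pullback h (Groth.L22.Bundle.isInvertible_of_one hP.invertible))
    (Groth.L22.Bundle.isInvertible_of_one hB1.invertible) hM
    (Groth.L22.Bundle.delta_of_fibGen hP1s.2.2 hc1 hB1 hE1) e hu h1
  exact isChernCap_transfer hX.2.2 hE1 θ hB1 hP' hP1s.2.2 hPs'.2.2 hc1 hδ' h2

end Groth.L22.Chern
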