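import Groth.Agent.L22.Chern.Poly
import Groth.Agent.L13.Canon.Conormal
import Mathlib.CategoryTheory.Abelian.DiagramLemmas.KernelCokernelComp

/-!
Modules filtered by invertible modules.
-/

set_option autoImplicit false
set_option linter.style.haveILetI false
set_option linter.unusedSectionVars false
set_option backward.isDefEq.respectTransparency.types false
set_option backward.isDefEq.respectTransparency false

universe u v w

open CategoryTheory CategoryTheory.Limits AlgebraicGeometry TopologicalSpace Polynomial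

noncomputable section

namespace Groth.L22.Chern

/-- The cokernels of a composite of monomorphisms form a short exact sequence. -/
theorem shortExact_cokernel_comp {A : Type w} [Category.{v} A] [Abelian A] {M M' E : A} (a : M ⟶ M')
    (c : M' ⟶ E) [Mono c] :
    ∃ h : cokernel.map a (a ≫ c) (𝟙 M) c (by simp) ≫ cokernel.map (a ≫ c) c a (𝟙 E) (by simp) = 0,
      (ShortComplex.mk _ _ h).ShortExact := by
  let S := kernelCokernelCompSequence.snakeInput a c
  haveI : Mono S.L₃.f := S.L₂'_exact.mono_g ((isZero_kernel_of_mono c).eq_of_src _ _)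
  haveI : Epi S.L₃.g := by
    show Epi (cokernel.map (a ≫ c) c a (𝟙 E) (by simp))
    exact epi_of_epi_fac (show cokernel.π (a ≫ c) ≫ _ = cokernel.π c by simp)
  exact ⟨S.L₃.zero, ShortComplex.ShortExact.mk' S.L₃_exact ‹Mono S.L₃.f› ‹Epi S.L₃.g›⟩

variable {X : Scheme.{u}}

/-- A module with a filtration whose graded pieces are the listed invertible modules. -/
inductive Flag : X.Modules → List X.Modules → Prop
  | nil {E : X.Modules} : IsZero E → Flag E []
  | cons {L E F : X.Modules} {ls : List X.Modules} (hL : PicF.IsInvertible L) (a : L ⟶ E) (b : E ⟶ F)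
      (hab : a ≫ b = 0) (hex : (ShortComplex.mk a b hab).ShortExact) : Flag F ls → Flag E (L :: ls)

theorem Flag.congr {E E' : X.Modules} {ls : List X.Modules} (h : Flag E ls) (θ : E ≅ E') : Flag E' ls := by
  cases h with
  | nil hz => exact .nil (hz.of_iso θ.symm)
  | @cons L _ F ls hL a b hab hex hF =>
    refine .cons hL (a ≫ θ.hom) (θ.inv ≫ b) (by simp [hab]) ?_ hF
    exact ShortComplex.shortExact_of_iso (ShortComplex.isoMk (S₁ := ShortComplex.mk a b hab)
      (Iso.refl _) θ (Iso.refl _) (by simp) (by simp)) hex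

theorem rank_zero_of_isZero {E : X.Modules} (h : IsZero E) : FlatMod.IsFinLocFreeOfRank 0 E := fun x =>
  ⟨⊤, trivial, ⟨(Functor.map_isZero (Scheme.Modules.restrictFunctor (⊤ : X.Opens).ι) h).iso
    ((IsZero.iff_id_eq_zero _).2 (Sigma.hom_ext _ _ fun i => i.elim0))⟩⟩

theorem Flag.rank {E : X.Modules} {ls : List X.Modules} (h : Flag E ls) :
    FlatMod.IsFinLocFreeOfRank ls.length E := by
  induction h with
  | nil hz => exact rank_zero_of_isZero hz
  | @cons L E F ls hL a b hab hex hF ih =>
    rw [List.length_cons, Nat.add_comm]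
    exact Groth.L13.Canon.isFinLocFreeOfRank_middle hex (Groth.L12.FinCov.isFinLocFreeOfRank_one_of_isInvertible hL) ih

/-- A chain of subobjects gives a flag. -/
theorem Flag.of_chain {r : ℕ} {E : X.Modules} (M : Fin (r + 1) → X.Modules) (h0 : IsZero (M 0))
    (e : M (Fin.last r) ≅ E) (L : Fin r → X.Modules) (hL : ∀ i, PicF.IsInvertible (L i))
    (a : ∀ i : Fin r, M (Fin.castSucc i) ⟶ M (Fin.succ i)) (b : ∀ i : Fin r, M (Fin.succ i) ⟶ L i)
    (hab : ∀ i, a i ≫ b i = 0) (hex : ∀ i, (ShortComplex.mk (a i) (b i) (hab i)).ShortExact) :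
    Flag E (List.ofFn L) := by
  have key : ∀ i : Fin (r + 1), ∃ c : M i ⟶ E, Mono c ∧ Flag (cokernel c) ((List.ofFn L).drop i) := by
    intro i
    induction i using Fin.reverseInduction with
    | last => exact ⟨e.hom, inferInstance, by rw [List.drop_eq_nil_of_le (by simp)]; exact .nil (isZero_cokernel_of_epi _)⟩
    | cast i ih =>
      obtain ⟨c, hc, hF⟩ := ih
      haveI : Mono (a i) := (hex i).mono_f
      haveI := (hex i).epi_g
      haveI := hc
      obtain ⟨h, hs⟩ := shortExact_cokernel_comp (a i) c
      let ε : cokernel (a i) ≅ L i :=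
        IsColimit.coconePointUniqueUpToIso (colimit.isColimit _) (hex i).gIsCokernel
      refine ⟨a i ≫ c, inferInstance, ?_⟩
      rw [Fin.val_castSucc, List.drop_eq_getElem_cons (show (i : ℕ) < (List.ofFn L).length by simp), List.getElem_ofFn]
      refine .cons (hL i) (ε.inv ≫ cokernel.map (a i) (a i ≫ c) (𝟙 _) c (by simp))
        (cokernel.map (a i ≫ c) c (a i) (𝟙 E) (by simp)) (by rw [Category.assoc, h, Limits.comp_zero]) ?_ hF
      exact ShortComplex.shortExact_of_iso
        (ShortComplex.isoMk (S₁ := ShortComplex.mk _ _ h) ε (Iso.refl _) (Iso.refl _) (by simp) (by simp)) hs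
  obtain ⟨c, -, hF⟩ := key 0
  have hc : c = 0 := h0.eq_of_src _ _
  subst hc
  simpa using hF.congr cokernelZeroIsoTarget

/-- The product of the linear factors. -/
def prodLin [IsLocallyNoetherian X] {δ : X → ℤ} (hd : Cyc.IsDimFun X δ) :
    List X.Modules → (Op X δ)[X]
  | [] => 1
  | L :: ls =>
    (open Classical in if h : PicF.IsInvertible L then 1 + Polynomial.C (x1 hd h) * Polynomial.X else 1) *
      prodLin hd ls

theorem prodLin_cons [IsLocallyNoetherian X] {δ : X → ℤ} (hd : Cyc.IsDimFun X δ) {L : X.Modules}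
    (hL : PicF.IsInvertible L) (ls : List X.Modules) :
    prodLin hd (L :: ls) = (1 + Polynomial.C (x1 hd hL) * Polynomial.X) * prodLin hd ls := by
  rw [prodLin, dif_pos hL]

/-- The Chern polynomial of a filtered module. -/
theorem Flag.cp_eq [IsLocallyNoetherian X] {δ : X → ℤ} (hX : Cyc.IsSetup X δ) {E : X.Modules}
    {ls : List X.Modules} (h : Flag E ls) :
    ∀ {r : ℕ} (hE : FlatMod.IsFinLocFreeOfRank r E), r = ls.length → cp hX hE = prodLin hX.2.2 ls := by
  induction h with
  | nil hz => rintro r hE rfl; exact cp_rank_zero hX hE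
  | @cons L E F ls hL a b hab hex hF ih =>
    rintro r hE rfl
    rw [prodLin_cons _ hL, cp_extend hX hE hF.rank hL a b hab hex, ih hF.rank rfl]

end Groth.L22.Chern
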