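import Groth.Agent.L22.Chern.Tensor
import Groth.Agent.L22.Chern.Flag
import Groth.Agent.L22.Bundle.Indep
import Groth.Agent.L22.Cyc.BaseChange
import Groth.Agent.L18.PBundle.Embed
import Groth.Agent.L18.LocFreeFP
import Groth.Agent.L19.LimMod.Zero
import Groth.Agent.L12.KBun.Relation
import Groth.Agent.L12.Kvb.Rank
import Groth.Agent.L03.VBPn.NullCorr
import Groth.Agent.S1857
import Groth.Agent.L18.FiniteProjective
import Groth.Agent.S9708

/-!
Towers of projective bundles splitting finite locally free modules.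
-/

set_option autoImplicit false
set_option linter.style.haveILetI false
set_option linter.unusedSectionVars false
set_option backward.isDefEq.respectTransparency.types false
set_option backward.isDefEq.respectTransparency false

universe u

open CategoryTheory CategoryTheory.Limits AlgebraicGeometry TopologicalSpace

noncomputable section

namespace Groth.L22.Chern

open Groth.L22.Cyc (rtrdeg)

variable {X P R : Scheme.{u}} {δ : X → ℤ}

/-- Flat pullback is injective on Chow groups after every base change. -/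
def InjPull (δ : X → ℤ) (π : P ⟶ X) (d : ℕ) : Prop :=
  ∀ (Y : Scheme.{u}) (f : Y ⟶ X) [LocallyOfFiniteType f] (δY : Y → ℤ), Cyc.IsSetup Y δY → Cyc.DeltaCompat f δY δ →
    ∀ (PY : Scheme.{u}) (πY : PY ⟶ Y) (g : PY ⟶ P), IsPullback g πY π f → ∀ (δPY : PY → ℤ), Cyc.IsSetup PY δPY →
      Cyc.DeltaCompat πY δPY δY → ∀ (k : ℤ) (α : AlgebraicCycle Y ℤ), α ∈ Cyc.Zk Y δY k →
        ∀ β : AlgebraicCycle PY ℤ, ⇑β = Cyc.pullFun πY δPY δY d ⇑α → Cyc.RatEquivZero δPY (k + d) β →
          Cyc.RatEquivZero δY k α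

/-- The properties of a splitting morphism. -/
structure IsSplitMor (δ : X → ℤ) (π : P ⟶ X) (d : ℕ) : Prop where
  proper : IsProper π
  flat : Flat π
  relDim : Cyc.HasRelDim π d
  projective : ∀ (U PU : Scheme.{u}) (g : U ⟶ X) (g' : PU ⟶ P) (πU : PU ⟶ U), IsPullback g' πU π g →
    CompactSpace U → QuasiSeparatedSpace U → RelProj.IsProjective πU
  inj : InjPull δ π d

theorem hasRelDim_id : Cyc.HasRelDim (𝟙 X) 0 :=
  Groth.L22.Cyc.hasRelDim_of_rtrdeg _ fun x _ => by rw [Groth.L22.Bundle.rtrdeg_eq_zero, Nat.cast_zero]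

/-- Projective bundles are projective. -/
theorem isProjective_bundle {n : ℕ} {E : X.Modules} (hE : FlatMod.IsFinLocFreeOfRank n E) {p : P ⟶ X}
    {O1 : P.Modules} {q : (Scheme.Modules.pullback p).obj E ⟶ O1} (hP : KRR.IsProjBundle p E O1 q) :
    RelProj.IsProjective p := by
  have hf := Groth.L18.KRRAmple.isFinLocFree_of_rank hE
  have hq : Coh.IsQCoh E := Groth.L29.DC.PCQCoh.isQCoh_of_isFinLocFree hf
  obtain ⟨𝒮, j, P0, p0, c0, O0, l0, q0, hS, hR0, hO0, hB0⟩ := exists_relProj_bundle hq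
  obtain ⟨h, hh, hhp, -⟩ := exists_bundle_iso (Iso.refl E) hB0 hP
  haveI := hh
  exact (Groth.L18.PBundle.isProjective_iff p).2 ⟨E, 𝒮, j, P0, p0, c0, h, hq,
    Groth.L19.LimMod.isFT_of_isFP (Groth.L18.LFP.isFP_of_isFinLocFree E hf), hS, hR0, inferInstance, hhp⟩

/-- The kernel of a surjection of bundles onto a line bundle. -/
theorem rank_left {n : ℕ} {S : ShortComplex X.Modules} (hS : S.ShortExact) (h₁ : FlatMod.IsFinLocFree S.X₁)
    (h₂ : FlatMod.IsFinLocFreeOfRank (n + 1) S.X₂) (h₃ : FlatMod.IsFinLocFreeOfRank 1 S.X₃) :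
    FlatMod.IsFinLocFreeOfRank n S.X₁ := fun x => by
  obtain ⟨U, p, q, a, σ, hxU, -, ha, hσ⟩ := Groth.L12.ExtSh.exists_split_bases hS h₁
    (Groth.L18.KRRAmple.isFinLocFree_of_rank h₃) x ⊤ trivial
  have e1 := Groth.L12.Kvb.rank_eq_of_basis h₂ hxU (Groth.L12.ExtSh.isBasisOn_append hS ha hσ)
  have e3 := Groth.L12.Kvb.rank_eq_of_basis h₃ hxU hσ
  obtain rfl : p = n := by omega
  obtain ⟨e⟩ := Groth.L20.ResDescent.nonempty_iso_free (le_of_eq (U.1.ι_preimage_self).symm) (ha.pullback U.1.ι)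
  exact ⟨U.1, hxU, ⟨(Scheme.Modules.restrictFunctorIsoPullback U.1.ι).app S.X₁ ≪≫ e⟩⟩

theorem isSplitMor_bundle (hX : Cyc.IsSetup X δ) {n : ℕ} {E : X.Modules}
    (hE : FlatMod.IsFinLocFreeOfRank (n + 1) E) {p : P ⟶ X} {O1 : P.Modules}
    {q : (Scheme.Modules.pullback p).obj E ⟶ O1} (hP : KRR.IsProjBundle p E O1 q) : IsSplitMor δ p n := by
  haveI := hX.1
  haveI := isProper_bundle hP hE
  haveI := Groth.L22.Bundle.flat_of_isProjBundle hP hE
  obtain ⟨δP, hPs, hc⟩ := Groth.L22.Cyc.exists_setup p hX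
  refine ⟨inferInstance, inferInstance, Groth.L22.Cyc.hasRelDim_of_rtrdeg _ fun z h => ?_,
    fun U PU g g' πU hsq _ _ => ?_, ?_⟩
  · obtain ⟨m, hm, hd⟩ := hc z
    have := Groth.L22.Bundle.delta_of_fibGen hPs.2.2 hc hP hE z h
    obtain rfl : m = n := by omega
    exact hm
  · exact isProjective_bundle (rank_pullback g hE) (Groth.L22.Bundle.isProjBundle_baseChange q hP hsq)
  · intro Y f _ δY hY hf PY πY g hsq δPY hPY hc' k α hα β hβ h0
    haveI := hY.1
    haveI := hPY.1
    have hE' := rank_pullback f hE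
    have hP' := Groth.L22.Bundle.isProjBundle_baseChange q hP hsq
    haveI := isProper_bundle hP' hE'
    obtain ⟨t, ht⟩ := exists_secs (Groth.L22.Bundle.isInvertible_of_one hP'.invertible)
    let a : Fin (n + 1) → AlgebraicCycle Y ℤ := fun i => if i = 0 then α else 0
    have h := Groth.L22.Bundle.indep hY.2.2 hPY.2.2 hc' hP' hE' k a (fun i => ?_)
      (Groth.L22.Bundle.isInvertible_of_one hP'.invertible) (fun _ => t) (fun _ => ht) β (fun z => ?_) h0 0
    · simpa [a] using h
    · by_cases hi : i = 0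
      · subst hi; simpa [a] using hα
      · simp only [a, if_neg hi]; exact (ChowOps.zk Y δY _).zero_mem
    · rw [Finset.sum_eq_single (0 : Fin (n + 1))]
      · show β z = Cyc.pullFun πY δPY δY (n : ℤ) ⇑(a 0) z
        rw [congrFun hβ z]
        simp [a]
      · intro i _ hi
        have hz : ⇑(pullC πY (Groth.L22.Bundle.delta_of_fibGen hPY.2.2 hc' hP' hE')
            (0 : AlgebraicCycle Y ℤ)) = Cyc.pullFun πY δPY δY (n : ℤ) ⇑(0 : AlgebraicCycle Y ℤ) := pullC_coe _ _ _
        rw [map_zero] at hz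
        rw [show a i = 0 from if_neg hi, ← hz,
          ← cap_coe hPY.2.2 (Groth.L22.Bundle.isInvertible_of_one hP'.invertible) ht, map_zero]
        rfl
      · exact fun h => absurd (Finset.mem_univ _) h

theorem isSplitMor_id (hX : Cyc.IsSetup X δ) : IsSplitMor δ (𝟙 X) 0 := by
  haveI := hX.1
  refine ⟨inferInstance, inferInstance, hasRelDim_id, fun U PU g g' πU hsq _ _ => ?_, ?_⟩
  · haveI : IsIso πU := hsq.isIso_snd_of_isIso
    exact Groth.L18.FinProj.isProjective_of_isFinite πU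
  · intro Y f _ δY hY hf PY πY g hsq δPY hPY hc k α hα β hβ h0
    haveI := hY.1
    haveI := hPY.1
    haveI : IsIso πY := hsq.isIso_snd_of_isIso
    have h1 : Shift πY δPY δY (((0 : ℕ) : ℤ)) := fun z _ => by
      obtain ⟨m, hm, hd⟩ := hc z
      have hm' : rtrdeg πY z = (m : Cardinal.{u}) := hm
      rw [Groth.L22.Bundle.rtrdeg_eq_zero] at hm'
      obtain rfl : m = 0 := by exact_mod_cast hm'.symm
      simpa using hd
    have e : ∀ y, πY (inv πY y) = y := fun y => by rw [← Scheme.Hom.comp_apply, IsIso.inv_hom_id]; rfl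
    have h2 : Shift (inv πY) δY δPY 0 := fun y _ => by
      obtain ⟨m, hm, hd⟩ := hc (inv πY y)
      have hm' : rtrdeg πY (inv πY y) = (m : Cardinal.{u}) := hm
      rw [Groth.L22.Bundle.rtrdeg_eq_zero] at hm'
      obtain rfl : m = 0 := by exact_mod_cast hm'.symm
      rw [e] at hd
      simp at hd
      omega
    have hb : β = pullC πY h1 α := DFunLike.coe_injective (hβ.trans (pullC_coe πY h1 α).symm)
    have hr := pullC_rat (inv πY) h2 hY.2.2 hPY.2.2 (show β ∈ ratGroup hPY.2.2 (k + ((0 : ℕ) : ℤ)) from h0)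
    have hα' : pullC (inv πY) h2 β = α := Function.locallyFinsuppWithin.ext fun y => by
      rw [hb, pullC_apply, pullC_apply, Groth.L22.Bundle.mult_openImmersion, Groth.L22.Bundle.mult_openImmersion, e]
      simp
    rw [hα'] at hr
    exact mem_ratGroup.1 (by simpa using hr)

theorem isSplitMor_comp (hX : Cyc.IsSetup X δ) {π : P ⟶ X} {d : ℕ} (h : IsSplitMor δ π d) {δP : P → ℤ}
    (hc : Cyc.DeltaCompat π δP δ) {ρ : R ⟶ P} {e : ℕ} (h' : IsSplitMor δP ρ e) :
    IsSplitMor δ (ρ ≫ π) (e + d) := by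
  haveI := h.proper; haveI := h.flat; haveI := h'.proper; haveI := h'.flat
  refine ⟨inferInstance, inferInstance, Groth.L22.Cyc.hasRelDim_comp ρ π h'.relDim h.relDim,
    fun U RU g g' ρU hsq _ _ => ?_, ?_⟩
  · let πU : pullback π g ⟶ U := pullback.snd π g
    have hsq1 := IsPullback.of_hasPullback π g
    let l : RU ⟶ pullback π g := pullback.lift (g' ≫ ρ) ρU (by rw [Category.assoc, hsq.w])
    have hsq2 : IsPullback g' l ρ (pullback.fst π g) :=
      IsPullback.of_bot (by simpa [l] using hsq) (by simp [l]) hsq1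
    have h1 := h.projective U _ g _ _ hsq1 ‹_› ‹_›
    have : QuasiCompact πU := inferInstance
    haveI : CompactSpace ↥(pullback π g) := QuasiCompact.compactSpace_of_compactSpace (pullback.snd π g)
    haveI : QuasiSeparatedSpace ↥(pullback π g) := quasiSeparatedSpace_of_quasiSeparated (pullback.snd π g)
    have h2 := h'.projective _ _ _ _ _ hsq2 inferInstance inferInstance
    have := Groth.Agent.S9708.result l πU h2 h1
    rwa [pullback.lift_snd] at this
  · intro Y f _ δY hY hf RY ρY g hsq δRY hRY hcR k α hα β hβ h0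
    haveI := hY.1
    have hsq1 := IsPullback.of_hasPullback π f
    let πY : pullback π f ⟶ Y := pullback.snd π f
    let l : RY ⟶ pullback π f := pullback.lift (g ≫ ρ) ρY (by rw [Category.assoc, hsq.w])
    have hl : l ≫ πY = ρY := pullback.lift_snd _ _ _
    have hsq2 : IsPullback g l ρ (pullback.fst π f) :=
      IsPullback.of_bot (by simpa [l] using hsq) (by simp [l]) hsq1
    haveI : IsProper l := MorphismProperty.of_isPullback hsq2 inferInstance
    haveI : Flat l := MorphismProperty.of_isPullback hsq2 inferInstance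
    obtain ⟨δM, hMs, hcM⟩ := Groth.L22.Cyc.exists_setup πY hY
    haveI := hMs.1
    haveI := hRY.1
    have hcl : Cyc.DeltaCompat l δRY δM := Groth.L22.Bundle.deltaCompat_cancel l πY (hl.symm ▸ hcR) hcM
    have hfst : Cyc.DeltaCompat (pullback.fst π f) δM δP := deltaCompat_fst hsq1.w hf hc hcM
    have hr1 := Groth.L22.Cyc.hasRelDim_baseChange hsq1 h.relDim
    have hr2 := Groth.L22.Cyc.hasRelDim_baseChange hsq2 h'.relDim
    have hs1 := Groth.L22.Cyc.shift_of_deltaCompat πY hr1 hcM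
    have hs2 := Groth.L22.Cyc.shift_of_deltaCompat l hr2 hcl
    have hcomp := (Groth.Agent.S1857.result RY _ Y δRY δM δY hRY hMs hY l πY e d hr2 hr1 hcl hcM k).2 α hα
    have hm : pullC πY hs1 α ∈ Cyc.Zk _ δM (k + d) := pullC_mem πY hs1 hα
    refine h.inj Y f δY hY hf _ πY _ hsq1 δM hMs hcM k α hα (pullC πY hs1 α) (pullC_coe πY hs1 α) ?_
    refine h'.inj _ (pullback.fst π f) δM hMs hfst RY l g hsq2 δRY hRY hcl (k + d) _ hm β ?_ ?_
    · rw [hβ, pullC_coe, hcomp, hl]; push_cast; rfl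
    · rwa [show k + (d : ℤ) + (e : ℤ) = k + ((e + d : ℕ) : ℤ) by push_cast; ring]

end Groth.L22.Chern
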