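import Groth.Agent.L22.Chern.Inject
import Groth.Agent.L22.Bundle.Compl
import Groth.Agent.L22.Cyc.Setup
import Groth.Agent.L22.Bundle.Immersion
import Groth.Agent.L18.Grass.QuotExist
import Groth.Agent.L18.Grass.GrassProper

/-!
Injectivity of the flat pullback to an affine bundle.
-/

set_option autoImplicit false
set_option linter.style.haveILetI false
set_option backward.isDefEq.respectTransparency.types false
set_option backward.isDefEq.respectTransparency false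

universe u

open CategoryTheory CategoryTheory.Limits AlgebraicGeometry TopologicalSpace Opposite

noncomputable section

namespace Groth.L22.Chern

variable {X : Scheme.{u}} {E F : X.Modules}

/-- Injectivity of pullback to the bundle of splittings of an extension by `O`. -/
theorem rat_of_rat_affineBundle {δ : X → ℤ} (hX : Cyc.IsSetup X δ) (a : Coh.structureModule X ⟶ E) (b : E ⟶ F)
    (hab : a ≫ b = 0) (hex : (ShortComplex.mk a b hab).ShortExact) (r : ℕ)
    (hE : FlatMod.IsFinLocFreeOfRank (r + 1) E) (hF : FlatMod.IsFinLocFreeOfRank r F)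
    {AE : RelSpec.QCAlg X} {jE : E ⟶ AE.toModule} (hAE : RelSpec.IsSymAlg E AE jE)
    {A1 : RelSpec.QCAlg X} {j1 : Coh.structureModule X ⟶ A1.toModule}
    (hA1 : RelSpec.IsSymAlg (Coh.structureModule X) A1 j1) (ψ : A1 ⟶ AE)
    (hψ : j1 ≫ RelSpec.QCAlg.Hom.toModuleMap ψ = a ≫ jE)
    (u : Coh.structureModule X ⟶ (RelSpec.QCAlg.unit X).toModule) [IsIso u] (ε : A1 ⟶ RelSpec.QCAlg.unit X)
    (hε : j1 ≫ RelSpec.QCAlg.Hom.toModuleMap ε = u)
    {B : Scheme.{u}} (c : B ≅ pullback (RelSpec.QCAlg.specMap ψ) (RelSpec.QCAlg.specMap ε)) (φ : B ⟶ X)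
    (hc : c.hom ≫ pullback.fst (RelSpec.QCAlg.specMap ψ) (RelSpec.QCAlg.specMap ε) ≫ AE.π = φ)
    {δB : B → ℤ} (hBs : Cyc.IsSetup B δB) (hδB : Cyc.DeltaCompat φ δB δ) {k : ℤ} {α : AlgebraicCycle X ℤ}
    (hα : α ∈ Cyc.Zk X δ k) (γ : AlgebraicCycle B ℤ) (hγ : ⇑γ = Cyc.pullFun φ δB δ r ⇑α)
    (h0 : Cyc.RatEquivZero δB (k + r) γ) : Cyc.RatEquivZero δ k α := by
  haveI := hX.1
  haveI := hBs.1
  haveI := Groth.L22.Bundle.isQCoh_of_rank hE
  haveI := Groth.L22.Bundle.isQCoh_of_rank hF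
  have hF' : FlatMod.IsFinLocFree F := fun x => ⟨(hF x).choose, r, (hF x).choose_spec.1, (hF x).choose_spec.2⟩
  obtain ⟨P, p, O1, q, hGP⟩ := Groth.L18.QuotExist.exists_isGrass E 1
  obtain ⟨Q, p', O1', q', hGQ⟩ := Groth.L18.QuotExist.exists_isGrass F 1
  have hP := hGP.isProjBundle
  have hQ := hGQ.isProjBundle
  haveI : IsProper p := Groth.L18.GrassProper.isProper hGP hE (by omega)
  haveI : IsClosedImmersion (Groth.L22.Bundle.subMap hP hQ a b hab hex) :=
    Groth.L22.Bundle.isClosedImmersion_subMap hP hQ a b hab hex hE hF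
  haveI : IsProper p' := by
    rw [← Groth.L22.Bundle.subMap_comp hP hQ a b hab hex]
    infer_instance
  obtain ⟨δP, hPs, hδ⟩ := Groth.L22.Cyc.exists_setup p hX
  obtain ⟨δQ, hQs, hδ'⟩ := Groth.L22.Cyc.exists_setup p' hX
  haveI := hPs.1
  have hp : Shift p δP δ (r : ℤ) := Groth.L22.Bundle.delta_of_fibGen hPs.2.2 hδ hP hE
  let U : P.Opens := ⟨(Set.range ⇑(Groth.L22.Bundle.subMap hP hQ a b hab hex))ᶜ,
    (Groth.L22.Bundle.subMap hP hQ a b hab hex).isClosedEmbedding.isClosed_range.isOpen_compl⟩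
  obtain ⟨e, he⟩ := Groth.L22.Bundle.exists_iso_compl hP hQ a b hab hex U (fun z => Iff.rfl) hAE ψ hψ u ε hε hA1 hF'
  let g : (U : Scheme.{u}) ≅ B := e ≪≫ c.symm
  let w : B ⟶ P := g.inv ≫ U.ι
  have hw : w ≫ p = φ := by
    show (g.inv ≫ U.ι) ≫ p = φ
    rw [← hc, Category.assoc, ← he]
    show (c.hom ≫ e.inv) ≫ e.hom ≫ _ = _
    rw [Category.assoc, Iso.inv_hom_id_assoc]
  have hw' : g.hom ≫ w = U.ι := Iso.hom_inv_id_assoc g U.ι
  obtain rfl : δB = fun z => δP (w z) := Groth.L22.Bundle.delta_unique hδB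
    (hw ▸ Groth.L22.Bundle.deltaCompat_comp w p hδ)
  have hwp : ∀ z, γ z = pullC p hp α (w z) := fun z => by
    have hs : Shift φ (fun z => δP (w z)) δ (r : ℤ) := fun z hz => by
      rw [← hw] at hz ⊢
      exact hp (w z) hz.right_of_comp
    rw [hγ, Groth.L22.Cyc.pullFun_eq' φ hs, pullC_apply, ← Scheme.Hom.comp_apply w p, hw]
    beta_reduce
    rw [
      ← Groth.L22.Cyc.mult_congr _ hw, Groth.L22.Cyc.mult_comp, Groth.L22.Bundle.mult_openImmersion w z, mul_one]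
  have hsg : Shift g.hom (fun x : (U : Scheme.{u}) => δP (U.ι x)) (fun z => δP (w z)) 0 := fun x _ => by
    beta_reduce
    rw [add_zero, ← Scheme.Hom.comp_apply g.hom w, hw']
  have hrat : pullC g.hom hsg γ ∈ ratGroup (Groth.L22.Cyc.isDimFun_open U hPs.2.2) (k + r + 0) :=
    pullC_rat g.hom hsg (Groth.L22.Cyc.isDimFun_open U hPs.2.2) hBs.2.2 h0
  rw [add_zero] at hrat
  refine rat_of_rat_compl hP hQ a b hab hex hE hF hX hPs hQs hδ hδ' hp U (fun z hz => hz) hα
    (pullC g.hom hsg γ) (fun x => ?_) hrat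
  rw [pullC_apply, hwp, ← Scheme.Hom.comp_apply g.hom w, hw', Groth.L22.Bundle.mult_openImmersion g.hom x]
  simp

end Groth.L22.Chern
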