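import Groth.Agent.L22.Chern.Transfer
import Groth.Prelude.Def_Bivar2

/-!
Chern classes as operational classes.
-/

set_option autoImplicit false
set_option linter.style.haveILetI false
set_option linter.unusedSectionVars false
set_option backward.isDefEq.respectTransparency false

universe u

open CategoryTheory CategoryTheory.Limits AlgebraicGeometry TopologicalSpace

noncomputable section

namespace Groth.L22.Chern

theorem cl_eq_iff {Y : Scheme.{u}} [IsLocallyNoetherian Y] {δ : Y → ℤ} (hδ : Cyc.IsDimFun Y δ) {k : ℤ}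
    {a b : AlgebraicCycle Y ℤ} (ha : a ∈ Cyc.Zk Y δ k) (hb : b ∈ Cyc.Zk Y δ k) :
    ChowOps.cl a ha = ChowOps.cl b hb ↔ a - b ∈ ratGroup hδ k := by
  constructor
  · intro h
    have h' : (⟨a, ha⟩ : ↥(ChowOps.zk Y δ k)) - ⟨b, hb⟩ ∈ ChowOps.ratTriv Y δ k :=
      (QuotientAddGroup.eq_iff_sub_mem).1 h
    have hle : ChowOps.ratTriv Y δ k ≤ (ratGroup hδ k).comap (ChowOps.zk Y δ k).subtype :=
      (AddSubgroup.closure_le _).2 fun c hc => hc
    exact hle h'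
  · intro h
    exact (QuotientAddGroup.eq_iff_sub_mem).2 (AddSubgroup.subset_closure h)

theorem setup_of_compat {Y Z : Scheme.{u}} (f : Y ⟶ Z) [LocallyOfFiniteType f] {δY : Y → ℤ} {δZ : Z → ℤ}
    (hZ : Cyc.IsSetup Z δZ) (h : Cyc.DeltaCompat f δY δZ) : Cyc.IsSetup Y δY := by
  obtain ⟨δ', h', hc⟩ := Groth.L22.Cyc.exists_setup f hZ
  exact Groth.L16.BivarEnv.deltaCompat_unique f hc h ▸ h'

/-- The projective bundle of a module of rank zero is empty. -/
theorem isEmpty_bundle {Y P : Scheme.{u}} {π : P ⟶ Y} {E : Y.Modules} {O1 : P.Modules}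
    {q : (Scheme.Modules.pullback π).obj E ⟶ O1} (hP : KRR.IsProjBundle π E O1 q)
    (hE : FlatMod.IsFinLocFreeOfRank 0 E) : IsEmpty P := by
  refine ⟨fun y => ?_⟩
  choose U hU e using rank_pullback π hE
  have hz : IsZero ((Scheme.Modules.pullback π).obj E) :=
    Groth.L21.Mod.isZero_of_restrict (fun x => (U x).ι) (fun x => ⟨x, ⟨⟨x, hU x⟩, rfl⟩⟩) _ fun x => by
      refine IsZero.of_iso ?_ (e x).some
      exact (IsZero.iff_id_eq_zero _).2 (Sigma.hom_ext _ _ fun i => i.elim0)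
  haveI := hP.epi
  have hO : IsZero O1 := IsZero.of_epi q hz
  have hL := Groth.L22.Bundle.isInvertible_of_one hP.invertible
  obtain ⟨g, hg⟩ := Groth.L22.C1.exists_isGen hL y
  have hne := Groth.L22.C1.mk_gen_ne_zero hL hg
  haveI : Subsingleton (O1.presheaf.stalk y) := not_nontrivial_iff_subsingleton.1 fun hn =>
    Set.eq_empty_iff_forall_notMem.1 ((Groth.L21.Mod.isZero_iff_support_eq_empty O1).1 hO) y
      (not_subsingleton_iff_nontrivial.2 hn)
  exact hne (by rw [Subsingleton.elim g 0]; exact Submodule.Quotient.mk_zero _)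

variable {X : Scheme.{u}} {δX : X → ℤ} (hX : Cyc.IsSetup X δX) {n : ℕ} {E : X.Modules}
  (hE : FlatMod.IsFinLocFreeOfRank (n + 1) E)

include hX in
theorem setupY (s : Bivar.OSq X δX) : Cyc.IsSetup s.Y s.δ := by
  haveI := s.lft
  exact setup_of_compat s.g hX s.compat

variable (n E) in
/-- A tuple of Chern caps on a test scheme. -/
def Rep (s : Bivar.OSq X δX) (k : ℤ) (α : AlgebraicCycle s.Y ℤ) (γ : Fin (n + 1 + 1) → AlgebraicCycle s.Y ℤ) : Prop :=
  ∀ (P : Scheme.{u}) (π : P ⟶ s.Y) (O1 : P.Modules)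
    (q : (Scheme.Modules.pullback π).obj ((Scheme.Modules.pullback s.g).obj E) ⟶ O1)
    (_ : KRR.IsProjBundle π ((Scheme.Modules.pullback s.g).obj E) O1 q) (δP : P → ℤ)
    (_ : Cyc.DeltaCompat π δP s.δ), Cyc.IsChernCap π s.δ δP O1 (n + 1) k α γ

include hX hE in
theorem exists_data (s : Bivar.OSq X δX) :
    ∃ (P : Scheme.{u}) (π : P ⟶ s.Y) (O1 : P.Modules)
      (q : (Scheme.Modules.pullback π).obj ((Scheme.Modules.pullback s.g).obj E) ⟶ O1) (δP : P → ℤ),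
      KRR.IsProjBundle π ((Scheme.Modules.pullback s.g).obj E) O1 q ∧ IsProper π ∧ Cyc.IsSetup P δP ∧
        Cyc.DeltaCompat π δP s.δ := by
  obtain ⟨P, π, O1, q, hP, hπ⟩ := exists_bundle (rank_pullback s.g hE)
  obtain ⟨δP, hPs, hc⟩ := Groth.L22.Cyc.exists_setup π (setupY hX s)
  exact ⟨P, π, O1, q, δP, hP, hπ, hPs, hc⟩

include hX hE in
/-- One bundle suffices. -/
theorem rep_of (s : Bivar.OSq X δX) {E' : s.Y.Modules} (θ : E' ≅ (Scheme.Modules.pullback s.g).obj E)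
    {P : Scheme.{u}} {π : P ⟶ s.Y} {O1 : P.Modules} {q : (Scheme.Modules.pullback π).obj E' ⟶ O1}
    (hP : KRR.IsProjBundle π E' O1 q) {δP : P → ℤ} (hδ : Cyc.DeltaCompat π δP s.δ) {k : ℤ}
    {α : AlgebraicCycle s.Y ℤ} {γ : Fin (n + 1 + 1) → AlgebraicCycle s.Y ℤ}
    (hγ : Cyc.IsChernCap π s.δ δP O1 (n + 1) k α γ) : Rep n E s k α γ := by
  intro P' π' O1' q' hP' δP' hδ'
  have hs := setupY hX s
  haveI := hs.1
  have hE' : FlatMod.IsFinLocFreeOfRank (n + 1) E' := fun x => by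
    obtain ⟨U, hx, ⟨i⟩⟩ := rank_pullback s.g hE x
    exact ⟨U, hx, ⟨(Scheme.Modules.restrictFunctor U.ι).mapIso θ ≪≫ i⟩⟩
  haveI := isProper_bundle hP hE'
  haveI := isProper_bundle hP' (rank_pullback s.g hE)
  have hPs := setup_of_compat π hs hδ
  have hPs' := setup_of_compat π' hs hδ'
  haveI := hPs.1
  haveI := hPs'.1
  exact isChernCap_transfer hs.2.2 hE' θ hP hP' hPs.2.2 hPs'.2.2 hδ hδ' hγ

include hX hE in
theorem rep_exists (s : Bivar.OSq X δX) {k : ℤ} {α : AlgebraicCycle s.Y ℤ} (hα : α ∈ Cyc.Zk s.Y s.δ k) :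
    ∃ γ, Rep n E s k α γ := by
  obtain ⟨P, π, O1, q, δP, hP, hπ, hPs, hc⟩ := exists_data hX hE s
  haveI := hπ
  have hs := setupY hX s
  haveI := hs.1
  haveI := hPs.1
  obtain ⟨γ, hγ⟩ := exists_chern hs.2.2 hPs.2.2 hc (Groth.L22.Bundle.isInvertible_of_one hP.invertible)
    (Groth.L22.Bundle.delta_of_fibGen hPs.2.2 hc hP (rank_pullback s.g hE)) hP (rank_pullback s.g hE) hα
  exact ⟨γ, rep_of hX hE s (Iso.refl _) hP hc hγ⟩

include hX hE in
theorem rep_mem (s : Bivar.OSq X δX) {k : ℤ} {α : AlgebraicCycle s.Y ℤ}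
    {γ : Fin (n + 1 + 1) → AlgebraicCycle s.Y ℤ} (h : Rep n E s k α γ) :
    γ 0 = α ∧ ∀ j : Fin (n + 1 + 1), γ j ∈ Cyc.Zk s.Y s.δ (k - ((j : ℕ) : ℤ)) := by
  obtain ⟨P, π, O1, q, δP, hP, hπ, hPs, hc⟩ := exists_data hX hE s
  exact ⟨(h P π O1 q hP δP hc).1, (h P π O1 q hP δP hc).2.1⟩

include hX hE in
theorem rep_unique (s : Bivar.OSq X δX) [IsLocallyNoetherian s.Y] (hd : Cyc.IsDimFun s.Y s.δ) {k : ℤ}
    {α α' : AlgebraicCycle s.Y ℤ} (hαα' : α - α' ∈ ratGroup hd k)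
    {γ γ' : Fin (n + 1 + 1) → AlgebraicCycle s.Y ℤ} (h : Rep n E s k α γ) (h' : Rep n E s k α' γ')
    (j : Fin (n + 1 + 1)) : γ j - γ' j ∈ ratGroup hd (k - ((j : ℕ) : ℤ)) := by
  obtain ⟨P, π, O1, q, δP, hP, hπ, hPs, hc⟩ := exists_data hX hE s
  haveI := hπ
  haveI := hPs.1
  exact unique hd hPs.2.2 hc (Groth.L22.Bundle.isInvertible_of_one hP.invertible)
    (Groth.L22.Bundle.delta_of_fibGen hPs.2.2 hc hP (rank_pullback s.g hE)) hP (rank_pullback s.g hE)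
    hαα' (h P π O1 q hP δP hc) (h' P π O1 q hP δP hc) j

include hX hE in
theorem rep_add (s : Bivar.OSq X δX) {k : ℤ} {α α' : AlgebraicCycle s.Y ℤ}
    {γ γ' : Fin (n + 1 + 1) → AlgebraicCycle s.Y ℤ} (h : Rep n E s k α γ) (h' : Rep n E s k α' γ') :
    Rep n E s k (α + α') (fun j => γ j + γ' j) := by
  intro P π O1 q hP δP hc
  have hs := setupY hX s
  haveI := hs.1
  haveI := isProper_bundle hP (rank_pullback s.g hE)
  have hPs := setup_of_compat π hs hc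
  haveI := hPs.1
  have hL := Groth.L22.Bundle.isInvertible_of_one hP.invertible
  have hp := Groth.L22.Bundle.delta_of_fibGen hPs.2.2 hc hP (rank_pullback s.g hE)
  obtain ⟨a0, a1, a2⟩ := (isChernCap_iff hPs.2.2 hL hp).1 (h P π O1 q hP δP hc)
  obtain ⟨b0, b1, b2⟩ := (isChernCap_iff hPs.2.2 hL hp).1 (h' P π O1 q hP δP hc)
  refine (isChernCap_iff hPs.2.2 hL hp).2 ⟨congrArg₂ (· + ·) a0 b0,
    fun j => add_mem (show _ ∈ zGroup s.δ _ from a1 j) (b1 j), fun t ht => ?_⟩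
  have e : rel hPs.2.2 hL hp ht (fun j => γ j + γ' j) = rel hPs.2.2 hL hp ht γ + rel hPs.2.2 hL hp ht γ' := by
    simp only [rel, map_add, smul_add, Finset.sum_add_distrib]
  rw [e]
  exact add_mem (a2 t ht) (b2 t ht)

include hX hE in
theorem rep_congr (s : Bivar.OSq X δX) [IsLocallyNoetherian s.Y] (hd : Cyc.IsDimFun s.Y s.δ) {k : ℤ}
    {α : AlgebraicCycle s.Y ℤ} {γ ζ : Fin (n + 1 + 1) → AlgebraicCycle s.Y ℤ} (h : Rep n E s k α γ)
    (h0 : ζ 0 = α) (hm : ∀ j : Fin (n + 1 + 1), ζ j ∈ Cyc.Zk s.Y s.δ (k - ((j : ℕ) : ℤ)))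
    (hr : ∀ j : Fin (n + 1 + 1), ζ j - γ j ∈ ratGroup hd (k - ((j : ℕ) : ℤ))) : Rep n E s k α ζ := by
  intro P π O1 q hP δP hc
  haveI := isProper_bundle hP (rank_pullback s.g hE)
  have hPs := setup_of_compat π (setupY hX s) hc
  haveI := hPs.1
  haveI := Groth.L22.Bundle.flat_of_isProjBundle hP (rank_pullback s.g hE)
  have hL := Groth.L22.Bundle.isInvertible_of_one hP.invertible
  have hp := Groth.L22.Bundle.delta_of_fibGen hPs.2.2 hc hP (rank_pullback s.g hE)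
  obtain ⟨-, -, a2⟩ := (isChernCap_iff hPs.2.2 hL hp).1 (h P π O1 q hP δP hc)
  refine (isChernCap_iff hPs.2.2 hL hp).2 ⟨h0, hm, fun t ht => ?_⟩
  have e : rel hPs.2.2 hL hp ht (fun j => ζ j - γ j) ∈ ratGroup hPs.2.2 (k - 1) := by
    refine sum_mem fun i _ => zsmul_mem ?_ _
    have h1 := pullC_rat π hp hPs.2.2 hd (hr (Fin.rev i))
    rw [show k - ((Fin.rev i : Fin (n + 1 + 1)) : ℤ) + n = k - 1 + (i : ℕ) by rw [rev_cast]; ring] at h1
    have h2 := cap_rat hPs.2.2 hL ht h1 (i : ℕ)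
    rwa [show k - 1 + ((i : ℕ) : ℤ) - ((i : ℕ) : ℤ) = k - 1 by ring] at h2
  rw [rel_sub] at e
  simpa using add_mem e (a2 t ht)

section Class

variable (j : Fin (n + 1 + 1))

/-- The chosen tuple. -/
def tuple (s : Bivar.OSq X δX) {k : ℤ} {α : AlgebraicCycle s.Y ℤ} (hα : α ∈ Cyc.Zk s.Y s.δ k) :
    Fin (n + 1 + 1) → AlgebraicCycle s.Y ℤ :=
  (rep_exists hX hE s hα).choose

theorem tuple_spec (s : Bivar.OSq X δX) {k : ℤ} {α : AlgebraicCycle s.Y ℤ} (hα : α ∈ Cyc.Zk s.Y s.δ k) :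
    Rep n E s k α (tuple hX hE s hα) :=
  (rep_exists hX hE s hα).choose_spec

theorem cl_tuple_eq (s : Bivar.OSq X δX) {k : ℤ} {α : AlgebraicCycle s.Y ℤ} (hα : α ∈ Cyc.Zk s.Y s.δ k)
    {γ : Fin (n + 1 + 1) → AlgebraicCycle s.Y ℤ} (h : Rep n E s k α γ) :
    ChowOps.cl (tuple hX hE s hα j) ((rep_mem hX hE s (tuple_spec hX hE s hα)).2 j) =
      ChowOps.cl (γ j) ((rep_mem hX hE s h).2 j) := by
  have hs := setupY hX s
  haveI := hs.1
  exact (cl_eq_iff hs.2.2 _ _).2 (rep_unique hX hE s hs.2.2 (by rw [sub_self]; exact zero_mem _)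
    (tuple_spec hX hE s hα) h j)

/-- The operation on cycles. -/
def opZ (s : Bivar.OSq X δX) (k : ℤ) :
    ↥(ChowOps.zk s.Y s.δ k) →+ ChowOps.CH s.Y s.δ (k - ((j : ℕ) : ℤ)) :=
  AddMonoidHom.mk' (fun a => ChowOps.cl (tuple hX hE s a.2 j) ((rep_mem hX hE s (tuple_spec hX hE s a.2)).2 j))
    fun a b => by
      rw [cl_tuple_eq hX hE j s _ (rep_add hX hE s (tuple_spec hX hE s a.2) (tuple_spec hX hE s b.2))]
      rfl

/-- The operation. -/
def opC (s : Bivar.OSq X δX) (k : ℤ) : ChowOps.CH s.Y s.δ k →+ ChowOps.CH s.Y s.δ (k - ((j : ℕ) : ℤ)) :=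
  QuotientAddGroup.lift _ (opZ hX hE j s k) ((AddSubgroup.closure_le _).2 fun a ha => by
    have hs := setupY hX s
    haveI := hs.1
    have h0 : (0 : AlgebraicCycle s.Y ℤ) ∈ Cyc.Zk s.Y s.δ k := (ChowOps.zk s.Y s.δ k).zero_mem
    have e : opZ hX hE j s k a = opZ hX hE j s k ⟨0, h0⟩ :=
      (cl_eq_iff hs.2.2 _ _).2 (rep_unique hX hE s hs.2.2 (by rw [sub_zero]; exact ha)
        (tuple_spec hX hE s a.2) (tuple_spec hX hE s h0) j)
    rw [SetLike.mem_coe, AddMonoidHom.mem_ker, e]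
    exact map_zero _)

theorem opC_cl (s : Bivar.OSq X δX) {k : ℤ} {α : AlgebraicCycle s.Y ℤ} (hα : α ∈ Cyc.Zk s.Y s.δ k)
    {γ : Fin (n + 1 + 1) → AlgebraicCycle s.Y ℤ} (h : Rep n E s k α γ) :
    opC hX hE j s k (ChowOps.cl α hα) = ChowOps.cl (γ j) ((rep_mem hX hE s h).2 j) :=
  cl_tuple_eq hX hE j s hα h

include hX hE in
theorem rep_push (s t : Bivar.OSq X δX) (h : t.Y ⟶ s.Y) [IsProper h] (w : h ≫ s.g = t.g) {k : ℤ}
    {α : AlgebraicCycle t.Y ℤ} {γ : Fin (n + 1 + 1) → AlgebraicCycle t.Y ℤ} (hγ : Rep n E t k α γ) :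
    Rep n E s k (AlgebraicCycle.map h t.δ s.δ α) (fun j => AlgebraicCycle.map h t.δ s.δ (γ j)) := by
  obtain ⟨P, π, O1, q, δP, hP, hπ, hPs, hc⟩ := exists_data hX hE s
  have hs := setupY hX s
  have ht := setupY hX t
  haveI := hs.1
  haveI := ht.1
  haveI := hPs.1
  have hh : Cyc.DeltaCompat h t.δ s.δ :=
    Groth.L22.Bundle.deltaCompat_cancel h s.g (w ▸ t.compat) s.compat
  haveI := hπ
  have hsq := IsPullback.of_hasPullback π h
  obtain ⟨δP', hPs', hc'⟩ := Groth.L22.Cyc.exists_setup (pullback.snd π h) ht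
  haveI := hPs'.1
  have hP' := Groth.L22.Bundle.isProjBundle_baseChange q hP hsq
  have hE' := rank_pullback h (rank_pullback s.g hE)
  let θ : (Scheme.Modules.pullback t.g).obj E ≅
      (Scheme.Modules.pullback h).obj ((Scheme.Modules.pullback s.g).obj E) :=
    (Scheme.Modules.pullbackCongr w).symm.app E ≪≫ (Scheme.Modules.pullbackComp h s.g).symm.app E
  obtain ⟨Pt, πt, Ot, qt, δt, hPt, hπt, hPts, hct⟩ := exists_data hX hE t
  haveI := hπt
  haveI := hPts.1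
  have h1 := isChernCap_transfer ht.2.2 (rank_pullback t.g hE) θ hPt hP' hPts.2.2 hPs'.2.2 hct hc'
    (hγ Pt πt Ot qt hPt δt hct)
  exact rep_of hX hE s (Iso.refl _) hP hc
    (isChernCap_push ht.2.2 hs.2.2 hPs.2.2 hPs'.2.2 hP (rank_pullback s.g hE) hc hc' hsq hh h1)

include hX hE in
theorem rep_pull (s t : Bivar.OSq X δX) (h : t.Y ⟶ s.Y) [Flat h] [LocallyOfFiniteType h] {r : ℕ}
    (hr : Cyc.HasRelDim h r) (w : h ≫ s.g = t.g) (hh : Cyc.DeltaCompat h t.δ s.δ) [IsLocallyNoetherian t.Y]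
    {k : ℤ} {α : AlgebraicCycle s.Y ℤ} {γ : Fin (n + 1 + 1) → AlgebraicCycle s.Y ℤ} (hγ : Rep n E s k α γ) :
    Rep n E t (k + r) (pullC h (Groth.L22.Cyc.shift_of_deltaCompat h hr hh) α)
      (fun j => pullC h (Groth.L22.Cyc.shift_of_deltaCompat h hr hh) (γ j)) := by
  obtain ⟨P, π, O1, q, δP, hP, hπ, hPs, hc⟩ := exists_data hX hE s
  have hs := setupY hX s
  have ht := setupY hX t
  haveI := hs.1
  haveI := hPs.1
  haveI := hπ
  have hsq := IsPullback.of_hasPullback π h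
  obtain ⟨δP', hPs', hc'⟩ := Groth.L22.Cyc.exists_setup (pullback.snd π h) ht
  haveI := hPs'.1
  have hP' := Groth.L22.Bundle.isProjBundle_baseChange q hP hsq
  let θ : (Scheme.Modules.pullback h).obj ((Scheme.Modules.pullback s.g).obj E) ≅
      (Scheme.Modules.pullback t.g).obj E :=
    (Scheme.Modules.pullbackComp h s.g).app E ≪≫ (Scheme.Modules.pullbackCongr w).app E
  exact rep_of hX hE t θ hP' hc'
    (isChernCap_pull ht.2.2 hs.2.2 hPs.2.2 hPs'.2.2 hP (rank_pullback s.g hE) hc hc' hsq hr hh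
      (hγ P π O1 q hP δP hc))

include hX hE in
theorem rep_gysin (s t : Bivar.OSq X δX) (i : t.Y ⟶ s.Y) [IsClosedImmersion i] (w : i ≫ s.g = t.g)
    [IsLocallyNoetherian s.Y] (hd : Cyc.IsDimFun s.Y s.δ)
    {L : s.Y.Modules} (hL : PicF.IsInvertible L) (σ : L.presheaf.obj (Opposite.op ⊤))
    (hσ : Cyc.IsZeroSchemeOf i L σ) {v : (ξ : s.Y) → Cyc.secFibre L ξ} (hv : ∀ ξ, v ξ ≠ 0)
    {k : ℤ} {α : AlgebraicCycle s.Y ℤ} {γ : Fin (n + 1 + 1) → AlgebraicCycle s.Y ℤ} (hγ : Rep n E s k α γ) :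
    Rep n E t (k - 1) (gys i hd hL σ hv α) (fun j => gys i hd hL σ hv (γ j)) := by
  obtain ⟨P, π, O1, q, δP, hP, hπ, hPs, hc⟩ := exists_data hX hE s
  haveI := hPs.1
  haveI := hπ
  have hsq := IsPullback.of_hasPullback π i
  have hP' := Groth.L22.Bundle.isProjBundle_baseChange q hP hsq
  let θ : (Scheme.Modules.pullback i).obj ((Scheme.Modules.pullback s.g).obj E) ≅
      (Scheme.Modules.pullback t.g).obj E :=
    (Scheme.Modules.pullbackComp i s.g).app E ≪≫ (Scheme.Modules.pullbackCongr w).app E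
  have hδt : t.δ = fun d => s.δ (i d) := Groth.L16.BivarEnv.deltaCompat_unique t.g t.compat
    (w ▸ Groth.L22.Bundle.deltaCompat_comp i s.g s.compat)
  have hcl := Groth.L22.C1.deltaCompat_closedImmersion i s.δ
  have hc' : Cyc.DeltaCompat (pullback.snd π i) (fun z => δP (pullback.fst π i z)) t.δ :=
    hδt ▸ Groth.L22.Bundle.deltaCompat_cancel (pullback.snd π i) i
      (pullback.condition (f := π) (g := i) ▸ Groth.L22.Bundle.deltaCompat_comp (pullback.fst π i) π hc) hcl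
  refine rep_of hX hE t θ hP' hc' ?_
  rw [hδt]
  exact isChernCap_gysin hd hPs.2.2 hc hP (rank_pullback s.g hE) hL σ i hσ hv (hγ P π O1 q hP δP hc)

/-- The operational Chern class. -/
def cls : Bivar.OpCl ((j : ℕ) : ℤ) X δX where
  op s k := opC hX hE j s k
  push s t h _ w k := by
    intro α hα
    have hγ := tuple_spec hX hE t hα
    exact ⟨_, (rep_mem hX hE t hγ).2 j, opC_cl hX hE j t hα hγ,
      opC_cl hX hE j s _ (rep_push hX hE s t h w hγ)⟩
  pull s t h _ r hr w k := by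
    intro α hα
    have hγ := tuple_spec hX hE s hα
    refine ⟨_, (rep_mem hX hE s hγ).2 j, opC_cl hX hE j s hα hγ, fun α₁ hα₁ hα₁k => ?_⟩
    have ht := setupY hX t
    haveI := ht.1
    haveI := t.lft
    haveI := s.lft
    haveI : LocallyOfFiniteType h := by
      haveI : LocallyOfFiniteType (h ≫ s.g) := w ▸ t.lft
      exact locallyOfFiniteType_of_comp h s.g
    have hh : Cyc.DeltaCompat h t.δ s.δ :=
      Groth.L22.Bundle.deltaCompat_cancel h s.g (w ▸ t.compat) s.compat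
    have hp := rep_pull hX hE s t h hr w hh hγ
    obtain rfl : α₁ = pullC h (Groth.L22.Cyc.shift_of_deltaCompat h hr hh) α :=
      DFunLike.coe_injective (hα₁.trans (pullC_coe h _ α).symm)
    exact ⟨_, (rep_mem hX hE t hp).2 j, pullC_coe h _ _, opC_cl hX hE j t hα₁k hp⟩
  gysin s t i _ w L hL σ hσ k := by
    intro α hα
    have hγ := tuple_spec hX hE s hα
    refine ⟨_, (rep_mem hX hE s hγ).2 j, opC_cl hX hE j s hα hγ, fun v hv γ hγc hγk => ?_⟩
    have hs := setupY hX s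
    haveI := hs.1
    have hp := rep_gysin hX hE s t i w hs.2.2 hL σ hσ hv hγ
    obtain rfl : γ = gys i hs.2.2 hL σ hv α :=
      Function.locallyFinsuppWithin.ext fun d => by rw [hγc, gys_apply]
    exact ⟨_, (rep_mem hX hE t hp).2 j, gys_apply i hs.2.2 hL σ hv _, opC_cl hX hE j t hγk hp⟩

end Class

end Groth.L22.Chern
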