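import Groth.Agent.L22.Chern.Compat
import Groth.Agent.L23.DimFunSch

/-!
Chern class caps are additive, commute with each other.
-/

set_option autoImplicit false
set_option linter.style.haveILetI false
set_option backward.isDefEq.respectTransparency.types false
set_option backward.isDefEq.respectTransparency false

universe u

open CategoryTheory CategoryTheory.Limits AlgebraicGeometry TopologicalSpace

noncomputable section

namespace Groth.L22.Chern

variable {Y P : Scheme.{u}} [IsLocallyNoetherian Y] [IsLocallyNoetherian P] {π : P ⟶ Y} {O1 : P.Modules}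
  {n : ℕ} {δY : Y → ℤ} {δP : P → ℤ} (hdY : Cyc.IsDimFun Y δY) (hdP : Cyc.IsDimFun P δP)
  (hp : Shift π δP δY (n : ℤ)) (hL : PicF.IsInvertible O1)

include hdP hp hL in
theorem isChernCap_sum {I : Type*} (T : Finset I) (c : I → ℤ) {k : ℤ} {α : I → AlgebraicCycle Y ℤ}
    {γ : I → Fin (n + 1 + 1) → AlgebraicCycle Y ℤ}
    (h : ∀ i ∈ T, Cyc.IsChernCap π δY δP O1 (n + 1) k (α i) (γ i)) :
    Cyc.IsChernCap π δY δP O1 (n + 1) k (∑ i ∈ T, c i • α i) (fun j => ∑ i ∈ T, c i • γ i j) := by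
  obtain ⟨t, ht⟩ := exists_secs hL
  refine isChernCap_of_one hdP hL hp ht (Finset.sum_congr rfl fun i hi => by rw [(h i hi).1]) (fun j => ?_) ?_
  · exact (zGroup δY (k - ((j : ℕ) : ℤ))).sum_mem
      fun i hi => zsmul_mem (show γ i j ∈ zGroup δY _ from (h i hi).2.1 j) (c i)
  · have e : rel hdP hL hp ht (fun j => ∑ i ∈ T, c i • γ i j) = ∑ i ∈ T, c i • rel hdP hL hp ht (γ i) := by
      simp only [rel, map_sum, map_zsmul, Finset.smul_sum]
      rw [Finset.sum_comm]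
      exact Finset.sum_congr rfl fun i _ => Finset.sum_congr rfl fun l _ => smul_comm _ _ _
    rw [e]
    exact sum_mem fun i hi => zsmul_mem (((isChernCap_iff hdP hL hp).1 (h i hi)).2.2 t ht) _

include hdP hp hL in
theorem isChernCap_capIter [Flat π] {M : Y.Modules} (hM : PicF.IsInvertible M)
    {v : ℕ → (ξ : Y) → Cyc.secFibre M ξ} (hv : ∀ m ξ, v m ξ ≠ 0) {k : ℤ}
    {α : AlgebraicCycle Y ℤ} {γ : Fin (n + 1 + 1) → AlgebraicCycle Y ℤ}
    (hγ : Cyc.IsChernCap π δY δP O1 (n + 1) k α γ) (m : ℕ) :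
    Cyc.IsChernCap π δY δP O1 (n + 1) (k - m) (cap hdY hM hv m α) (fun j => cap hdY hM hv m (γ j)) := by
  induction m with
  | zero => simp only [cap_zero, Nat.cast_zero, sub_zero]; exact hγ
  | succ m ih =>
    have h := isChernCap_cap hdY hdP hp hM (v := fun _ => v m) (fun _ => hv m) hL ih
    simp only [cap_step hdY hM hv] at h
    rwa [show k - (m : ℤ) - 1 = k - ((m + 1 : ℕ) : ℤ) by push_cast; ring] at h

variable {X Q : Scheme.{u}} [IsLocallyNoetherian X] [IsLocallyNoetherian Q] {p : P ⟶ X} {E F : X.Modules}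
  {q : (Scheme.Modules.pullback p).obj E ⟶ O1} {p' : Q ⟶ X} {O1' : Q.Modules}
  {q' : (Scheme.Modules.pullback p').obj F ⟶ O1'} {δ : X → ℤ} {δQ : Q → ℤ} [IsProper p] [IsProper p'] {m : ℕ}

/-- Caps with two Chern classes commute. -/
theorem comm (hX : Cyc.IsSetup X δ) (hPs : Cyc.IsSetup P δP) (hQs : Cyc.IsSetup Q δQ)
    (hPB : KRR.IsProjBundle p E O1 q) (hE : FlatMod.IsFinLocFreeOfRank (n + 1) E)
    (hQB : KRR.IsProjBundle p' F O1' q') (hF : FlatMod.IsFinLocFreeOfRank (m + 1) F)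
    (hδ : Cyc.DeltaCompat p δP δ) (hδ' : Cyc.DeltaCompat p' δQ δ) {k : ℤ} {α : AlgebraicCycle X ℤ}
    (i : Fin (n + 1 + 1)) (j : Fin (m + 1 + 1)) {γ : Fin (n + 1 + 1) → AlgebraicCycle X ℤ}
    (hγ : Cyc.IsChernCap p δ δP O1 (n + 1) k α γ) {ε : Fin (m + 1 + 1) → AlgebraicCycle X ℤ}
    (hε : Cyc.IsChernCap p' δ δQ O1' (m + 1) (k - ((i : ℕ) : ℤ)) (γ i) ε)
    {φ : Fin (m + 1 + 1) → AlgebraicCycle X ℤ} (hφ : Cyc.IsChernCap p' δ δQ O1' (m + 1) k α φ)
    {ψ : Fin (n + 1 + 1) → AlgebraicCycle X ℤ}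
    (hψ : Cyc.IsChernCap p δ δP O1 (n + 1) (k - ((j : ℕ) : ℤ)) (φ j) ψ) :
    Cyc.RatEquiv δ (k - ((i : ℕ) : ℤ) - ((j : ℕ) : ℤ)) (ε j) (ψ i) := by
  classical
  have hdX := hX.2.2
  have hdP := hPs.2.2
  have hdQ := hQs.2.2
  haveI := Groth.L22.Bundle.flat_of_isProjBundle hPB hE
  have hL := Groth.L22.Bundle.isInvertible_of_one hPB.invertible
  have hL' := Groth.L22.Bundle.isInvertible_of_one hQB.invertible
  have hp : Shift p δP δ (n : ℤ) := Groth.L22.Bundle.delta_of_fibGen hdP hδ hPB hE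
  have hp' : Shift p' δQ δ (m : ℤ) := Groth.L22.Bundle.delta_of_fibGen hdQ hδ' hQB hF
  obtain ⟨a0, a1, a2⟩ := (isChernCap_iff hdP hL hp).1 hγ
  choose e he using fun l : Fin (n + 1 + 1) => exists_chern hdX hdQ hδ' hL' hp' hQB hF (a1 l)
  -- the bundle of F over P
  have hsq : IsPullback (pullback.fst p' p) (pullback.snd p' p) p' p := IsPullback.of_hasPullback p' p
  let R := pullback p' p
  let sn : R ⟶ P := pullback.snd p' p
  haveI : IsLocallyNoetherian R := LocallyOfFiniteType.isLocallyNoetherian sn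
  choose d hd using Groth.L23.DimFun.exists_rtrdeg_eq sn
  let δR : R → ℤ := fun x => δP (sn x) + d x
  have hδR : Cyc.DeltaCompat sn δR δP := fun x => ⟨d x, hd x, rfl⟩
  have hdR : Cyc.IsDimFun R δR := Groth.L23.DimFun.isDimFun_of_deltaCompat sn hPs.2.1 hdP hδR
  have hrd : Cyc.HasRelDim p n := Groth.L22.Cyc.hasRelDim_of_rtrdeg p fun x hx => by
    obtain ⟨b, hb, hbd⟩ := hδ x
    have hs := hp x hx
    have : b = n := by omega
    rw [show Groth.L22.Cyc.rtrdeg p x = (b : Cardinal.{u}) from hb, this]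
  have hQBP := Groth.L22.Bundle.isProjBundle_baseChange q' hQB hsq
  have hFP := rank_pullback p hF
  haveI := Groth.L22.Bundle.flat_of_isProjBundle hQBP hFP
  have hLR := Groth.L22.Bundle.isInvertible_of_one hQBP.invertible
  have hps : Shift sn δR δP (m : ℤ) := Groth.L22.Bundle.delta_of_fibGen hdR hδR hQBP hFP
  have hsh := Groth.L22.Cyc.shift_of_deltaCompat p hrd hδ
  have hpull := fun l => isChernCap_pull hdP hdX hdQ hdR hQB hF hδ' hδR hsq hrd hδ (he l)
  -- apply the cap to the relation for E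
  obtain ⟨t, ht⟩ := exists_secs hL
  have hterm : ∀ l ∈ (Finset.univ : Finset (Fin (n + 1 + 1))),
      Cyc.IsChernCap sn δP δR ((Scheme.Modules.pullback (pullback.fst p' p)).obj O1') (m + 1) (k - 1)
        (cap hdP hL ht (l : ℕ) (pullC p hsh (γ (Fin.rev l))))
        (fun r => cap hdP hL ht (l : ℕ) (pullC p hsh (e (Fin.rev l) r))) := fun l _ => by
    have h := isChernCap_capIter hdP hdR hps hLR hL ht (hpull (Fin.rev l)) (l : ℕ)
    rwa [show k - ((Fin.rev l : Fin (n + 1 + 1)) : ℤ) + (n : ℤ) - ((l : ℕ) : ℤ) = k - 1 by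
      rw [rev_cast]; ring] at h
  have hbig := isChernCap_sum hdR hps hLR Finset.univ (fun l : Fin (n + 1 + 1) => (-1 : ℤ) ^ (l : ℕ)) hterm
  have hzero : Cyc.IsChernCap sn δP δR ((Scheme.Modules.pullback (pullback.fst p' p)).obj O1') (m + 1) (k - 1) 0
      (fun _ => 0) := by
    simpa using isChernCap_sum hdR hps hLR (∅ : Finset (Fin 1)) (fun _ => 0) (α := fun _ => 0)
      (γ := fun _ _ => 0) (k := k - 1) (by simp)
  have hj := unique hdP hdR hδR hLR hps hQBP hFP (α' := 0) (by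
    rw [ratEquiv_iff (hδ := hdP), sub_zero]
    exact a2 t ht) hbig hzero j
  rw [sub_zero] at hj
  replace hj : rel hdP hL hp ht (fun l => e l j) ∈ ratGroup hdP (k - 1 - ((j : ℕ) : ℤ)) := hj
  have hχ : Cyc.IsChernCap p δ δP O1 (n + 1) (k - ((j : ℕ) : ℤ)) (e 0 j) (fun l => e l j) := by
    refine isChernCap_of_one hdP hL hp ht rfl (fun l => ?_) ?_
    · have := (he l).2.1 j
      rwa [show k - ((l : ℕ) : ℤ) - ((j : ℕ) : ℤ) = k - ((j : ℕ) : ℤ) - ((l : ℕ) : ℤ) by ring] at this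
    · rwa [show k - ((j : ℕ) : ℤ) - 1 = k - 1 - ((j : ℕ) : ℤ) by ring]
  have h0 : Cyc.RatEquiv δ (k - ((j : ℕ) : ℤ)) (e 0 j) (φ j) := by
    have he0 : Cyc.IsChernCap p' δ δQ O1' (m + 1) k α (e 0) := by simpa [a0] using he 0
    exact unique hdX hdQ hδ' hL' hp' hQB hF ((ratEquiv_iff (hδ := hdX)).2 (by rw [sub_self]; exact zero_mem _))
      he0 hφ j
  have h1 := unique hdX hdP hδ hL hp hPB hE h0 hχ hψ i
  have h2 := unique hdX hdQ hδ' hL' hp' hQB hF ((ratEquiv_iff (hδ := hdX)).2 (by rw [sub_self]; exact zero_mem _))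
    hε (he i) j
  rw [show k - ((j : ℕ) : ℤ) - ((i : ℕ) : ℤ) = k - ((i : ℕ) : ℤ) - ((j : ℕ) : ℤ) by ring] at h1
  exact (ratEquiv_iff (hδ := hdX)).2 (by simpa using add_mem h2 h1)

end Groth.L22.Chern
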