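import Groth.Agent.L22.Chern.Rel
import Groth.Agent.L22.Bundle.BaseChange
import Groth.Agent.L29.LocFree

/-!
The defining relation of Chern class caps under flat pullback, push-forward and a first Chern class.
-/

set_option autoImplicit false
set_option linter.style.haveILetI false
set_option backward.isDefEq.respectTransparency.types false
set_option backward.isDefEq.respectTransparency false

universe u

open CategoryTheory CategoryTheory.Limits AlgebraicGeometry TopologicalSpace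

noncomputable section

namespace Groth.L22.Chern

open Groth.L22.Cyc (rtrdeg rtrdeg_comp rtrdeg_congr)

variable {X Y P P' : Scheme.{u}}

theorem rank_pullback (f : X ⟶ Y) {n : ℕ} {M : Y.Modules} (h : FlatMod.IsFinLocFreeOfRank n M) :
    FlatMod.IsFinLocFreeOfRank n ((Scheme.Modules.pullback f).obj M) := fun x => by
  obtain ⟨U, hx, ⟨i⟩⟩ := h (f x)
  exact ⟨f ⁻¹ᵁ U, hx, Groth.L29.LocFree.restrict_pullback f i⟩

/-- Dimension functions compose. -/
theorem deltaCompat_trans (f : P' ⟶ X) (g : X ⟶ Y) {δW : P' → ℤ} {δX : X → ℤ} {δY : Y → ℤ}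
    (hf : Cyc.DeltaCompat f δW δX) (hg : Cyc.DeltaCompat g δX δY) : Cyc.DeltaCompat (f ≫ g) δW δY := by
  intro x
  obtain ⟨a, ha, h1⟩ := hf x
  obtain ⟨b, hb, h2⟩ := hg (f x)
  refine ⟨b + a, ?_, ?_⟩
  · show rtrdeg (f ≫ g) x = ((b + a : ℕ) : Cardinal.{u})
    rw [rtrdeg_comp, show rtrdeg g (f x) = (b : Cardinal.{u}) from hb,
      show rtrdeg f x = (a : Cardinal.{u}) from ha, Nat.cast_add]
  · rw [h1, h2]
    show _ = δY (g (f x)) + _
    push_cast
    ring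

/-- The projection of a base change inherits the dimension function. -/
theorem deltaCompat_fst {π : P ⟶ Y} {f : X ⟶ Y} {f' : P' ⟶ P} {π' : P' ⟶ X} (w : f' ≫ π = π' ≫ f)
    {δY : Y → ℤ} {δX : X → ℤ} {δP : P → ℤ} {δP' : P' → ℤ} (hf : Cyc.DeltaCompat f δX δY)
    (hπ : Cyc.DeltaCompat π δP δY) (hπ' : Cyc.DeltaCompat π' δP' δX) : Cyc.DeltaCompat f' δP' δP :=
  Groth.L22.Bundle.deltaCompat_cancel f' π (w ▸ deltaCompat_trans π' f hπ' hf) hπ

variable [IsLocallyNoetherian X] [IsLocallyNoetherian Y] [IsLocallyNoetherian P] [IsLocallyNoetherian P']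
  {δX : X → ℤ} {δY : Y → ℤ} {δP : P → ℤ} {δP' : P' → ℤ}
  (hdX : Cyc.IsDimFun X δX) (hdY : Cyc.IsDimFun Y δY) (hdP : Cyc.IsDimFun P δP) (hdP' : Cyc.IsDimFun P' δP')
  {π : P ⟶ Y} {f : X ⟶ Y} {f' : P' ⟶ P} {π' : P' ⟶ X} {O1 : P.Modules} (hL : PicF.IsInvertible O1)
  {n : ℕ} (hp : Shift π δP δY (n : ℤ)) (hp' : Shift π' δP' δX (n : ℤ))
  {t : ℕ → (ξ : P) → Cyc.secFibre O1 ξ} (ht : ∀ m ξ, t m ξ ≠ 0)
  {t' : ℕ → (ξ : P') → Cyc.secFibre ((Scheme.Modules.pullback f').obj O1) ξ} (ht' : ∀ m ξ, t' m ξ ≠ 0)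

/-- The relation pulls back. -/
theorem rel_pull [Flat f] [Flat π] [Flat π'] [Flat f'] (w : f' ≫ π = π' ≫ f) {c : ℤ} (hf : Shift f δX δY c)
    (hg : Shift f' δP' δP c) {k : ℤ} {γ : Fin (n + 1 + 1) → AlgebraicCycle Y ℤ}
    (hγ : ∀ j : Fin (n + 1 + 1), γ j ∈ Cyc.Zk Y δY (k - ((j : ℕ) : ℤ))) :
    pullC f' hg (rel hdP hL hp ht γ) -
      rel hdP' (Groth.L18.Ample.isInvertible_pullback f' hL) hp' ht' (fun j => pullC f hf (γ j)) ∈
        ratGroup hdP' (k - 1 + c) := by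
  simp only [rel, map_sum, map_zsmul, ← Finset.sum_sub_distrib, ← smul_sub]
  refine sum_mem fun i _ => zsmul_mem ?_ _
  have := cap_pullC hdP' hdP hL f' hg ht ht' (term_mem hp hγ i) (i : ℕ)
  rw [pullC_square f' π π' f w hg hp hp' hf] at this
  rwa [show k - 1 + ((i : ℕ) : ℤ) + c - ((i : ℕ) : ℤ) = k - 1 + c by ring] at this

/-- The relation pushes forward. -/
theorem rel_push [IsProper f] [Flat π] [IsProper f'] (hsq : IsPullback f' π' π f) (hf : Cyc.DeltaCompat f δX δY)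
    (hg : Cyc.DeltaCompat f' δP' δP) {k : ℤ} {γ : Fin (n + 1 + 1) → AlgebraicCycle X ℤ}
    (hγ : ∀ j : Fin (n + 1 + 1), γ j ∈ Cyc.Zk X δX (k - ((j : ℕ) : ℤ))) :
    pushC f' δP' δP (rel hdP' (Groth.L18.Ample.isInvertible_pullback f' hL) hp' ht' γ) -
      rel hdP hL hp ht (fun j => pushC f δX δY (γ j)) ∈ ratGroup hdP (k - 1) := by
  simp only [rel, map_sum, map_zsmul, ← Finset.sum_sub_distrib, ← smul_sub]
  refine sum_mem fun i _ => zsmul_mem ?_ _
  have := cap_pushC hdP' hdP hL f' hg ht ht' (term_mem hp' hγ i) (i : ℕ)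
  rw [pushC_pullC hdP f π f' π' hsq hf hg hp hp'] at this
  rwa [show k - 1 + ((i : ℕ) : ℤ) - ((i : ℕ) : ℤ) = k - 1 by ring] at this

include hdY in
omit [IsLocallyNoetherian X] [IsLocallyNoetherian P'] in
/-- The relation commutes with a first Chern class from the base. -/
theorem rel_cap [Flat π] {M : Y.Modules} (hM : PicF.IsInvertible M) {v : ℕ → (ξ : Y) → Cyc.secFibre M ξ}
    (hv : ∀ m ξ, v m ξ ≠ 0) {v' : ℕ → (ξ : P) → Cyc.secFibre ((Scheme.Modules.pullback π).obj M) ξ}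
    (hv' : ∀ m ξ, v' m ξ ≠ 0) {k : ℤ} {γ : Fin (n + 1 + 1) → AlgebraicCycle Y ℤ}
    (hγ : ∀ j : Fin (n + 1 + 1), γ j ∈ Cyc.Zk Y δY (k - ((j : ℕ) : ℤ))) :
    cap hdP (Groth.L18.Ample.isInvertible_pullback π hM) hv' 1 (rel hdP hL hp ht γ) -
      rel hdP hL hp ht (fun j => cap hdY hM hv 1 (γ j)) ∈ ratGroup hdP (k - 2) := by
  have hM' := Groth.L18.Ample.isInvertible_pullback π hM
  simp only [rel, map_sum, map_zsmul, ← Finset.sum_sub_distrib, ← smul_sub]
  refine sum_mem fun i _ => zsmul_mem ?_ _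
  have h1 := cap_comm hdP hL hM' ht hv' (term_mem hp hγ i) (i : ℕ)
  have h2 := cap_pullC hdP hdY hM π hp hv hv' (hγ (Fin.rev i)) 1
  replace h2 := cap_rat hdP hL ht (neg_mem h2) (i : ℕ)
  rw [neg_sub, map_sub] at h2
  rw [show k - 1 + ((i : ℕ) : ℤ) - ((i : ℕ) : ℤ) - 1 = k - 2 by ring] at h1
  rw [show k - ((Fin.rev i : Fin (n + 1 + 1)) : ℤ) + (n : ℤ) - ((1 : ℕ) : ℤ) - ((i : ℕ) : ℤ) = k - 2 by
    rw [rev_cast]; push_cast; ring] at h2
  simpa using add_mem h1 h2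

section Setting

variable [IsProper π] [IsProper π'] {E : Y.Modules} {q : (Scheme.Modules.pullback π).obj E ⟶ O1}
  (hPB : KRR.IsProjBundle π E O1 q) (hE : FlatMod.IsFinLocFreeOfRank (n + 1) E)
  (hπ : Cyc.DeltaCompat π δP δY) (hπ' : Cyc.DeltaCompat π' δP' δX) (hsq : IsPullback f' π' π f)

include hdY hdP hdP' hdX hPB hE hπ hπ' hsq in
/-- Pullback of Chern caps along a flat morphism. -/
theorem isChernCap_pull [Flat f] [LocallyOfFiniteType f] {c : ℕ} (hc : Cyc.HasRelDim f c)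
    (hf : Cyc.DeltaCompat f δX δY) {k : ℤ} {α : AlgebraicCycle Y ℤ}
    {γ : Fin (n + 1 + 1) → AlgebraicCycle Y ℤ} (hγ : Cyc.IsChernCap π δY δP O1 (n + 1) k α γ) :
    Cyc.IsChernCap π' δX δP' ((Scheme.Modules.pullback f').obj O1) (n + 1) (k + c)
      (pullC f (Groth.L22.Cyc.shift_of_deltaCompat f hc hf) α)
      (fun j => pullC f (Groth.L22.Cyc.shift_of_deltaCompat f hc hf) (γ j)) := by
  haveI := Groth.L22.Bundle.flat_of_isProjBundle hPB hE
  have hPB' := Groth.L22.Bundle.isProjBundle_baseChange q hPB hsq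
  have hE' := rank_pullback f hE
  haveI := Groth.L22.Bundle.flat_of_isProjBundle hPB' hE'
  haveI : Flat f' := MorphismProperty.of_isPullback hsq.flip ‹Flat f›
  haveI : LocallyOfFiniteType f' := MorphismProperty.of_isPullback hsq.flip ‹LocallyOfFiniteType f›
  have hL := Groth.L22.Bundle.isInvertible_of_one hPB.invertible
  have hL' := Groth.L18.Ample.isInvertible_pullback f' hL
  have hp : Shift π δP δY (n : ℤ) := Groth.L22.Bundle.delta_of_fibGen hdP hπ hPB hE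
  have hp' : Shift π' δP' δX (n : ℤ) := Groth.L22.Bundle.delta_of_fibGen hdP' hπ' hPB' hE'
  have hrf := Groth.L22.Cyc.shift_of_deltaCompat f hc hf
  have hg : Shift f' δP' δP c := Groth.L22.Cyc.shift_of_deltaCompat f'
    (Groth.L22.Cyc.hasRelDim_baseChange hsq.flip hc) (deltaCompat_fst hsq.w hf hπ hπ')
  obtain ⟨a0, a1, a2⟩ := (isChernCap_iff hdP hL hp).1 hγ
  obtain ⟨t, ht⟩ := exists_secs hL
  obtain ⟨t', ht'⟩ := exists_secs hL'
  refine isChernCap_of_one hdP' hL' hp' ht' (congrArg _ a0) (fun j => ?_) ?_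
  · have := pullC_mem f hrf (a1 j)
    rwa [show k - ((j : ℕ) : ℤ) + c = k + c - ((j : ℕ) : ℤ) by ring] at this
  · have h1 := rel_pull hdP hdP' hL hp hp' ht ht' hsq.w hrf hg a1
    have h2 := pullC_rat f' hg hdP' hdP (a2 t ht)
    rw [show k + (c : ℤ) - 1 = k - 1 + c by ring]
    simpa using sub_mem h2 h1

include hdY hdP hdP' hdX hPB hE hπ hπ' hsq in
/-- Push-forward of Chern caps along a proper morphism. -/
theorem isChernCap_push [IsProper f] (hf : Cyc.DeltaCompat f δX δY) {k : ℤ} {α : AlgebraicCycle X ℤ}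
    {γ : Fin (n + 1 + 1) → AlgebraicCycle X ℤ}
    (hγ : Cyc.IsChernCap π' δX δP' ((Scheme.Modules.pullback f').obj O1) (n + 1) k α γ) :
    Cyc.IsChernCap π δY δP O1 (n + 1) k (pushC f δX δY α) (fun j => pushC f δX δY (γ j)) := by
  haveI := Groth.L22.Bundle.flat_of_isProjBundle hPB hE
  have hPB' := Groth.L22.Bundle.isProjBundle_baseChange q hPB hsq
  have hE' := rank_pullback f hE
  haveI : IsProper f' := MorphismProperty.of_isPullback hsq.flip ‹IsProper f›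
  have hL := Groth.L22.Bundle.isInvertible_of_one hPB.invertible
  have hL' := Groth.L18.Ample.isInvertible_pullback f' hL
  have hp : Shift π δP δY (n : ℤ) := Groth.L22.Bundle.delta_of_fibGen hdP hπ hPB hE
  have hp' : Shift π' δP' δX (n : ℤ) := Groth.L22.Bundle.delta_of_fibGen hdP' hπ' hPB' hE'
  have hg := deltaCompat_fst hsq.w hf hπ hπ'
  obtain ⟨a0, a1, a2⟩ := (isChernCap_iff hdP' hL' hp').1 hγ
  obtain ⟨t, ht⟩ := exists_secs hL
  obtain ⟨t', ht'⟩ := exists_secs hL'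
  refine isChernCap_of_one hdP hL hp ht (congrArg _ a0) (fun j => pushC_mem f (a1 j)) ?_
  have h1 := rel_push hdP hdP' hL hp hp' ht ht' hsq hf hg a1
  simpa using sub_mem (pushC_rat f' hdP' hdP hg (a2 t' ht')) h1

end Setting

include hdY hdP hp in
omit [IsLocallyNoetherian X] [IsLocallyNoetherian P'] in
/-- Chern caps of a first Chern class. -/
theorem isChernCap_cap [Flat π] {M : Y.Modules} (hM : PicF.IsInvertible M)
    {v : ℕ → (ξ : Y) → Cyc.secFibre M ξ} (hv : ∀ m ξ, v m ξ ≠ 0) (hL : PicF.IsInvertible O1) {k : ℤ}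
    {α : AlgebraicCycle Y ℤ} {γ : Fin (n + 1 + 1) → AlgebraicCycle Y ℤ}
    (hγ : Cyc.IsChernCap π δY δP O1 (n + 1) k α γ) :
    Cyc.IsChernCap π δY δP O1 (n + 1) (k - 1) (cap hdY hM hv 1 α) (fun j => cap hdY hM hv 1 (γ j)) := by
  have hM' := Groth.L18.Ample.isInvertible_pullback π hM
  obtain ⟨a0, a1, a2⟩ := (isChernCap_iff hdP hL hp).1 hγ
  obtain ⟨t, ht⟩ := exists_secs hL
  obtain ⟨v', hv'⟩ := exists_secs hM'
  refine isChernCap_of_one hdP hL hp ht (congrArg _ a0) (fun j => ?_) ?_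
  · have := cap_mem hdY hM hv (a1 j) 1
    rwa [show k - ((j : ℕ) : ℤ) - ((1 : ℕ) : ℤ) = k - 1 - ((j : ℕ) : ℤ) by push_cast; ring] at this
  · have h1 := rel_cap hdY hdP hL hp ht hM hv hv' a1
    have h2 := cap_rat hdP hM' hv' (a2 t ht) 1
    rw [show k - 1 - ((1 : ℕ) : ℤ) = k - 2 by push_cast; ring] at h2
    rw [show k - 1 - 1 = k - 2 by ring]
    simpa using sub_mem h2 h1

end Groth.L22.Chern
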