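import Groth.Agent.L22.Chern.Whitney
import Groth.Agent.L22.LatDeg.IntNum
import Groth.Agent.L22.CurveDeg.Devissage
import Groth.Agent.L22.Cyc.PushSheaf
import Groth.Agent.L22.Cyc.PushPull
import Groth.Agent.L16.NegPow.Gen
import Groth.Agent.S1928
import Mathlib.AlgebraicGeometry.ZariskisMainTheorem

/-!
The degree of a bundle on a curve is the degree of its first Chern class.
-/

set_option autoImplicit false
set_option linter.style.haveILetI false
set_option linter.unusedSectionVars false
set_option backward.isDefEq.respectTransparency.types false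
set_option backward.isDefEq.respectTransparency false

universe u

open CategoryTheory CategoryTheory.Limits AlgebraicGeometry TopologicalSpace

noncomputable section

namespace Groth.L22.Chern

open Groth.L16.CohSupport (len len_eq_zero_iff)

variable {K : Type u} [Field K] {X : Scheme.{u}} [X.Over (Spec (CommRingCat.of K))]
  [IsProper (X ↘ Spec (CommRingCat.of K))] {δ : X → ℤ}

theorem deg_zero : ChowOps.deg (X ↘ Spec (CommRingCat.of K)) δ 0 = 0 :=
  finsum_mem_eq_zero_of_forall_eq_zero fun x _ => by simp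

theorem deg_rat (hX : Cyc.IsSetup X δ) (hK : Cyc.DeltaCompat (X ↘ Spec (CommRingCat.of K)) δ (fun _ => 0))
    {k : ℤ} {a b : AlgebraicCycle X ℤ} (h : Cyc.RatEquiv δ k a b) :
    ChowOps.deg (X ↘ Spec (CommRingCat.of K)) δ a = ChowOps.deg (X ↘ Spec (CommRingCat.of K)) δ b := by
  haveI := hX.1
  have hd : Cyc.IsDimFun (Spec (CommRingCat.of K)) (fun _ => (0 : ℤ)) :=
    fun x y _ hne => absurd (Subsingleton.elim (α := PrimeSpectrum K) x y) hne
  obtain ⟨ι, ξ, f, h1, -, -, h4⟩ := Groth.L22.Cyc.ratEquiv_map (X ↘ Spec (CommRingCat.of K)) hX.2.2 hd hK k a b h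
  refine sub_eq_zero.1 ((h4 (IsLocalRing.closedPoint K)).trans (finsum_eq_zero_of_forall_eq_zero fun i => ?_))
  by_contra hne
  have hne' := (Groth.L22.C1.divFun_ne_zero hne).2
  have := h1 i
  omega

variable (hX : Cyc.IsSetup X δ) (hK : Cyc.DeltaCompat (X ↘ Spec (CommRingCat.of K)) δ (fun _ => 0))

/-- Degree on Chow groups of one degree. -/
def degH (k : ℤ) : ChowOps.CH X δ k →+ ℤ :=
  QuotientAddGroup.lift _
    (AddMonoidHom.mk' (fun a : ↥(ChowOps.zk X δ k) => ChowOps.deg (X ↘ Spec (CommRingCat.of K)) δ a.1) fun a b => by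
      show pushC (X ↘ Spec (CommRingCat.of K)) δ (fun _ => (0 : ℤ)) (a.1 + b.1) _ = _
      rw [map_add]
      rfl)
    ((AddSubgroup.closure_le _).2 fun a ha => by
      refine (deg_rat hX hK (k := k) (a := a.1) (b := 0) ?_).trans deg_zero
      rw [Cyc.RatEquiv, sub_zero]
      exact ha)

/-- Degree on the total Chow group. -/
def degT : Tot X δ →+ ℤ := DirectSum.toAddMonoid fun k => degH hX hK k

theorem degT_emb {k : ℤ} {A : AlgebraicCycle X ℤ} (hA : A ∈ Cyc.Zk X δ k) :
    degT hX hK (emb δ k A) = ChowOps.deg (X ↘ Spec (CommRingCat.of K)) δ A := by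
  rw [emb_def hA, degT]
  exact DirectSum.toAddMonoid_of _ _ _

variable (hdim : topologicalKrullDim X ≤ 1) {α : AlgebraicCycle X ℤ}
  (hα : ⇑α = Cyc.subschemeFun δ 1 (𝟙 X))

include hα in
omit [IsProper (X ↘ Spec (CommRingCat.of K))] in
theorem fund_mem : α ∈ Cyc.Zk X δ 1 := fun x hx => by
  rw [hα]
  exact if_neg hx

include hX hK hdim hα in
/-- The formula for a filtered bundle. -/
theorem Flag.deg_eq [IsLocallyNoetherian X] {E : X.Modules} {ls : List X.Modules} (h : Flag E ls) :
    ∀ {r : ℕ} (hE : FlatMod.IsFinLocFreeOfRank r E), r = ls.length →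
      Curv2.deg K X E r = degT hX hK (C hX hE 1 (emb δ 1 α)) := by
  induction h with
  | @nil E hz =>
    rintro r hE rfl
    rw [C_of_lt hX hE (by simp), Curv2.deg,
      Groth.L03.Euler.euler_of_isZero hz]
    simp
  | @cons L E F ls hL a b hab hex hF ih =>
    rintro r hE rfl
    haveI := Groth.L21.RR.isNoetherian_of_proper (X := X) K
    have hL1 := Groth.L12.FinCov.isFinLocFreeOfRank_one_of_isInvertible hL
    have cL : Coh.IsCoh L := Groth.L16.NegPow.isCoh_of_isFinLocFree (Groth.L18.KRRAmple.isFinLocFree_of_rank hL1)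
    have cE : Coh.IsCoh E := Groth.L16.NegPow.isCoh_of_isFinLocFree (Groth.L18.KRRAmple.isFinLocFree_of_rank hE)
    have cF : Coh.IsCoh F := Groth.L16.NegPow.isCoh_of_isFinLocFree (Groth.L18.KRRAmple.isFinLocFree_of_rank hF.rank)
    have he : Curv2.euler K X E = Curv2.euler K X L + Curv2.euler K X F :=
      Groth.L03.Euler.euler_add (k := K) (S := ShortComplex.mk a b hab) hex cL cE cF
    have hα1 := fund_mem hα
    have hdeg : Curv2.deg K X E (L :: ls).length = Curv2.deg K X L 1 + Curv2.deg K X F ls.length := by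
      simp only [Curv2.deg, he, List.length_cons]
      push_cast
      ring
    obtain ⟨b₀, hb₀⟩ := Groth.L22.C1.exists_cycle_c1Cap hX.2.2 hL α (sec hL) (sec_ne hL)
    have hb : pw hX.2.2 hL (sec_ne hL) 1 α = b₀ := DFunLike.coe_injective (by rw [pw, cap_succ, cap_zero, hb₀])
    have hm : pw hX.2.2 hL (sec_ne hL) 1 α ∈ Cyc.Zk X δ 0 := by
      simpa using pw_mem hX.2.2 hL (sec_ne hL) hα1 1
    rw [hdeg, ih hF.rank rfl, C_extend hX hE hF.rank hL a b hab hex 0, C_zero, mul_one,
      Groth.Agent.S1928.result K X hdim δ hK L hL (sec hL) (sec_ne hL)]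
    show _ = degT hX hK (C hX hF.rank 1 (emb δ 1 α) + x1 hX.2.2 hL (emb δ 1 α))
    rw [map_add, x1_emb hX.2.2 hL (sec_ne hL) hα1, sub_self, degT_emb hX hK hm,
      Groth.L22.LatDeg.deg_eq_finsum hK _ hm, add_comm, ← hα, hb, hb₀]

omit [X.Over (Spec (CommRingCat.of K))] [IsProper (X ↘ Spec (CommRingCat.of K))] in
/-- The cycle of a point. -/
theorem exists_single [IsLocallyNoetherian X] (y : X) :
    ∃ A : AlgebraicCycle X ℤ, A y = 1 ∧ ∀ x, x ≠ y → A x = 0 := by
  classical
  exact ⟨{ toFun := fun x => if x = y then 1 else 0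
           supportWithinDomain' := Set.subset_univ _
           supportLocallyFiniteWithinDomain' := fun z _ =>
             ⟨Set.univ, Filter.univ_mem, (Set.finite_singleton y).subset fun x ⟨_, hx⟩ => by
               by_contra h
               exact hx (if_neg h)⟩ }, if_pos rfl, fun x h => if_neg h⟩

end Groth.L22.Chern
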