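import Groth.Agent.L22.Chern.CurveMain
import Groth.Agent.S6499

/-!
`deg E = deg (c₁(E) ∩ [X])` on a proper curve.
-/

set_option autoImplicit false
set_option linter.style.haveILetI false
set_option linter.unusedSectionVars false
set_option backward.isDefEq.respectTransparency.types false
set_option backward.isDefEq.respectTransparency false

universe u

open CategoryTheory CategoryTheory.Limits AlgebraicGeometry TopologicalSpace

noncomputable section

namespace Groth.L22.Chern

open Groth.L22.Cyc (rtrdeg)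
open Groth.L16.CohSupport (len)

theorem subschemeFun_id {X : Scheme.{u}} (δ : X → ℤ) :
    Cyc.subschemeFun δ 1 (𝟙 X) = Cyc.sheafFun δ 1 (Coh.structureModule X) := by
  funext x
  simp only [Cyc.subschemeFun, Cyc.sheafFun]
  split_ifs
  · rw [show {z : X | (𝟙 X : X ⟶ X) z = x} = {x} from Set.ext fun z => Iff.rfl, finsum_mem_singleton]
    congr 2
    exact (LinearEquiv.ofBijective
      (LinearMap.toSpanSingleton (X.presheaf.stalk x) ((Coh.structureModule X).presheaf.stalk x)
        (Groth.L22.oneGerm x))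
      ⟨(injective_iff_map_eq_zero _).2 fun a ha => Groth.L22.eq_zero_of_smul_oneGerm ha,
        Groth.L22.stalk_smul_oneGerm_surjective x⟩).length_eq
  · rfl

variable {K : Type u} [Field K] {X : Scheme.{u}} [X.Over (Spec (CommRingCat.of K))]
  [IsProper (X ↘ Spec (CommRingCat.of K))] {δ : X → ℤ}

/-- The degree formula. -/
theorem deg_eq [IsLocallyNoetherian X] (hdim : topologicalKrullDim X ≤ 1) (hX : Cyc.IsSetup X δ)
    (hK : Cyc.DeltaCompat (X ↘ Spec (CommRingCat.of K)) δ (fun _ => 0)) {r : ℕ} {E : X.Modules}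
    (hE : FlatMod.IsFinLocFreeOfRank r E) {α : AlgebraicCycle X ℤ} (hα : ⇑α = Cyc.subschemeFun δ 1 (𝟙 X)) :
    Curv2.deg K X E r = degT hX hK (C hX hE 1 (emb δ 1 α)) := by
  classical
  haveI := Groth.L21.RR.isNoetherian_of_proper (X := X) K
  have hle : ∀ x : X, δ x ≤ 1 := fun x => by
    obtain ⟨n, hn, hn'⟩ := Groth.L22.LatDeg.dim_closure_eq_delta hK x
    have h1 : (n : WithBot ℕ∞) ≤ ((1 : ℕ) : WithBot ℕ∞) := by
      rw [← hn]
      exact (topologicalKrullDim_subspace_le _ _).trans hdim
    have h2 : n ≤ 1 := by exact_mod_cast h1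
    omega
  have hS1 : ∀ x : X, ¬ IsClosed ({x} : Set X) ↔ δ x = 1 := fun x => by
    obtain ⟨n, hn, hn'⟩ := Groth.L22.LatDeg.dim_closure_eq_delta hK x
    refine ⟨fun h => ?_, fun h hc => ?_⟩
    · obtain ⟨v, hv, hne⟩ : ∃ v, v ∈ closure ({x} : Set X) ∧ v ≠ x := by
        by_contra hh
        push Not at hh
        exact h (isClosed_of_closure_subset fun v hv => hh v hv)
      have := (hX.2.2 x v (specializes_iff_mem_closure.2 hv) (Ne.symm hne)).1
      obtain ⟨m, -, hm⟩ := Groth.L22.LatDeg.dim_closure_eq_delta hK v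
      have := hle x
      omega
    · rw [hc.closure_eq] at hn
      haveI : Subsingleton ({x} : Set X) := Set.subsingleton_coe _ |>.2 Set.subsingleton_singleton
      have h0 := topologicalKrullDim_zero_of_discreteTopology ({x} : Set X)
      rw [hn] at h0
      have : n = 0 := Nat.le_zero.1 (by exact_mod_cast h0)
      omega
  let S := (Groth.L22.CurveDeg.finite_nonclosed hdim).toFinset
  have hS : ∀ x, x ∈ S ↔ ¬ IsClosed ({x} : Set X) := fun x => Set.Finite.mem_toFinset _
  have hG : ∀ y : X, ∃ G : X.Modules, Coh.IsCoh G ∧ CohB1.support G ⊆ closure {y} ∧ len y G = 1 := fun y => by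
    obtain ⟨Z, i, hi, hZ, hgen, hrange⟩ := Groth.L16.CohClosedPush.exists_integral y
    haveI : IsLocallyNoetherian Z := LocallyOfFiniteType.isLocallyNoetherian i
    exact ⟨_, Groth.L16.CohClosedPush.isCoh_push i Groth.L16.CohClosedPush.isCoh_structure,
      (Groth.L16.CohClosedPush.support_push_subset i _).trans hrange.le,
      hgen ▸ Groth.L16.CohClosedPush.len_push_structure i⟩
  choose G hG using hG
  choose pt hpt1 hpt0 using exists_single (X := X)
  have hptm : ∀ y ∈ S, pt y ∈ Cyc.Zk X δ 1 := fun y hy x hx =>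
    hpt0 y x fun e => hx (e ▸ (hS1 y).1 ((hS y).1 hy))
  -- each component
  have key : ∀ y ∈ S, Groth.L22.CurveDeg.phi K E r (G y) = degT hX hK (C hX hE 1 (emb δ 1 (pt y))) := by
    intro y hy
    have hy1 := (hS1 y).1 ((hS y).1 hy)
    obtain ⟨Z, h, δZ, hfin, hZi, hgen, hZs, hcZ, hgen1, hZle, hZd, ls, hls, hfl⟩ :=
      exists_cover hX hK hdim hE y hy1
    haveI := hfin
    haveI := hZi
    haveI := hZs.1
    letI : Z.Over (Spec (CommRingCat.of K)) := ⟨h ≫ (X ↘ Spec (CommRingCat.of K))⟩
    haveI : IsProper (Z ↘ Spec (CommRingCat.of K)) := inferInstanceAs (IsProper (h ≫ (X ↘ Spec (CommRingCat.of K))))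
    haveI : X.IsSeparated := ⟨by rw [← terminal.comp_from (X ↘ Spec (CommRingCat.of K))]; infer_instance⟩
    have hKZ : Cyc.DeltaCompat (Z ↘ Spec (CommRingCat.of K)) δZ (fun _ => 0) :=
      deltaCompat_trans h (X ↘ Spec (CommRingCat.of K)) hcZ hK
    obtain ⟨αZ, hαZ⟩ := Groth.L22.P1Rat.exists_cycle_sheafFun hZs.2.2
      (Groth.L16.CohClosedPush.isCoh_structure (X := Z)) 1 (fun z _ => hZle z)
    have hαZ' : ⇑αZ = Cyc.subschemeFun δZ 1 (𝟙 Z) := hαZ.trans (subschemeFun_id δZ).symm
    have hαm := fund_mem hαZ'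
    have hgne : ∀ w : Z, w ≠ genericPoint Z → αZ w = 0 := fun w hw => hαm w fun e => by
      have := (hZs.2.2 _ _ ((genericPoint_spec Z).specializes trivial) (Ne.symm hw)).1
      omega
    have hg : αZ (genericPoint Z) = 1 := by
      rw [hαZ, Cyc.sheafFun, if_pos hgen1]
      obtain ⟨e⟩ := Groth.L22.CurveDeg.nonempty_stalk_equiv (n := 1) (E := Coh.structureModule Z)
        (Groth.L19.ProjBdl.isFinLocFreeOfRank_one_structureModule) (genericPoint Z)
      letI : Field (Z.presheaf.stalk (genericPoint Z)) := inferInstanceAs (Field Z.functionField)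
      rw [← e.length_eq, (LinearEquiv.funUnique (Fin 1) _ _).length_eq,
        Module.length_eq_one_iff.2 inferInstance]
      rfl
    let dg : ℤ := (h.residueDegree (genericPoint Z) : ℤ)
    have hdg : dg ≠ 0 := by
      obtain ⟨m, hm, hd⟩ := hcZ (genericPoint Z)
      have hm' : rtrdeg h (genericPoint Z) = (m : Cardinal.{u}) := hm
      rw [hgen1, hgen, hy1] at hd
      obtain rfl : m = 0 := by omega
      have h0 : rtrdeg h (genericPoint Z) = 0 := by simpa using hm'
      exact Int.natCast_ne_zero.2 ((Groth.L22.Cyc.rtrdeg_eq_zero_iff h (genericPoint Z)).1 h0)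
    have hpush : pushC h δZ δ αZ = dg • pt y := Function.locallyFinsuppWithin.ext fun x => by
      show (∑ᶠ w ∈ h ⁻¹' {x}, αZ w * ((AlgebraicCycle.mapCoeff h δZ δ w : ℕ) : ℤ)) = dg * pt y x
      simp only [Groth.L22.Cyc.mapCoeff_eq h hcZ]
      by_cases hxy : x = y
      · subst hxy
        rw [finsum_mem_eq_sum_of_inter_support_eq (t := {genericPoint Z}) _ ?_, Finset.sum_singleton, hg, one_mul,
          hpt1, mul_one]
        ext w
        simp only [Set.mem_inter_iff, Set.mem_preimage, Set.mem_singleton_iff, Function.mem_support, ne_eq,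
          Finset.coe_singleton]
        exact ⟨fun ⟨_, b⟩ => ⟨by_contra fun hw => b (by rw [hgne w hw, zero_mul]), b⟩,
          fun ⟨a, b⟩ => ⟨a ▸ hgen, b⟩⟩
      · rw [hpt0 y x hxy, mul_zero]
        refine finsum_mem_eq_zero_of_forall_eq_zero fun w hw => ?_
        rw [hgne w fun e => hxy (by rw [← show h w = x from hw, e, hgen]), zero_mul]
    have hF := Groth.L22.Cyc.map_sheafFun h (Coh.structureModule Z) δZ δ hZs hcZ 1
      Groth.L16.CohClosedPush.isCoh_structure (fun z _ => hZle z) αZ hαZ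
    have hlen : ∀ x ∈ S, ((len x ((Coh.push h).obj (Coh.structureModule Z))).toNat : ℤ) = if x = y then dg else 0 := by
      intro x hx
      have h1 := congrFun hF x
      rw [show AlgebraicCycle.map h δZ δ αZ = pushC h δZ δ αZ from rfl, hpush, Cyc.sheafFun,
        if_pos ((hS1 x).1 ((hS x).1 hx))] at h1
      refine h1.symm.trans ?_
      show dg * pt y x = _
      split_ifs with e
      · rw [e, hpt1, mul_one]
      · rw [hpt0 y x e, mul_zero]
    have hcoh : Coh.IsCoh ((Coh.push h).obj (Coh.structureModule Z)) :=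
      (Groth.Agent.S6499.result Z X δZ δ hZs hX h hcZ 1 (Coh.structureModule Z)
        ⟨Groth.L16.CohClosedPush.isCoh_structure, fun z _ => hZle z⟩).1
    have e1 : Groth.L22.CurveDeg.phi K E r ((Coh.push h).obj (Coh.structureModule Z)) =
        dg * Groth.L22.CurveDeg.phi K E r (G y) := by
      rw [Groth.L22.CurveDeg.phi_eq_sum K hdim hE S hS G (fun y _ => hG y) hcoh, Finset.sum_eq_single y]
      · rw [hlen y hy, if_pos rfl]
      · intro x hx hne
        rw [hlen x hx, if_neg hne, zero_mul]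
      · exact fun h' => absurd hy h'
    have e2 : Groth.L22.CurveDeg.phi K E r ((Coh.push h).obj (Coh.structureModule Z)) =
        degT hZs hKZ (C hZs (rank_pullback h hE) 1 (emb δZ 1 αZ)) := by
      rw [show Groth.L22.CurveDeg.phi K E r ((Coh.push h).obj (Coh.structureModule Z)) = _ from
        Groth.L22.CurveDeg.phi_push K h rfl hE (Coh.structureModule Z) Groth.L16.CohClosedPush.isCoh_structure.1,
        Groth.L22.CurveDeg.phi_structure]
      exact hfl.deg_eq hZs hKZ hZd hαZ' (rank_pullback h hE) hls.symm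
    obtain ⟨B, hBm, hBZ, hBX⟩ := C_emb_push hX hZs h hcZ hE hαm 1
    rw [hBZ, degT_emb hZs hKZ hBm] at e2
    have e3 : degT hX hK (C hX hE 1 (emb δ 1 (pushC h δZ δ αZ))) = dg * degT hX hK (C hX hE 1 (emb δ 1 (pt y))) := by
      rw [hpush, emb_zsmul _ (hptm y hy), map_zsmul, map_zsmul, smul_eq_mul]
    rw [hBX, degT_emb hX hK (pushC_mem h hBm)] at e3
    have hB0 : B ∈ Cyc.Zk Z δZ 0 := by simpa using hBm
    rw [deg_push h rfl hKZ hcZ hK hB0, ← e2, e1] at e3
    exact mul_left_cancel₀ hdg e3
  -- the fundamental cycle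
  have hsum : α = ∑ y ∈ S, ((len y (Coh.structureModule X)).toNat : ℤ) • pt y :=
    Function.locallyFinsuppWithin.ext fun x => by
      rw [hα, subschemeFun_id, Cyc.sheafFun]
      rw [show (∑ y ∈ S, ((len y (Coh.structureModule X)).toNat : ℤ) • pt y) x =
        ∑ y ∈ S, ((len y (Coh.structureModule X)).toNat : ℤ) * pt y x from ?_]
      · by_cases hx : δ x = 1
        · have hxS : x ∈ S := (hS x).2 ((hS1 x).2 hx)
          rw [if_pos hx, Finset.sum_eq_single x (fun y _ hne => by rw [hpt0 y x (Ne.symm hne), mul_zero])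
            (fun h' => absurd hxS h'), hpt1, mul_one]
          rfl
        · rw [if_neg hx]
          exact (Finset.sum_eq_zero fun y hy => by
            rw [hpt0 y x fun e => hx (e ▸ (hS1 y).1 ((hS y).1 hy)), mul_zero]).symm
      · simp
  rw [hsum, emb_sum _ (fun y hy => (ChowOps.zk X δ 1).zsmul_mem (hptm y hy) _), map_sum, map_sum,
    ← Groth.L22.CurveDeg.phi_structure K E r,
    Groth.L22.CurveDeg.phi_eq_sum K hdim hE S hS G (fun y _ => hG y) Groth.L16.CohClosedPush.isCoh_structure]
  exact Finset.sum_congr rfl fun y hy => by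
    rw [emb_zsmul _ (hptm y hy), map_zsmul, map_zsmul, smul_eq_mul, key y hy]

end Groth.L22.Chern
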