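import Groth.Agent.L22.Chern.CurveClass

/-!
Reduction of the degree formula to filtered bundles on integral curves.
-/

set_option autoImplicit false
set_option linter.style.haveILetI false
set_option linter.unusedSectionVars false
set_option backward.isDefEq.respectTransparency.types false
set_option backward.isDefEq.respectTransparency false

universe u

open CategoryTheory CategoryTheory.Limits AlgebraicGeometry TopologicalSpace

noncomputable section

namespace Groth.L22.Chern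

open Groth.L22.Cyc (rtrdeg)
open Groth.L16.CohSupport (len len_eq_zero_iff)

/-- Chern classes of push-forwards. -/
theorem C_emb_push {X Z : Scheme.{u}} [IsLocallyNoetherian X] [IsLocallyNoetherian Z] {δ : X → ℤ} {δZ : Z → ℤ}
    (hX : Cyc.IsSetup X δ) (hZ : Cyc.IsSetup Z δZ) (h : Z ⟶ X) [IsProper h] (hc : Cyc.DeltaCompat h δZ δ)
    {r : ℕ} {E : X.Modules} (hE : FlatMod.IsFinLocFreeOfRank r E) {k : ℤ} {A : AlgebraicCycle Z ℤ}
    (hA : A ∈ Cyc.Zk Z δZ k) (j : ℕ) :
    ∃ B : AlgebraicCycle Z ℤ, B ∈ Cyc.Zk Z δZ (k - (j : ℤ)) ∧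
      C hZ (rank_pullback h hE) j (emb δZ k A) = emb δZ (k - (j : ℤ)) B ∧
      C hX hE j (emb δ k (pushC h δZ δ A)) = emb δ (k - (j : ℤ)) (pushC h δZ δ B) := by
  rcases Nat.lt_or_ge r j with hj | hj
  · refine ⟨0, (ChowOps.zk Z δZ _).zero_mem, ?_, ?_⟩
    · rw [C_of_lt hZ _ hj, emb_zero]; rfl
    · rw [C_of_lt hX _ hj, map_zero, emb_zero]; rfl
  cases r with
  | zero =>
    obtain rfl : j = 0 := by omega
    refine ⟨A, by simpa using hA, ?_, ?_⟩ <;> simp [C_zero]
  | succ n =>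
    obtain ⟨P, p, O1, q, δP, hP, hp, hcP, -⟩ := exists_cap hX hE
    haveI := hp
    have hPs := setup_of_compat p hX hcP
    haveI := hPs.1
    obtain ⟨δR, hRs, hcR⟩ := Groth.L22.Cyc.exists_setup (pullback.snd p h) hZ
    haveI := hRs.1
    have hB := Groth.L22.Bundle.isProjBundle_baseChange q hP (IsPullback.of_hasPullback p h)
    obtain ⟨γ, hγ⟩ := exists_chern hZ.2.2 hRs.2.2 hcR (Groth.L22.Bundle.isInvertible_of_one hB.invertible)
      (Groth.L22.Bundle.delta_of_fibGen hRs.2.2 hcR hB (rank_pullback h hE)) hB (rank_pullback h hE) hA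
    have hγ' := isChernCap_push hZ.2.2 hX.2.2 hPs.2.2 hRs.2.2 hP hE hcP hcR (IsPullback.of_hasPullback p h) hc hγ
    exact ⟨γ ⟨j, by omega⟩, hγ.2.1 ⟨j, by omega⟩,
      C_emb hZ (rank_pullback h hE) hB hcR hA hγ ⟨j, by omega⟩,
      C_emb hX hE hP hcP (pushC_mem h hA) hγ' ⟨j, by omega⟩⟩

variable {K : Type u} [Field K] {X : Scheme.{u}} [X.Over (Spec (CommRingCat.of K))]
  [IsProper (X ↘ Spec (CommRingCat.of K))] {δ : X → ℤ}
  (hX : Cyc.IsSetup X δ) (hK : Cyc.DeltaCompat (X ↘ Spec (CommRingCat.of K)) δ (fun _ => 0))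

/-- Degrees of push-forwards. -/
theorem deg_push [IsLocallyNoetherian X] {Z : Scheme.{u}} [IsLocallyNoetherian Z] [Z.Over (Spec (CommRingCat.of K))]
    [IsProper (Z ↘ Spec (CommRingCat.of K))] (h : Z ⟶ X) [IsProper h]
    (hh : h ≫ (X ↘ Spec (CommRingCat.of K)) = Z ↘ Spec (CommRingCat.of K)) {δZ : Z → ℤ}
    (hKZ : Cyc.DeltaCompat (Z ↘ Spec (CommRingCat.of K)) δZ (fun _ => 0)) (hc : Cyc.DeltaCompat h δZ δ)
    (hK : Cyc.DeltaCompat (X ↘ Spec (CommRingCat.of K)) δ (fun _ => 0))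
    {B : AlgebraicCycle Z ℤ} (hB : B ∈ Cyc.Zk Z δZ 0) :
    ChowOps.deg (X ↘ Spec (CommRingCat.of K)) δ (pushC h δZ δ B) =
      ChowOps.deg (Z ↘ Spec (CommRingCat.of K)) δZ B := by
  classical
  haveI : CompactSpace Z := QuasiCompact.compactSpace_of_compactSpace (Z ↘ Spec (CommRingCat.of K))
  have hfin : (Function.support ⇑B).Finite := by
    have := B.locallyFiniteSupport.finite_inter_support_of_isCompact (isCompact_univ (X := Z))
    rwa [Set.univ_inter] at this
  let T := hfin.toFinset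
  have hpush : ∀ x : X, pushC h δZ δ B x = ∑ w ∈ T with h w = x, B w * (h.residueDegree w : ℤ) := fun x => by
    show (∑ᶠ w ∈ h ⁻¹' {x}, B w * ((AlgebraicCycle.mapCoeff h δZ δ w : ℕ) : ℤ)) = _
    simp only [Groth.L22.Cyc.mapCoeff_eq h hc]
    refine finsum_mem_eq_sum_of_inter_support_eq _ ?_
    ext w
    simp only [Set.mem_inter_iff, Set.mem_preimage, Set.mem_singleton_iff, Function.mem_support, ne_eq,
      Finset.coe_filter, Set.mem_setOf_eq, T, Set.Finite.mem_toFinset]
    exact ⟨fun ⟨a, b⟩ => ⟨⟨fun h0 => b (by rw [h0, zero_mul]), a⟩, b⟩, fun ⟨⟨_, a⟩, b⟩ => ⟨a, b⟩⟩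
  rw [Groth.L22.LatDeg.deg_eq_finsum hK _ (pushC_mem h hB), Groth.L22.LatDeg.deg_eq_finsum hKZ _ hB,
    finsum_eq_sum_of_support_subset (s := T.image h) _ fun x hx => ?_,
    finsum_eq_sum_of_support_subset (s := T) _ fun w hw => Finset.mem_coe.2 (hfin.mem_toFinset.2 (right_ne_zero_of_mul hw))]
  · simp only [hpush, Finset.mul_sum]
    rw [← Finset.sum_fiberwise_of_maps_to (g := fun w : Z => h w) (t := T.image h)
      (fun w hw => Finset.mem_image_of_mem (fun w : Z => h w) hw)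
      (fun w => ((Z ↘ Spec (CommRingCat.of K)).residueDegree w : ℤ) * B w)]
    refine Finset.sum_congr rfl fun x _ => Finset.sum_congr rfl fun w' hw' => ?_
    rw [← Groth.L22.Cyc.residueDegree_congr _ hh, Groth.L22.Cyc.residueDegree_comp, (Finset.mem_filter.1 hw').2]
    push_cast
    ring
  · have h1 := right_ne_zero_of_mul (Function.mem_support.1 hx)
    rw [hpush] at h1
    obtain ⟨w, hw, -⟩ := Finset.exists_ne_zero_of_sum_ne_zero h1
    exact Finset.mem_coe.2 (Finset.mem_image.2 ⟨w, (Finset.mem_filter.1 hw).1, (Finset.mem_filter.1 hw).2⟩)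

include hX hK in
/-- Integral curves covering a given one, on which a given bundle is filtered. -/
theorem exists_cover [IsLocallyNoetherian X] (hdim : topologicalKrullDim X ≤ 1) {r : ℕ} {E : X.Modules}
    (hE : FlatMod.IsFinLocFreeOfRank r E) (y : X) (hy : δ y = 1) :
    ∃ (Z : Scheme.{u}) (h : Z ⟶ X) (δZ : Z → ℤ) (_ : IsFinite h) (_ : IsIntegral Z),
      h (genericPoint Z) = y ∧ Cyc.IsSetup Z δZ ∧ Cyc.DeltaCompat h δZ δ ∧ δZ (genericPoint Z) = 1 ∧
      (∀ z, δZ z ≤ 1) ∧ topologicalKrullDim Z ≤ 1 ∧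
      ∃ ls : List Z.Modules, ls.length = r ∧ Flag ((Scheme.Modules.pullback h).obj E) ls := by
  classical
  obtain ⟨P, π, d, δP, hπ, hPs, hc, hF⟩ := exists_split_one r hX hE
  haveI := hπ.proper
  haveI := hπ.flat
  haveI := hPs.1
  have hle : ∀ x : X, δ x ≤ 1 := fun x => by
    obtain ⟨n, hn, hn'⟩ := Groth.L22.LatDeg.dim_closure_eq_delta hK x
    have h1 : (n : WithBot ℕ∞) ≤ ((1 : ℕ) : WithBot ℕ∞) := by
      rw [← hn]
      exact (topologicalKrullDim_subspace_le _ _).trans hdim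
    have h2 : n ≤ 1 := by exact_mod_cast h1
    omega
  -- the fibre over `y` is nonempty
  have hne : ∃ w : P, π w = y := by
    by_contra hno
    obtain ⟨A, hAy, hA0⟩ := exists_single y
    have hA : A ∈ Cyc.Zk X δ 1 := fun x hx => hA0 x fun e => hx (e ▸ hy)
    have hs := Groth.L22.Cyc.shift_of_deltaCompat π hπ.relDim hc
    have h0 : pullC π hs A = 0 := Function.locallyFinsuppWithin.ext fun w => by
      rw [pullC_apply, hA0 (π w) fun e => hno ⟨w, e⟩, zero_mul]
      rfl
    obtain ⟨ι, ξ, f, h1, -, -, h4⟩ := hπ.inj X (𝟙 X) δ hX (Bivar.deltaCompat_id δ) P π (𝟙 P)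
      (IsPullback.of_horiz_isIso ⟨by simp⟩) δP hPs hc 1 A hA _ (pullC_coe π hs A)
      (h0 ▸ (ratGroup hPs.2.2 _).zero_mem)
    have := h4 y
    rw [hAy, finsum_eq_zero_of_forall_eq_zero fun i => absurd (hle (ξ i)) (by rw [h1]; omega)] at this
    exact one_ne_zero this
  -- a closed point of the fibre
  letI : (π.fiber y).Over (Spec (CommRingCat.of (X.residueField y))) := ⟨π.fiberToSpecResidueField y⟩
  haveI : LocallyOfFiniteType ((π.fiber y) ↘ Spec (CommRingCat.of (X.residueField y))) :=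
    MorphismProperty.pullback_snd π (X.fromSpecResidueField y) inferInstance
  obtain ⟨z, -, hz⟩ := (isClosed_univ (X := π.fiber y)).exists_closed_singleton (by
    obtain ⟨w, hw⟩ := hne
    obtain ⟨z, -⟩ : w ∈ Set.range (π.fiberι y) := by rw [π.range_fiberι]; exact hw
    exact ⟨z, trivial⟩)
  obtain ⟨n, hn, htr⟩ := SchemeDim.exists_dim_closure_eq_trdeg (X.residueField y) (π.fiber y) z
  have hn0 : n = 0 := by
    rw [hz.closure_eq] at hn
    haveI : Subsingleton ({z} : Set (π.fiber y)) := Set.subsingleton_coe _ |>.2 Set.subsingleton_singleton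
    have h0 := topologicalKrullDim_zero_of_discreteTopology ({z} : Set (π.fiber y))
    rw [hn] at h0
    exact Nat.le_zero.1 (by exact_mod_cast h0)
  let w := π.fiberι y z
  have hwy : π w = y := by
    have : w ∈ Set.range (π.fiberι y) := ⟨z, rfl⟩
    rwa [π.range_fiberι] at this
  have hwδ : δP w = 1 := by
    obtain ⟨m, hm, hd⟩ := hc w
    have hm' : rtrdeg π w = (m : Cardinal.{u}) := hm
    have h0 : rtrdeg π w = ((0 : ℕ) : Cardinal.{u}) :=
      (Groth.L22.Cyc.rtrdeg_fiberι π y z).trans (hn0 ▸ htr)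
    rw [h0] at hm'
    obtain rfl : m = 0 := by exact_mod_cast hm'.symm
    rw [hd, hwy, hy]; simp
  obtain ⟨Z, i, hi, hZi, hgen, hrange⟩ := Groth.L16.CohClosedPush.exists_integral w
  haveI := hi
  haveI := hZi
  obtain ⟨δZ, hZs, hcZ⟩ := Groth.L22.Cyc.exists_setup (i ≫ π) hX
  haveI := hZs.1
  have hci : Cyc.DeltaCompat i δZ δP := Groth.L22.Bundle.deltaCompat_cancel i π hcZ hc
  have hgenδ : δZ (genericPoint Z) = 1 := by
    obtain ⟨m, hm, hd⟩ := hci (genericPoint Z)
    have hm' : rtrdeg i (genericPoint Z) = (m : Cardinal.{u}) := hm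
    rw [Groth.L22.Bundle.rtrdeg_eq_zero] at hm'
    obtain rfl : m = 0 := by exact_mod_cast hm'.symm
    rw [hd, hgen, hwδ]; simp
  have hZle : ∀ v : Z, δZ v ≤ 1 := fun v => hgenδ ▸ by
    rcases eq_or_ne (genericPoint Z) v with rfl | hne'
    · exact le_rfl
    · exact (hZs.2.2 _ _ ((genericPoint_spec Z).specializes trivial) hne').1.le
  letI : Z.Over (Spec (CommRingCat.of K)) := ⟨(i ≫ π) ≫ (X ↘ Spec (CommRingCat.of K))⟩
  haveI : IsProper (Z ↘ Spec (CommRingCat.of K)) :=
    inferInstanceAs (IsProper ((i ≫ π) ≫ (X ↘ Spec (CommRingCat.of K))))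
  have hKZ : Cyc.DeltaCompat (Z ↘ Spec (CommRingCat.of K)) δZ (fun _ => 0) :=
    deltaCompat_trans (i ≫ π) (X ↘ Spec (CommRingCat.of K)) hcZ hK
  have hZd : topologicalKrullDim Z ≤ 1 := by
    rw [← IsHomeomorph.topologicalKrullDim_eq _ (Homeomorph.Set.univ Z).isHomeomorph]
    exact_mod_cast Groth.L22.LatDeg.dim_le_of_delta_le hKZ isClosed_univ 1 fun v _ => by exact_mod_cast hZle v
  haveI : LocallyQuasiFinite (i ≫ π) := LocallyQuasiFinite.of_finite_preimage_singleton _ fun x => by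
    by_cases hx : δ x = 1
    · refine (Set.finite_singleton (genericPoint Z)).subset fun v hv => ?_
      obtain ⟨m, -, hd⟩ := hcZ v
      have hv1 := hZle v
      rw [show (i ≫ π) v = x from hv, hx] at hd
      by_contra hne'
      have := (hZs.2.2 _ _ ((genericPoint_spec Z).specializes trivial) (Ne.symm fun e => hne' e)).1
      omega
    · haveI := Groth.L21.RR.isNoetherian_of_proper (X := Z) K
      have hxc : IsClosed ({x} : Set X) := by
        refine isClosed_of_closure_subset fun v hv => ?_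
        by_contra hne'
        have h1 := (hX.2.2 _ _ (specializes_iff_mem_closure.2 hv) (Ne.symm hne')).1
        obtain ⟨a, -, ha⟩ := Groth.L22.LatDeg.dim_closure_eq_delta hK v
        have := hle x
        omega
      have hT : IsClosed ((i ≫ π) ⁻¹' {x}) := hxc.preimage (i ≫ π).continuous
      obtain ⟨S, hSf, hSc, hSi, hSu⟩ := NoetherianSpace.exists_finite_set_isClosed_irreducible hT
      have hg : ∀ t ∈ S, ∃ g : Z, IsGenericPoint g t := fun t ht => QuasiSober.sober (hSi t ht) (hSc t ht)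
      choose g hg using hg
      refine (hSf.dependent_image g).subset fun v hv => ?_
      obtain ⟨t, ht, hvt⟩ : v ∈ ⋃₀ S := hSu ▸ hv
      refine ⟨t, ht, ?_⟩
      by_contra hne'
      have h1 := (hZs.2.2 _ _ ((hg t ht).specializes hvt) hne').1
      have hgT : g t ht ∈ (i ≫ π) ⁻¹' {x} := hSu ▸ ⟨t, ht, (hg t ht).mem⟩
      have hg1 : g t ht ≠ genericPoint Z := fun e => hx (by
        rw [← show (i ≫ π) (g t ht) = x from hgT, e, Scheme.Hom.comp_apply, hgen, hwy, hy])
      have h2 := (hZs.2.2 _ _ ((genericPoint_spec Z).specializes trivial) (Ne.symm hg1)).1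
      obtain ⟨a, -, ha⟩ := Groth.L22.LatDeg.dim_closure_eq_delta hKZ v
      omega
  have hfin : IsFinite (i ≫ π) := IsFinite.of_isProper_of_locallyQuasiFinite (i ≫ π)
  obtain ⟨ls, hls, hfl⟩ := ((hF.map i).congr ((Scheme.Modules.pullbackComp i π).app E)).exists_flag
  exact ⟨Z, i ≫ π, δZ, hfin, hZi, by rw [Scheme.Hom.comp_apply, hgen, hwy], hZs, hcZ, hgenδ, hZle, hZd, ls, hls, hfl⟩

end Groth.L22.Chern
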