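import Groth.Agent.L22.Chern.Whitney
import Groth.Agent.L12.DualVb
import Groth.Agent.L19.ProjBdl.Points
import Groth.Agent.L22.Adjunction.NormalDiv
import Groth.Agent.L21.Bundle.Hom

/-!
Chern classes of dual modules.
-/

set_option autoImplicit false
set_option linter.style.haveILetI false
set_option linter.unusedSectionVars false
set_option backward.isDefEq.respectTransparency.types false
set_option backward.isDefEq.respectTransparency false

universe u

open CategoryTheory CategoryTheory.Limits AlgebraicGeometry TopologicalSpace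

noncomputable section

namespace Groth.L22.Chern

variable {X : Scheme.{u}} {δ : X → ℤ}

/-- The dual has the same rank. -/
theorem rank_dual {r : ℕ} {E : X.Modules} (hE : FlatMod.IsFinLocFreeOfRank r E) :
    FlatMod.IsFinLocFreeOfRank r (RefHull.dual E) := fun x => by
  haveI := Groth.L17.Duality.hasSheafHom E
  obtain ⟨e⟩ := Groth.L12.DualVb.nonempty_dual_iso E
  obtain ⟨U, hxU, ⟨i⟩⟩ := Groth.L21.Bundle.isFinLocFreeOfRank_dual hE x
  exact ⟨U, hxU, ⟨((Scheme.Modules.restrictFunctor U.ι).mapIso e).symm ≪≫ i⟩⟩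

variable [IsLocallyNoetherian X]

theorem x1_congr (hd : Cyc.IsDimFun X δ) {L N : X.Modules} (hL : PicF.IsInvertible L) (hN : PicF.IsInvertible N)
    (e : L ≅ N) : x1 hd hL = x1 hd hN := by
  refine op_ext fun k A hA => ?_
  have hw : ∀ ξ : X, Groth.L22.C1.mapSec e.hom ξ (sec hL ξ) ≠ 0 := fun ξ =>
    Groth.L22.C1.mapSec_ne_zero e.hom hL hN ξ _ (sec_ne hL ξ)
  rw [x1_emb hd hN hw hA, x1_emb hd hL (sec_ne hL) hA]
  congr 1
  exact DFunLike.coe_injective (by
    rw [pw, pw, cap_coe, cap_coe]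
    exact (Groth.L22.C1.c1PowFun_mapSec e.hom hL hN hd (fun _ => sec hL) ⇑A 1).symm)

theorem x1_tensor (hd : Cyc.IsDimFun X δ) {L N : X.Modules} (hL : PicF.IsInvertible L) (hN : PicF.IsInvertible N) :
    x1 hd (Groth.L18.GenLoc.isInvertible_tensor hL hN) = x1 hd hL + x1 hd hN := by
  have hT := Groth.L18.GenLoc.isInvertible_tensor hL hN
  refine op_ext fun k A hA => ?_
  show _ = x1 hd hL (emb δ k A) + x1 hd hN (emb δ k A)
  have m1 : pw hd hL (sec_ne hL) 1 A ∈ Cyc.Zk X δ (k - 1) := pw_mem hd hL (sec_ne hL) hA 1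
  have m2 : pw hd hN (sec_ne hN) 1 A ∈ Cyc.Zk X δ (k - 1) := pw_mem hd hN (sec_ne hN) hA 1
  have m3 : pw hd hT (sec_ne hT) 1 A ∈ Cyc.Zk X δ (k - 1) := pw_mem hd hT (sec_ne hT) hA 1
  rw [x1_emb hd hT (sec_ne hT) hA, x1_emb hd hL (sec_ne hL) hA, x1_emb hd hN (sec_ne hN) hA, ← emb_add m1 m2]
  refine (emb_eq hd ((ChowOps.zk X δ (k - 1)).add_mem m1 m2) m3 ?_).symm
  exact Groth.L22.C1.c1Cap_tensor hd hL hN hT (k - 1) A (by rwa [sub_add_cancel]) _ (sec_ne hL) _ (sec_ne hN) _
    (sec_ne hT) _ _ _ (by rw [pw, cap_succ, cap_zero]) (by rw [pw, cap_succ, cap_zero]) (by rw [pw, cap_succ, cap_zero])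

theorem x1_structure (hd : Cyc.IsDimFun X δ) (h : PicF.IsInvertible (Coh.structureModule X)) : x1 hd h = 0 := by
  have e := x1_tensor hd h h
  rw [x1_congr hd _ h (Groth.L00.Tensor.tensorUnitRight _)] at e
  exact left_eq_add.1 e

/-- An inverse has the opposite class. -/
theorem x1_inverse (hd : Cyc.IsDimFun X δ) {L N : X.Modules} (hL : PicF.IsInvertible L) (hN : PicF.IsInvertible N)
    (e : CohB1.tensorMod L N ≅ Coh.structureModule X) : x1 hd hN = -x1 hd hL := by
  have hO : PicF.IsInvertible (Coh.structureModule X) :=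
    Groth.L22.Bundle.isInvertible_of_one Groth.L19.ProjBdl.isFinLocFreeOfRank_one_structureModule
  have h := x1_tensor hd hL hN
  rw [x1_congr hd _ hO e, x1_structure hd hO] at h
  exact eq_neg_of_add_eq_zero_right h.symm

/-- The Chern classes of an invertible module. -/
theorem C_one_invertible (hX : Cyc.IsSetup X δ) {L : X.Modules} (h : FlatMod.IsFinLocFreeOfRank 1 L) :
    C hX h 1 = x1 hX.2.2 (Groth.L22.Bundle.isInvertible_of_one h) := by
  have hL := Groth.L22.Bundle.isInvertible_of_one h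
  haveI : Epi (𝟙 L) := inferInstance
  have hz : IsZero (cokernel (𝟙 L)) := isZero_cokernel_of_epi (𝟙 L)
  have := C_extend hX (r := 0) h (rank_zero_of_isZero hz) hL (𝟙 L) (cokernel.π (𝟙 L)) (cokernel.condition _)
    { exact := ShortComplex.exact_cokernel _
      mono_f := inferInstanceAs (Mono (𝟙 L))
      epi_g := inferInstanceAs (Epi (cokernel.π _)) } 0
  simpa [C_zero, C_of_lt hX _ Nat.zero_lt_one] using this

theorem C_rank_congr (hX : Cyc.IsSetup X δ) {E : X.Modules} {n m : ℕ} (hn : FlatMod.IsFinLocFreeOfRank n E)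
    (hm : FlatMod.IsFinLocFreeOfRank m E) (e : n = m) (j : ℕ) : C hX hn j = C hX hm j := by subst e; rfl

/-- First Chern classes commute with Chern classes of filtered modules. -/
theorem Flag.commute (hX : Cyc.IsSetup X δ) {E : X.Modules} {ls : List X.Modules} (h : Flag E ls) :
    ∀ {r : ℕ} (hE : FlatMod.IsFinLocFreeOfRank r E), r = ls.length → ∀ (j : ℕ) {M : X.Modules}
      (hM : PicF.IsInvertible M), x1 hX.2.2 hM * C hX hE j = C hX hE j * x1 hX.2.2 hM := by
  induction h with
  | nil hz =>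
    rintro r hE rfl j M hM
    rcases Nat.eq_zero_or_pos j with rfl | hj
    · rw [C_zero, mul_one, one_mul]
    · rw [C_of_lt hX hE (by simpa using hj), mul_zero, zero_mul]
  | @cons L E F ls hL a b hab hex hF ih =>
    rintro r hE rfl j M hM
    cases j with
    | zero => rw [C_zero, mul_one, one_mul]
    | succ i =>
      rw [C_extend hX hE hF.rank hL a b hab hex, mul_add, add_mul, ih hF.rank rfl _ hM, ← mul_assoc,
        x1_comm hX.2.2 hM hL, mul_assoc, ih hF.rank rfl _ hM, ← mul_assoc]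

/-- The dual of a filtered module. -/
theorem Flag.C_dual (hX : Cyc.IsSetup X δ) {E : X.Modules} {ls : List X.Modules} (h : Flag E ls) :
    ∀ {r : ℕ} (hE : FlatMod.IsFinLocFreeOfRank r E), r = ls.length → ∀ j : ℕ,
      C hX (rank_dual hE) j = ((-1 : ℤ) ^ j) • C hX hE j := by
  induction h with
  | nil hz =>
    rintro r hE rfl j
    rcases Nat.eq_zero_or_pos j with rfl | hj
    · rw [C_zero, C_zero, pow_zero, one_smul]
    · rw [C_of_lt hX (rank_dual hE) (by simpa using hj), C_of_lt hX hE (by simpa using hj), smul_zero]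
  | @cons L E F ls hL a b hab hex hF ih =>
    rintro r hE rfl j
    have hL1 := Groth.L12.FinCov.isFinLocFreeOfRank_one_of_isInvertible hL
    have hF' := rank_dual hF.rank
    have hL' := rank_dual hL1
    obtain ⟨T, hT, ⟨e1⟩, ⟨e2⟩, ⟨e3⟩⟩ := Groth.L12.DualVb.exists_dual_shortExact hex
      (Groth.L18.KRRAmple.isFinLocFree_of_rank hL1) (Groth.L18.KRRAmple.isFinLocFree_of_rank hE)
      (Groth.L18.KRRAmple.isFinLocFree_of_rank hF.rank)
    have hT' : (ShortComplex.mk (e1.inv ≫ T.f ≫ e2.hom) (e2.inv ≫ T.g ≫ e3.hom) (by simp)).ShortExact :=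
      ShortComplex.shortExact_of_iso (ShortComplex.isoMk e1 e2 e3 (by simp) (by simp)) hT
    have hE' : FlatMod.IsFinLocFreeOfRank (ls.length + 1) (RefHull.dual E) := rank_dual hE
    obtain ⟨N, hN, ⟨ε⟩⟩ := Groth.L08.Cube.exists_inverse hL
    obtain ⟨d⟩ := Groth.L22.Adjunction.nonempty_dual_iso hL ε
    have hx : x1 hX.2.2 (Groth.L22.Bundle.isInvertible_of_one hL') = -x1 hX.2.2 hL :=
      (x1_congr hX.2.2 _ hN d).trans (x1_inverse hX.2.2 hL hN ε)
    show C hX hE' j = _
    rw [C_whitney hX hF' hL' hE' _ _ _ hT']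
    cases j with
    | zero => simp [C_zero]
    | succ i =>
      rw [Finset.Nat.antidiagonal_eq_map', Finset.sum_map]
      show ∑ x ∈ Finset.range (i + 1 + 1), C hX hF' (i + 1 - x) * C hX hL' x = _
      rw [Finset.sum_range_succ', Finset.sum_range_succ', Finset.sum_eq_zero fun x _ => by
        rw [C_of_lt hX hL' (show 1 < x + 1 + 1 by omega), mul_zero]]
      rw [zero_add, C_zero, mul_one, C_one_invertible hX hL', hx, Nat.sub_zero, Nat.zero_add, Nat.add_sub_cancel,
        ih hF.rank rfl i, ih hF.rank rfl (i + 1), C_extend hX hE hF.rank hL a b hab hex, smul_mul_assoc, mul_neg,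
        ← hF.commute hX hF.rank rfl i hL, smul_neg, ← neg_smul, smul_add, add_comm]
      congr 2
      ring

/-- Chern classes of the dual. -/
theorem C_dual (hX : Cyc.IsSetup X δ) {r : ℕ} {E : X.Modules} (hE : FlatMod.IsFinLocFreeOfRank r E) (j : ℕ) :
    C hX (rank_dual hE) j = ((-1 : ℤ) ^ j) • C hX hE j := by
  obtain ⟨P, π, d, δP, hπ, hPs, hc, hF⟩ := exists_split_one r hX hE
  obtain ⟨ls, hl, hF'⟩ := hF.exists_flag
  haveI := hπ.proper
  haveI := hπ.flat
  haveI := hPs.1
  have hs := Groth.L22.Cyc.shift_of_deltaCompat π hπ.relDim hc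
  obtain ⟨θ⟩ := Groth.L12.DualVb.nonempty_dual_pullback π (Groth.L18.KRRAmple.isFinLocFree_of_rank hE)
  refine DFunLike.ext _ _ fun x => pb_injective_of_inj π hX hPs hπ.inj hc hs ?_
  rw [(over'_C π hX hPs hπ.relDim hc hE j).zsmul _ x, over'_C π hX hPs hπ.relDim hc (rank_dual hE) j x,
    C_congr hPs (rank_pullback π (rank_dual hE)) (rank_dual (rank_pullback π hE)) θ.symm,
    hF'.C_dual hPs (rank_pullback π hE) hl.symm j]

end Groth.L22.Chern
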