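import Groth.Agent.L22.Chern.Flag

/-!
Elementary symmetric functions of first Chern classes.
-/

set_option autoImplicit false
set_option linter.style.haveILetI false
set_option linter.unusedSectionVars false
set_option backward.isDefEq.respectTransparency.types false
set_option backward.isDefEq.respectTransparency false

universe u

open CategoryTheory CategoryTheory.Limits AlgebraicGeometry TopologicalSpace Polynomial

noncomputable section

namespace Groth.L22.Chern

variable {X : Scheme.{u}} [IsLocallyNoetherian X] {δ : X → ℤ} (hd : Cyc.IsDimFun X δ)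

/-- The operations given by first Chern classes. -/
def c1Set : Set (Op X δ) := {T | ∃ (L : X.Modules) (h : PicF.IsInvertible L), T = x1 hd h}

/-- The subring generated by first Chern classes. -/
def c1Ring : Subring (Op X δ) := Subring.closure (c1Set hd)

instance : CommRing ↥(c1Ring hd) :=
  Subring.closureCommRingOfComm fun _ hx _ hy => by
    obtain ⟨L, hL, rfl⟩ := hx
    obtain ⟨N, hN, rfl⟩ := hy
    exact x1_comm hd hL hN

/-- A first Chern class in the commutative subring. -/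
def y1 {L : X.Modules} (hL : PicF.IsInvertible L) : ↥(c1Ring hd) :=
  ⟨x1 hd hL, Subring.subset_closure ⟨L, hL, rfl⟩⟩

theorem prodLin_ofFn {r : ℕ} (L : Fin r → X.Modules) (hL : ∀ i, PicF.IsInvertible (L i)) :
    prodLin hd (List.ofFn L) =
      (∏ i, (1 + Polynomial.C (y1 hd (hL i)) * Polynomial.X)).map (c1Ring hd).subtype := by
  induction r with
  | zero => simp [prodLin]
  | succ r ih =>
    rw [List.ofFn_succ, prodLin_cons hd (hL 0), ih _ fun i => hL i.succ, Fin.prod_univ_succ, Polynomial.map_mul]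
    congr 1
    simp [Polynomial.map_add, Polynomial.map_mul, y1]

omit [IsLocallyNoetherian X] in
theorem coeff_prod_lin {R : Type*} [CommRing R] {ι : Type*} [Fintype ι] (y : ι → R) (n : ℕ) :
    (∏ i, (1 + Polynomial.C (y i) * Polynomial.X)).coeff n = ∑ I ∈ Finset.powersetCard n Finset.univ, ∏ i ∈ I, y i := by
  classical
  rw [show (∏ i, (1 + Polynomial.C (y i) * Polynomial.X)) = ∏ i, (Polynomial.C (y i) * Polynomial.X + 1) from
    Finset.prod_congr rfl fun i _ => add_comm _ _, Finset.prod_add, finsetSum_coeff, Finset.powersetCard_eq_filter,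
    Finset.sum_filter]
  refine Finset.sum_congr rfl fun I _ => ?_
  rw [Finset.prod_const_one, mul_one, Finset.prod_mul_distrib, Finset.prod_const, ← map_prod, coeff_C_mul_X_pow]
  simp [eq_comm]

/-- Products of first Chern classes as iterated caps. -/
theorem prod_y1_emb {r : ℕ} (L : Fin r → X.Modules) (hL : ∀ i, PicF.IsInvertible (L i))
    (t : (i : Fin r) → (ξ : X) → Cyc.secFibre (L i) ξ) (ht : ∀ i ξ, t i ξ ≠ 0) {k : ℤ}
    {α : AlgebraicCycle X ℤ} (hα : α ∈ Cyc.Zk X δ k) (κ : Finset (Fin r) → AlgebraicCycle X ℤ) (hκ0 : κ ∅ = α)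
    (hκ : ∀ (I : Finset (Fin r)) (i : Fin r), (∀ i' ∈ I, i' < i) → ⇑(κ (insert i I)) = Cyc.c1CapFun δ (L i) ⇑(κ I) (t i))
    (I : Finset (Fin r)) :
    κ I ∈ Cyc.Zk X δ (k - (I.card : ℤ)) ∧
      ((∏ i ∈ I, y1 hd (hL i) : ↥(c1Ring hd)) : Op X δ) (emb δ k α) = emb δ (k - (I.card : ℤ)) (κ I) := by
  classical
  induction I using Finset.induction_on_max with
  | empty =>
    rw [hκ0, Finset.card_empty, Nat.cast_zero, sub_zero, Finset.prod_empty]
    exact ⟨hα, rfl⟩
  | @insert i I hi ih =>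
    have e : κ (insert i I) = pw hd (hL i) (ht i) 1 (κ I) := DFunLike.coe_injective ((hκ I i hi).trans (by
      rw [pw, cap_succ, cap_zero]))
    have hi' : i ∉ I := fun h => lt_irrefl _ (hi i h)
    have ek : k - ((insert i I).card : ℤ) = k - (I.card : ℤ) - 1 := by
      rw [Finset.card_insert_of_notMem hi']; push_cast; ring
    rw [e, ek, Finset.prod_insert hi']
    refine ⟨pw_mem hd (hL i) (ht i) ih.1 1, ?_⟩
    show x1 hd (hL i) (((∏ j ∈ I, y1 hd (hL j) : ↥(c1Ring hd)) : Op X δ) (emb δ k α)) = _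
    rw [ih.2, x1_emb hd (hL i) (ht i) ih.1]

/-- The Chern caps of a filtered module. -/
theorem coeff_prodLin_emb {r : ℕ} (L : Fin r → X.Modules) (hL : ∀ i, PicF.IsInvertible (L i))
    (t : (i : Fin r) → (ξ : X) → Cyc.secFibre (L i) ξ) (ht : ∀ i ξ, t i ξ ≠ 0) {k : ℤ}
    {α : AlgebraicCycle X ℤ} (hα : α ∈ Cyc.Zk X δ k) (κ : Finset (Fin r) → AlgebraicCycle X ℤ) (hκ0 : κ ∅ = α)
    (hκ : ∀ (I : Finset (Fin r)) (i : Fin r), (∀ i' ∈ I, i' < i) → ⇑(κ (insert i I)) = Cyc.c1CapFun δ (L i) ⇑(κ I) (t i))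
    (n : ℕ) :
    (∑ I ∈ Finset.powersetCard n Finset.univ, κ I) ∈ Cyc.Zk X δ (k - (n : ℤ)) ∧
    (prodLin hd (List.ofFn L)).coeff n (emb δ k α) =
      emb δ (k - (n : ℤ)) (∑ I ∈ Finset.powersetCard n Finset.univ, κ I) := by
  have hm : ∀ I ∈ Finset.powersetCard n (Finset.univ : Finset (Fin r)), κ I ∈ Cyc.Zk X δ (k - (n : ℤ)) := fun I hI => by
    have := (prod_y1_emb hd L hL t ht hα κ hκ0 hκ I).1
    rwa [(Finset.mem_powersetCard.1 hI).2] at this
  refine ⟨(ChowOps.zk X δ _).sum_mem hm, ?_⟩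
  rw [prodLin_ofFn hd L hL, coeff_map, coeff_prod_lin, map_sum, emb_sum _ hm]
  refine (AddMonoidHom.finsetSum_apply _ _ _).trans (Finset.sum_congr rfl fun I hI => ?_)
  have := (prod_y1_emb hd L hL t ht hα κ hκ0 hκ I).2
  rwa [(Finset.mem_powersetCard.1 hI).2] at this

end Groth.L22.Chern
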