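import Groth.Agent.L22.Chern.Snoc
import Groth.Agent.L22.Bundle.Span
import Groth.Agent.L22.Cyc.ExtendOpen

/-!
Pullback to the complement of the sub-bundle `P(F) ⊆ P(E)` of an extension by `O` is injective on
rational equivalence classes.
-/

set_option autoImplicit false
set_option linter.style.haveILetI false
set_option backward.isDefEq.respectTransparency.types false
set_option backward.isDefEq.respectTransparency false

universe u

open CategoryTheory CategoryTheory.Limits AlgebraicGeometry TopologicalSpace Opposite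

noncomputable section

namespace Groth.L22.Chern

theorem pushC_comapC {X D : Scheme.{u}} [IsLocallyNoetherian X] [IsLocallyNoetherian D] (i : D ⟶ X)
    [IsClosedImmersion i] (δ : X → ℤ) (A : AlgebraicCycle X ℤ) (hA : ∀ x, x ∉ Set.range i → A x = 0) :
    pushC i (fun d => δ (i d)) δ (comapC i A) = A := by
  refine Function.locallyFinsuppWithin.ext fun x => ?_
  rw [pushC_eq]
  by_cases hx : x ∈ Set.range i
  · obtain ⟨d, rfl⟩ := hx
    rw [Groth.L22.C1.map_apply_closedImmersion, comapC_apply]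
  · rw [hA x hx]
    by_contra h
    exact hx (Groth.L22.C1.mem_range_of_map_ne_zero i δ _ h)

variable {X P Q : Scheme.{u}} {E F : X.Modules} {p : P ⟶ X} {p' : Q ⟶ X} {O1 : P.Modules} {O1' : Q.Modules}
  {q : (Scheme.Modules.pullback p).obj E ⟶ O1} {q' : (Scheme.Modules.pullback p').obj F ⟶ O1'}
  (hP : KRR.IsProjBundle p E O1 q) (hQ : KRR.IsProjBundle p' F O1' q')
  (a : Coh.structureModule X ⟶ E) (b : E ⟶ F) (hab : a ≫ b = 0) (hex : (ShortComplex.mk a b hab).ShortExact)

include hP hQ hex in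
/-- If the pullback of a cycle to the complement of the sub-bundle is rationally trivial, so is the cycle. -/
theorem rat_of_rat_compl {r : ℕ} (hE : FlatMod.IsFinLocFreeOfRank (r + 1) E)
    (hF : FlatMod.IsFinLocFreeOfRank r F) [IsProper p] [IsProper p'] {δ : X → ℤ} {δP : P → ℤ} {δQ : Q → ℤ}
    (hX : Cyc.IsSetup X δ) (hPs : Cyc.IsSetup P δP) (hQs : Cyc.IsSetup Q δQ)
    [IsLocallyNoetherian X] [IsLocallyNoetherian P]
    (hδ : Cyc.DeltaCompat p δP δ) (hδ' : Cyc.DeltaCompat p' δQ δ) (hp : Shift p δP δ (r : ℤ))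
    (U : P.Opens) (hU : ∀ z, z ∉ Set.range (Groth.L22.Bundle.subMap hP hQ a b hab hex) → z ∈ U)
    {k : ℤ} {α : AlgebraicCycle X ℤ} (hα : α ∈ Cyc.Zk X δ k)
    (γU : AlgebraicCycle (U : Scheme.{u}) ℤ) (hγU : ∀ u, γU u = pullC p hp α (U.ι u))
    (h0 : Cyc.RatEquivZero (fun u : (U : Scheme.{u}) => δP (U.ι u)) (k + r) γU) :
    α ∈ ratGroup hX.2.2 k := by
  haveI := hQs.1
  haveI : IsClosedImmersion (Groth.L22.Bundle.subMap hP hQ a b hab hex) :=
    Groth.L22.Bundle.isClosedImmersion_subMap hP hQ a b hab hex hE hF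
  have hL := Groth.L22.Bundle.isInvertible_of_one hP.invertible
  obtain ⟨G, hG, hGU, hAG⟩ := Groth.L22.Cyc.exists_supported_on_complement hPs.2.2 U (k + r) (pullC p hp α) 0
    (pullC_mem p hp hα) (fun _ _ => rfl) γU 0 hγU (fun _ => rfl) (by rw [Cyc.RatEquiv, sub_zero]; exact h0)
  rw [zero_add, ratEquiv_iff (hδ := hPs.2.2)] at hAG
  have hG0 : ∀ z, z ∉ Set.range (Groth.L22.Bundle.subMap hP hQ a b hab hex) → G z = 0 := fun z hz => hGU z (hU z hz)
  have hind := Groth.L22.Bundle.indep hX.2.2 hPs.2.2 hδ hP hE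
  cases r with
  | zero =>
    haveI := isEmpty_of_rank_zero hQ hF
    have hG00 : G = 0 := Function.locallyFinsuppWithin.ext fun z => hG0 z fun ⟨d, _⟩ => isEmptyElim d
    rw [hG00, sub_zero] at hAG
    obtain ⟨t, ht⟩ := exists_secs hL
    have h := hind k (fun _ => α) (fun i => by rw [Fin.fin_one_eq_zero i]; simpa using hα) hL (fun _ => t) (fun _ => ht)
      (pullC p hp α) (fun z => by
        rw [Fin.sum_univ_one]
        show pullC p hp α z = Cyc.c1PowFun δP O1 t 0 _ z
        rw [← pullC_coe p hp α, ← cap_coe hPs.2.2 hL ht, cap_zero]) hAG 0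
    show Cyc.RatEquivZero δ k α
    simpa using h
  | succ n =>
    set i := Groth.L22.Bundle.subMap hP hQ a b hab hex with hi
    have hip : i ≫ p = p' := Groth.L22.Bundle.subMap_comp hP hQ a b hab hex
    obtain rfl : δQ = fun d => δP (i d) := Groth.L22.Bundle.delta_unique hδ'
      (Groth.L22.Cyc.deltaCompat_square p i (𝟙 X) p' hδ ((Category.comp_id _).trans hip.symm))
    have hicomp : Cyc.DeltaCompat i (fun d => δP (i d)) δP := Groth.L22.C1.deltaCompat_closedImmersion i δP
    haveI := Groth.L22.Bundle.flat_of_isProjBundle hP hE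
    haveI := Groth.L22.Bundle.flat_of_isProjBundle hQ hF
    have hp' : Shift p' (fun d => δP (i d)) δ (n : ℤ) := Groth.L22.Bundle.delta_of_fibGen hQs.2.2 hδ' hQ hF
    have hr : Cyc.HasRelDim p (n + 1) := Groth.L22.Cyc.hasRelDim_of_rtrdeg p fun z hz => by
      obtain ⟨j, hj, e⟩ := hδ z
      have h := hp z hz
      rw [show Groth.L22.Cyc.rtrdeg p z = (j : Cardinal.{u}) from hj, show j = n + 1 by omega]
    have hr' : Cyc.HasRelDim p' n := Groth.L22.Cyc.hasRelDim_of_rtrdeg p' fun z hz => by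
      obtain ⟨j, hj, e⟩ := hδ' z
      have h := hp' z hz
      rw [show Groth.L22.Cyc.rtrdeg p' z = (j : Cardinal.{u}) from hj, show j = n by omega]
    have hF' : FlatMod.IsFinLocFree F := fun x => ⟨(hF x).choose, n + 1, (hF x).choose_spec.1, (hF x).choose_spec.2⟩
    obtain ⟨e⟩ := Groth.L22.Bundle.nonempty_subMapIso hP hQ a b hab hex
    have hLc := Groth.L18.Ample.isInvertible_pullback i hL
    obtain ⟨w, hw⟩ := exists_secs hL
    obtain ⟨t', ht'⟩ := exists_secs hLc
    let s := fun (m : ℕ) ξ => Groth.L22.C1.mapSec e.hom ξ (t' m ξ)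
    have hLQ := Groth.L22.Bundle.isInvertible_of_one hQ.invertible
    have hs : ∀ m ξ, s m ξ ≠ 0 := fun m ξ => Groth.L22.C1.mapSec_ne_zero e.hom hLc hLQ ξ _ (ht' m ξ)
    let v := Cyc.gysinChoice O1 (Groth.L22.Bundle.secA p q a) (w 0)
    have hv : ∀ ξ, v ξ ≠ 0 := Groth.L22.C1.gysinChoice_ne_zero _ (w 0) (hw 0)
    have hG' : comapC i G ∈ Cyc.Zk Q (fun d => δP (i d)) (k + 1 + n) := fun d hd => by
      rw [comapC_apply]
      exact hG _ fun e' => hd (e'.trans (by push_cast; ring))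
    obtain ⟨α', β', m1, m2, m3⟩ := Groth.L22.Bundle.span hQ hF hX.2.2 hQs.2.2 hδ' hLQ (k + 1) (fun _ => s)
      (fun _ => hs) (comapC i G) hG'
    have hsum : β' = ∑ j : Fin (n + 1), cap hQs.2.2 hLc ht' (j : ℕ) (pullC p' hp' (α' j)) :=
      Function.locallyFinsuppWithin.ext fun z => by
        rw [m2 z, sum_apply]
        refine Finset.sum_congr rfl fun j _ => ?_
        rw [cap_coe, pullC_coe, Groth.L22.C1.c1PowFun_mapSec e.hom hLc hLQ hQs.2.2]
    have hterm : ∀ j : Fin (n + 1), pushC i (fun d => δP (i d)) δP (cap hQs.2.2 hLc ht' (j : ℕ) (pullC p' hp' (α' j))) -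
        cap hPs.2.2 hL (t := fun _ => v) (fun _ => hv) ((j : ℕ) + 1) (pullC p hp (α' j)) ∈
          ratGroup hPs.2.2 (k + (n + 1 : ℕ)) := fun j => by
      have h := cap_pushC hQs.2.2 hPs.2.2 hL i hicomp (t := fun _ => v) (fun _ => hv) ht'
        (pullC_mem p' hp' (m1 j)) (j : ℕ)
      rw [show k + 1 + ((j : ℕ) : ℤ) + n - ((j : ℕ) : ℤ) = k + (n + 1 : ℕ) by push_cast; ring,
        Groth.L22.Bundle.pushC_pullC hP hQ a b hab hex hX hPs hδ hδ' hr hr'
          (by push_cast; rfl) hp hp' hF' (hw 0) (m1 j)] at h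
      rwa [cap_comp_one hPs.2.2 hL hv (j : ℕ)] at h
    have hpush : G - ∑ j : Fin (n + 1), cap hPs.2.2 hL (t := fun _ => v) (fun _ => hv) ((j : ℕ) + 1)
        (pullC p hp (α' j)) ∈ ratGroup hPs.2.2 (k + (n + 1 : ℕ)) := by
      rw [ratEquiv_iff (hδ := hQs.2.2), show k + 1 + (n : ℤ) = k + (n + 1 : ℕ) by push_cast; ring, hsum] at m3
      have h1 := pushC_rat i hQs.2.2 hPs.2.2 hicomp m3
      rw [map_sub, pushC_comapC i δP G hG0, map_sum] at h1
      have h2 := sum_mem (S := ratGroup hPs.2.2 (k + (n + 1 : ℕ))) fun j (_ : j ∈ Finset.univ) => hterm j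
      rw [Finset.sum_sub_distrib] at h2
      simpa using add_mem h1 h2
    let c : Fin (n + 1 + 1) → AlgebraicCycle X ℤ := Fin.cons α fun j => -α' j
    have hc : ∀ j : Fin (n + 1 + 1), c j ∈ Cyc.Zk X δ (k + ((j : ℕ) : ℤ)) := fun j => by
      refine Fin.cases ?_ (fun j => ?_) j
      · simpa [c] using hα
      · simp only [c, Fin.cons_succ, Fin.val_succ, Nat.cast_add, Nat.cast_one]
        rw [show k + (((j : ℕ) : ℤ) + 1) = k + 1 + ((j : ℕ) : ℤ) by ring]
        exact (zGroup δ _).neg_mem (m1 j)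
    have h := hind k c hc hL (fun _ _ => v) (fun _ _ => hv)
      (∑ j : Fin (n + 1 + 1), cap hPs.2.2 hL (t := fun _ => v) (fun _ => hv) (j : ℕ) (pullC p hp (c j)))
      (fun z => by
        rw [sum_apply]
        exact Finset.sum_congr rfl fun j _ => by rw [cap_coe, pullC_coe])
      (by
        show _ ∈ ratGroup hPs.2.2 _
        rw [Fin.sum_univ_succ]
        simp only [c, Fin.cons_zero, Fin.cons_succ, Fin.val_succ, Fin.val_zero, cap_zero, map_neg,
          Finset.sum_neg_distrib, ← sub_eq_add_neg]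
        simpa using add_mem hAG hpush) 0
    show Cyc.RatEquivZero δ k α
    simpa [c] using h

end Groth.L22.Chern
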