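import Groth.Agent.L22.Chern.Ops
import Groth.Agent.L22.Bundle.AffBundle
import Groth.Agent.L22.C1.PullCap
import Groth.Agent.L22.C1.Gysin
import Groth.Agent.L22.Cyc.PushPull
import Groth.Agent.L22.Cyc.BaseChange
import Groth.Agent.L22.Cyc.FiniteDeg

/-!
Naturality of iterated caps, flat pullback and push-forward.
-/

set_option autoImplicit false
set_option linter.style.haveILetI false
set_option backward.isDefEq.respectTransparency.types false
set_option backward.isDefEq.respectTransparency false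

universe u

open CategoryTheory CategoryTheory.Limits AlgebraicGeometry TopologicalSpace

noncomputable section

namespace Groth.L22.Chern

variable {X Y Z W : Scheme.{u}} [IsLocallyNoetherian X] [IsLocallyNoetherian Y] {δX : X → ℤ} {δY : Y → ℤ}
  (hdX : Cyc.IsDimFun X δX) (hdY : Cyc.IsDimFun Y δY) {L : Y.Modules} (hL : PicF.IsInvertible L)

theorem cap_step {L : X.Modules} (hL : PicF.IsInvertible L) {t : ℕ → (ξ : X) → Cyc.secFibre L ξ}
    (ht : ∀ m ξ, t m ξ ≠ 0) (m : ℕ) (A : AlgebraicCycle X ℤ) :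
    cap hdX hL (t := fun _ => t m) (fun _ => ht m) 1 (cap hdX hL ht m A) = cap hdX hL ht (m + 1) A :=
  DFunLike.coe_injective (by rw [cap_succ, cap_succ, cap_zero])

include hdY in
theorem cap_pullC (f : X ⟶ Y) [Flat f] {c : ℤ} (hc : Shift f δX δY c) {t : ℕ → (ξ : Y) → Cyc.secFibre L ξ}
    (ht : ∀ m ξ, t m ξ ≠ 0) {t' : ℕ → (ξ : X) → Cyc.secFibre ((Scheme.Modules.pullback f).obj L) ξ}
    (ht' : ∀ m ξ, t' m ξ ≠ 0) {d : ℤ} {A : AlgebraicCycle Y ℤ} (hA : A ∈ Cyc.Zk Y δY d) (m : ℕ) :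
    pullC f hc (cap hdY hL ht m A) -
      cap hdX (Groth.L18.Ample.isInvertible_pullback f hL) ht' m (pullC f hc A) ∈ ratGroup hdX (d + c - m) := by
  have hL' := Groth.L18.Ample.isInvertible_pullback f hL
  induction m with
  | zero => rw [cap_zero, cap_zero, sub_self]; exact zero_mem _
  | succ m ih =>
    have h1 : pullC f hc (cap hdY hL ht (m + 1) A) -
        cap hdX hL' (t := fun _ => t' m) (fun _ => ht' m) 1 (pullC f hc (cap hdY hL ht m A)) ∈
          ratGroup hdX (d - m + c - 1) :=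
      Groth.L22.C1.c1Cap_pullFun f hdX hdY hL c hc (d - m) _ (cap_mem hdY hL ht hA m) (t m) (ht m) (t' m) (ht' m) _ _
        (by rw [pullC_coe, cap_succ]) (by rw [cap_succ, cap_zero, pullC_coe])
    have h2 := cap_rat hdX hL' (t := fun _ => t' m) (fun _ => ht' m) ih 1
    rw [map_sub, cap_step hdX hL' ht'] at h2
    rw [show d - (m : ℤ) + c - 1 = d + c - ((m + 1 : ℕ) : ℤ) by push_cast; ring] at h1
    rw [show d + c - (m : ℤ) - ((1 : ℕ) : ℤ) = d + c - ((m + 1 : ℕ) : ℤ) by push_cast; ring] at h2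
    simpa using add_mem h1 h2

include hdY in
theorem cap_pushC (f : X ⟶ Y) [IsProper f] (hf : Cyc.DeltaCompat f δX δY) {t : ℕ → (ξ : Y) → Cyc.secFibre L ξ}
    (ht : ∀ m ξ, t m ξ ≠ 0) {t' : ℕ → (ξ : X) → Cyc.secFibre ((Scheme.Modules.pullback f).obj L) ξ}
    (ht' : ∀ m ξ, t' m ξ ≠ 0) {d : ℤ} {A : AlgebraicCycle X ℤ} (hA : A ∈ Cyc.Zk X δX d) (m : ℕ) :
    pushC f δX δY (cap hdX (Groth.L18.Ample.isInvertible_pullback f hL) ht' m A) -
      cap hdY hL ht m (pushC f δX δY A) ∈ ratGroup hdY (d - m) := by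
  have hL' := Groth.L18.Ample.isInvertible_pullback f hL
  induction m with
  | zero => rw [cap_zero, cap_zero, sub_self]; exact zero_mem _
  | succ m ih =>
    have hz := cap_mem hdX hL' ht' hA m
    rw [show d - (m : ℤ) = d - ((m + 1 : ℕ) : ℤ) + 1 by push_cast; ring] at hz
    have h1 : pushC f δX δY (cap hdX hL' ht' (m + 1) A) -
        cap hdY hL (t := fun _ => t m) (fun _ => ht m) 1 (pushC f δX δY (cap hdX hL' ht' m A)) ∈
          ratGroup hdY (d - ((m + 1 : ℕ) : ℤ)) :=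
      Groth.L22.C1.map_c1Cap f hdX hdY hL hf _ _ hz (t' m) (ht' m) (t m) (ht m) _ (cap_succ hdX hL' ht' m A) _
        (by rw [cap_succ, cap_zero]; rfl)
    have h2 := cap_rat hdY hL (t := fun _ => t m) (fun _ => ht m) ih 1
    rw [map_sub, cap_step hdY hL ht] at h2
    rw [show d - (m : ℤ) - ((1 : ℕ) : ℤ) = d - ((m + 1 : ℕ) : ℤ) by push_cast; ring] at h2
    simpa using add_mem h1 h2

omit [IsLocallyNoetherian X] in
include hdY hL in
/-- Caps by two modules commute. -/
theorem cap_comm {N : Y.Modules} (hN : PicF.IsInvertible N) {t : ℕ → (ξ : Y) → Cyc.secFibre L ξ}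
    (ht : ∀ m ξ, t m ξ ≠ 0) {v : ℕ → (ξ : Y) → Cyc.secFibre N ξ}
    (hv : ∀ m ξ, v m ξ ≠ 0) {d : ℤ} {A : AlgebraicCycle Y ℤ} (hA : A ∈ Cyc.Zk Y δY d) (m : ℕ) :
    cap hdY hN hv 1 (cap hdY hL ht m A) - cap hdY hL ht m (cap hdY hN hv 1 A) ∈ ratGroup hdY (d - m - 1) := by
  induction m with
  | zero => rw [cap_zero, cap_zero, sub_self]; exact zero_mem _
  | succ m ih =>
    have hz := cap_mem hdY hL ht hA m
    rw [show d - (m : ℤ) = d - ((m + 1 : ℕ) : ℤ) - 1 + 2 by push_cast; ring] at hz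
    have h1 : cap hdY hN hv 1 (cap hdY hL ht (m + 1) A) -
        cap hdY hL (t := fun _ => t m) (fun _ => ht m) 1 (cap hdY hN hv 1 (cap hdY hL ht m A)) ∈
          ratGroup hdY (d - ((m + 1 : ℕ) : ℤ) - 1) :=
      Groth.L22.C1.c1Cap_comm_cycle hdY hN hL _ _ hz (v 0) (v 0) (t m) (t m) (hv 0) (hv 0) (ht m) (ht m) _ _
        (by rw [cap_succ, cap_zero, cap_succ]) (by rw [cap_succ, cap_zero, cap_succ, cap_zero])
    have h2 := cap_rat hdY hL (t := fun _ => t m) (fun _ => ht m) ih 1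
    rw [map_sub, cap_step hdY hL ht] at h2
    rw [show d - (m : ℤ) - 1 - ((1 : ℕ) : ℤ) = d - ((m + 1 : ℕ) : ℤ) - 1 by push_cast; ring] at h2
    simpa using add_mem h1 h2

variable [IsLocallyNoetherian Z] [IsLocallyNoetherian W] {δZ : Z → ℤ} {δW : W → ℤ}

/-- Pullbacks along the two paths of a square agree. -/
theorem pullC_square (g : W ⟶ X) (π : X ⟶ Y) (π' : W ⟶ Z) (f : Z ⟶ Y) [Flat g] [Flat π']
    (w : g ≫ π = π' ≫ f) {a b a' b' : ℤ} (hg : Shift g δW δX a) (hπ : Shift π δX δY b)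
    (hπ' : Shift π' δW δZ b') (hf : Shift f δZ δY a') (A : AlgebraicCycle Y ℤ) :
    pullC g hg (pullC π hπ A) = pullC π' hπ' (pullC f hf A) := by
  refine Function.locallyFinsuppWithin.ext fun x => ?_
  simp only [pullC_apply]
  have h1 := Groth.L22.Cyc.mult_comp g π x
  have h2 := Groth.L22.Cyc.mult_comp π' f x
  rw [Groth.L22.Cyc.mult_congr _ w] at h1
  rw [h1] at h2
  have h3 := congrArg ENat.toNat h2
  rw [ENat.toNat_mul, ENat.toNat_mul] at h3
  rw [← Scheme.Hom.comp_apply g π, w, Scheme.Hom.comp_apply, mul_assoc, mul_assoc, ← Nat.cast_mul, h3, Nat.cast_mul]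

include hdX in
/-- Flat base change for push-forwards. -/
theorem pushC_pullC (f : Z ⟶ Y) [IsProper f] (π : X ⟶ Y) [Flat π] (f' : W ⟶ X) [IsProper f'] (π' : W ⟶ Z)
    (hsq : IsPullback f' π' π f) (hf : Cyc.DeltaCompat f δZ δY) (hf' : Cyc.DeltaCompat f' δW δX) {c : ℤ}
    (hπ : Shift π δX δY c) (hπ' : Shift π' δW δZ c) (A : AlgebraicCycle Z ℤ) :
    pushC f' δW δX (pullC π' hπ' A) = pullC π hπ (pushC f δZ δY A) := by
  classical
  let e := hsq.flip.isoPullback
  have he1 : e.hom ≫ pullback.fst f π = π' := hsq.flip.isoPullback_hom_fst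
  have he2 : e.hom ≫ pullback.snd f π = f' := hsq.flip.isoPullback_hom_snd
  haveI : IsLocallyNoetherian (pullback f π) := isLocallyNoetherian_of_isOpenImmersion e.inv
  let δ' : ↥(pullback f π) → ℤ := fun z => δW (e.inv z)
  have hs2 : e.inv ≫ f' = pullback.snd f π := by rw [← he2, Iso.inv_hom_id_assoc]
  have hs1 : e.inv ≫ π' = pullback.fst f π := by rw [← he1, Iso.inv_hom_id_assoc]
  have hδ2 : Cyc.DeltaCompat (pullback.snd f π) δ' δX := hs2 ▸ Groth.L22.Bundle.deltaCompat_comp e.inv f' hf'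
  have hcY : Shift (pullback.fst f π) δ' δZ c := fun z hz => by
    rw [← hs1]
    refine hπ' (e.inv z) fun y hy hsp => ?_
    have h0 : e.hom y = z := hz (e.hom y) (by
        rw [← Scheme.Hom.comp_apply, he1, hy, ← hs1, Scheme.Hom.comp_apply])
      (by
        have := hsp.map e.hom.continuous
        rwa [← Scheme.Hom.comp_apply e.inv, Iso.inv_hom_id] at this)
    rw [← h0, ← Scheme.Hom.comp_apply e.hom, Iso.hom_inv_id]
    rfl
  have hmain := Groth.L22.Cyc.map_pullFun_eq f π hdX hf hδ2 hπ hcY A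
    (pullC (pullback.fst f π) hcY A) (pullC_coe _ hcY A)
  refine Function.locallyFinsuppWithin.ext fun x => ?_
  rw [show pullC π hπ (pushC f δZ δY A) x = _ from congrFun ((pullC_coe π hπ (pushC f δZ δY A)).trans hmain) x]
  refine finsum_mem_eq_of_bijOn (fun w => e.hom w) ⟨?_, fun a _ b _ h => e.hom.isOpenEmbedding.injective h, ?_⟩ ?_
  · intro w hw
    show pullback.snd f π (e.hom w) = x
    rw [← Scheme.Hom.comp_apply, he2]
    exact hw
  · intro z hz
    refine ⟨e.inv z, ?_, ?_⟩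
    · show f' (e.inv z) = x
      rw [← Scheme.Hom.comp_apply, hs2]
      exact hz
    · show e.hom (e.inv z) = z
      rw [← Scheme.Hom.comp_apply, Iso.inv_hom_id]; rfl
  · intro w _
    have hwe : e.inv (e.hom w) = w := by rw [← Scheme.Hom.comp_apply, Iso.hom_inv_id]; rfl
    beta_reduce
    rw [show pullC π' hπ' A w = pullC (pullback.fst f π) hcY A (e.hom w) from ?_,
      show AlgebraicCycle.mapCoeff f' δW δX w = AlgebraicCycle.mapCoeff (pullback.snd f π) δ' δX (e.hom w) from ?_]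
    · rw [Groth.L22.Cyc.mapCoeff_eq f' hf', Groth.L22.Cyc.mapCoeff_eq _ hδ2,
        Groth.L22.Cyc.residueDegree_congr _ he2.symm, Groth.L22.Cyc.residueDegree_comp,
        Groth.L22.Bundle.residueDegree_eq_one (Groth.L22.FibreDim.residueFieldMap_bijective e.hom w)]
      simp
    · rw [pullC_apply, pullC_apply, ← Scheme.Hom.comp_apply, he1, ← Groth.L22.Cyc.mult_congr _ he1,
        Groth.L22.Cyc.mult_comp, Groth.L22.Bundle.mult_openImmersion e.hom w, mul_one]

end Groth.L22.Chern
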