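import Groth.Agent.L22.Chern.Total

/-!
The Chern polynomial in the ring of operations on the total Chow group.
-/

set_option autoImplicit false
set_option linter.style.haveILetI false
set_option linter.unusedSectionVars false
set_option backward.isDefEq.respectTransparency.types false
set_option backward.isDefEq.respectTransparency false

universe u

open CategoryTheory CategoryTheory.Limits AlgebraicGeometry TopologicalSpace Polynomial

noncomputable section

namespace Groth.L22.Chern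

variable {X : Scheme.{u}} {δ : X → ℤ} (hX : Cyc.IsSetup X δ) {r : ℕ} {E F L : X.Modules}

/-- Operations equal to a Chern class. -/
theorem C_eq_of (hE : FlatMod.IsFinLocFreeOfRank r E) (j : Fin (r + 1)) {T : Op X δ}
    (h : ∀ (P : Scheme.{u}) (p : P ⟶ X) (O1 : P.Modules) (q : (Scheme.Modules.pullback p).obj E ⟶ O1)
      (δP : P → ℤ), KRR.IsProjBundle p E O1 q → IsProper p → Cyc.DeltaCompat p δP δ →
      ∀ (k : ℤ) (α : AlgebraicCycle X ℤ), α ∈ Cyc.Zk X δ k → ∀ γ : Fin (r + 1) → AlgebraicCycle X ℤ,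
        Cyc.IsChernCap p δ δP O1 r k α γ → T (emb δ k α) = emb δ (k - ((j : ℕ) : ℤ)) (γ j)) :
    C hX hE j = T := by
  obtain ⟨P, p, O1, q, δP, hP, hp, hc, hg⟩ := exists_cap hX hE
  refine op_ext fun k α hα => ?_
  obtain ⟨γ, hγ⟩ := hg k α hα
  rw [h P p O1 q δP hP hp hc k α hα γ hγ, C_emb hX hE hP hc hα hγ j]

theorem C_zero (hE : FlatMod.IsFinLocFreeOfRank r E) : C hX hE 0 = 1 :=
  C_eq_of hX hE 0 (T := 1) fun P p O1 q δP _ _ _ k α _ γ hγ => by
    show emb δ k α = _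
    rw [hγ.1, Fin.val_zero, Nat.cast_zero, sub_zero]

/-- Chern classes only depend on the isomorphism class. -/
theorem C_congr (hE : FlatMod.IsFinLocFreeOfRank r E) (hF : FlatMod.IsFinLocFreeOfRank r F) (θ : E ≅ F) (j : ℕ) :
    C hX hE j = C hX hF j := by
  rcases Nat.lt_or_ge r j with h | h
  · rw [C_of_lt hX hE h, C_of_lt hX hF h]
  cases r with
  | zero =>
    obtain rfl : j = 0 := by omega
    rw [C_zero, C_zero]
  | succ n =>
    refine C_eq_of hX hE ⟨j, by omega⟩ (T := C hX hF j) fun P p O1 q δP hP hp hc k α hα γ hγ => ?_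
    haveI := hX.1
    haveI := hp
    obtain ⟨Q, p', O1', q', δQ, hQ, hp', hc', -⟩ := exists_cap hX hF
    haveI := hp'
    have hPs := setup_of_compat p hX hc
    have hQs := setup_of_compat p' hX hc'
    haveI := hPs.1
    haveI := hQs.1
    exact C_emb hX hF hQ hc' hα (isChernCap_transfer hX.2.2 hE θ hP hQ hPs.2.2 hQs.2.2 hc hc' hγ) ⟨j, by omega⟩

/-- The Chern polynomial. -/
def cp (hE : FlatMod.IsFinLocFreeOfRank r E) : (Op X δ)[X] :=
  ∑ j ∈ Finset.range (r + 1), monomial j (C hX hE j)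

theorem coeff_cp (hE : FlatMod.IsFinLocFreeOfRank r E) (j : ℕ) : (cp hX hE).coeff j = C hX hE j := by
  rw [cp, finsetSum_coeff]
  simp only [coeff_monomial, Finset.sum_ite_eq', Finset.mem_range]
  split_ifs with h
  · rfl
  · rw [C_of_lt hX hE (by omega)]

theorem cp_congr (hE : FlatMod.IsFinLocFreeOfRank r E) (hF : FlatMod.IsFinLocFreeOfRank r F) (θ : E ≅ F) :
    cp hX hE = cp hX hF :=
  Polynomial.ext fun j => by rw [coeff_cp, coeff_cp, C_congr hX hE hF θ]

theorem cp_rank_zero (hE : FlatMod.IsFinLocFreeOfRank 0 E) : cp hX hE = 1 := by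
  rw [cp, Finset.sum_range_one, C_zero, monomial_zero_one]

/-- The Chern classes of an extension by an invertible submodule. -/
theorem C_extend [IsLocallyNoetherian X] (hE : FlatMod.IsFinLocFreeOfRank (r + 1) E)
    (hF : FlatMod.IsFinLocFreeOfRank r F) (hL : PicF.IsInvertible L)
    (a : L ⟶ E) (b : E ⟶ F) (hab : a ≫ b = 0) (hex : (ShortComplex.mk a b hab).ShortExact) (i : ℕ) :
    C hX hE (i + 1) = C hX hF (i + 1) + x1 hX.2.2 hL * C hX hF i := by
  rcases Nat.lt_or_ge r i with hi | hi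
  · rw [C_of_lt hX hE (by omega), C_of_lt hX hF (by omega), C_of_lt hX hF hi, mul_zero, add_zero]
  refine C_eq_of hX hE ⟨i + 1, by omega⟩ fun P p O1 q δP hP hp hc k α hα γ hγ => ?_
  obtain ⟨Q, p', O1', q', δQ, hQ, -, hc', hg⟩ := exists_cap hX hF
  obtain ⟨γ', hγ'⟩ := hg k α hα
  have hm := hγ'.2.1
  have h := caps_extend hX hE hF hL a b hab hex hP hQ hc hc' (sec_ne hL) hα hγ hγ' i hi
  have hpw : pw hX.2.2 hL (sec_ne hL) 1 (γ' ⟨i, by omega⟩) ∈ Cyc.Zk X δ (k - ((i + 1 : ℕ) : ℤ)) := by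
    have := pw_mem hX.2.2 hL (sec_ne hL) (hm ⟨i, by omega⟩) 1
    rwa [show k - ((i : ℕ) : ℤ) - ((1 : ℕ) : ℤ) = k - ((i + 1 : ℕ) : ℤ) by push_cast; ring] at this
  show C hX hF (i + 1) (emb δ k α) + x1 hX.2.2 hL (C hX hF i (emb δ k α)) =
    emb δ (k - ((i + 1 : ℕ) : ℤ)) (γ ⟨i + 1, by omega⟩)
  rw [show C hX hF i (emb δ k α) = emb δ (k - (i : ℤ)) (γ' ⟨i, by omega⟩) from C_emb hX hF hQ hc' hα hγ' ⟨i, by omega⟩,
    x1_emb hX.2.2 hL (sec_ne hL) (hm ⟨i, by omega⟩),
    show k - (i : ℤ) - 1 = k - ((i + 1 : ℕ) : ℤ) by push_cast; ring]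
  by_cases h' : i < r
  · rw [dif_pos h'] at h
    rw [show C hX hF (i + 1) (emb δ k α) = emb δ (k - ((i + 1 : ℕ) : ℤ)) (γ' ⟨i + 1, by omega⟩) from
      C_emb hX hF hQ hc' hα hγ' ⟨i + 1, by omega⟩, ← emb_add (hm ⟨i + 1, by omega⟩) hpw]
    exact (emb_eq hX.2.2 (hγ.2.1 ⟨i + 1, by omega⟩) ((ChowOps.zk X δ _).add_mem (hm ⟨i + 1, by omega⟩) hpw) h).symm
  · rw [dif_neg h', zero_add] at h
    rw [C_of_lt hX hF (show r < i + 1 by omega)]
    show (0 : Tot X δ) + _ = _
    rw [zero_add]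
    exact (emb_eq hX.2.2 (hγ.2.1 ⟨i + 1, by omega⟩) hpw h).symm

/-- The Chern polynomial of an extension by an invertible submodule. -/
theorem cp_extend [IsLocallyNoetherian X] (hE : FlatMod.IsFinLocFreeOfRank (r + 1) E)
    (hF : FlatMod.IsFinLocFreeOfRank r F) (hL : PicF.IsInvertible L)
    (a : L ⟶ E) (b : E ⟶ F) (hab : a ≫ b = 0) (hex : (ShortComplex.mk a b hab).ShortExact) :
    cp hX hE = (1 + Polynomial.C (x1 hX.2.2 hL) * Polynomial.X) * cp hX hF := by
  ext1 j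
  rw [add_mul, one_mul, coeff_add, mul_assoc, coeff_C_mul]
  cases j with
  | zero => rw [X_mul, coeff_mul_X_zero, mul_zero, add_zero, coeff_cp, coeff_cp, C_zero, C_zero]
  | succ i => rw [X_mul, coeff_mul_X, coeff_cp, coeff_cp, coeff_cp, C_extend hX hE hF hL a b hab hex]

end Groth.L22.Chern
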