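import Groth.Agent.L22.Chern.Splitting
import Groth.Agent.L22.Chern.FlagSum

/-!
Flat pullback on total Chow groups.
-/

set_option autoImplicit false
set_option linter.style.haveILetI false
set_option linter.unusedSectionVars false
set_option backward.isDefEq.respectTransparency.types false
set_option backward.isDefEq.respectTransparency false

universe u

open CategoryTheory CategoryTheory.Limits AlgebraicGeometry TopologicalSpace

noncomputable section

namespace Groth.L22.Chern

variable {X P : Scheme.{u}} [IsLocallyNoetherian X] [IsLocallyNoetherian P] {δ : X → ℤ} {δP : P → ℤ}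
  (hd : Cyc.IsDimFun X δ) (hdP : Cyc.IsDimFun P δP) (π : P ⟶ X) [Flat π] {c : ℤ} (hs : Shift π δP δ c)

/-- Flat pullback on Chow groups of one degree. -/
def pbH (k : ℤ) : ChowOps.CH X δ k →+ ChowOps.CH P δP (k + c) :=
  QuotientAddGroup.lift _
    (AddMonoidHom.mk' (fun a : ↥(ChowOps.zk X δ k) => ChowOps.cl (pullC π hs a.1) (pullC_mem π hs a.2))
      fun a b => by
        show ChowOps.clHom P δP (k + c) _ = ChowOps.clHom P δP (k + c) _ + ChowOps.clHom P δP (k + c) _
        rw [← map_add]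
        exact congrArg _ (Subtype.ext (map_add (pullC π hs) a.1 b.1)))
    ((AddSubgroup.closure_le _).2 fun a ha => by
      refine ((cl_eq_iff hdP _ (ChowOps.zk P δP (k + c)).zero_mem).2 ?_).trans (map_zero (ChowOps.clHom P δP (k + c)))
      rw [sub_zero]
      exact pullC_rat π hs hdP hd ha)

/-- Flat pullback on total Chow groups. -/
def pb : Tot X δ →+ Tot P δP :=
  DirectSum.toAddMonoid fun k => (DirectSum.of (fun k => ChowOps.CH P δP k) (k + c)).comp (pbH hd hdP π hs k)

theorem pb_emb {k : ℤ} {A : AlgebraicCycle X ℤ} (hA : A ∈ Cyc.Zk X δ k) :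
    pb hd hdP π hs (emb δ k A) = emb δP (k + c) (pullC π hs A) := by
  rw [emb_def hA, emb_def (pullC_mem π hs hA), pb]
  exact DirectSum.toAddMonoid_of _ _ _

theorem pb_injective (h : ∀ (k : ℤ) (A : AlgebraicCycle X ℤ), A ∈ Cyc.Zk X δ k →
    pullC π hs A ∈ ratGroup hdP (k + c) → A ∈ ratGroup hd k) : Function.Injective (pb hd hdP π hs) := by
  classical
  rw [injective_iff_map_eq_zero]
  intro x hx
  refine DirectSum.ext fun k => ?_
  have key : ∀ y : Tot X δ, pb hd hdP π hs y (k + c) = pbH hd hdP π hs k (y k) := fun y => by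
    induction y using DirectSum.induction_on with
    | zero => simp
    | add a b ha hb => rw [map_add, DirectSum.add_apply, DirectSum.add_apply, map_add, ha, hb]
    | of l z =>
      rw [pb, DirectSum.toAddMonoid_of, AddMonoidHom.comp_apply]
      by_cases hl : l = k
      · subst hl; rw [DirectSum.of_eq_same, DirectSum.of_eq_same]
      · rw [DirectSum.of_eq_of_ne _ _ _ (fun e => hl (by omega)), DirectSum.of_eq_of_ne _ _ _ (Ne.symm hl), map_zero]
  have h0 := key x
  rw [hx, DirectSum.zero_apply] at h0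
  obtain ⟨⟨A, hA⟩, hAx⟩ := QuotientAddGroup.mk'_surjective (ChowOps.ratTriv X δ k) (x k)
  have hAx' : ChowOps.cl A hA = x k := hAx
  rw [← hAx'] at h0
  have h1 : pullC π hs A - 0 ∈ ratGroup hdP (k + c) :=
    (cl_eq_iff hdP (pullC_mem π hs hA) (ChowOps.zk P δP _).zero_mem).1 (h0.symm.trans (map_zero _).symm)
  rw [sub_zero] at h1
  rw [DirectSum.zero_apply, ← hAx']
  exact ((cl_eq_iff hd hA (ChowOps.zk X δ k).zero_mem).2 (by rw [sub_zero]; exact h k A hA h1)).trans (map_zero _)

/-- An operation upstairs over one downstairs. -/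
def Over' (T : Op X δ) (T' : Op P δP) : Prop := ∀ x, pb hd hdP π hs (T x) = T' (pb hd hdP π hs x)

variable {hd hdP π hs}

theorem Over'.add {T S : Op X δ} {T' S' : Op P δP} (h : Over' hd hdP π hs T T') (g : Over' hd hdP π hs S S') :
    Over' hd hdP π hs (T + S) (T' + S') := fun x => by
  show pb hd hdP π hs (T x + S x) = T' _ + S' _
  rw [map_add, h, g]

theorem Over'.mul {T S : Op X δ} {T' S' : Op P δP} (h : Over' hd hdP π hs T T') (g : Over' hd hdP π hs S S') :
    Over' hd hdP π hs (T * S) (T' * S') := fun x => by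
  show pb hd hdP π hs (T (S x)) = T' (S' _)
  rw [h, g]

theorem over'_one : Over' hd hdP π hs (1 : Op X δ) 1 := fun _ => rfl

theorem over'_zero : Over' hd hdP π hs (0 : Op X δ) 0 := fun _ => map_zero _

theorem Over'.zsmul {T : Op X δ} {T' : Op P δP} (h : Over' hd hdP π hs T T') (m : ℤ) :
    Over' hd hdP π hs (m • T) (m • T') := fun x => by
  show pb hd hdP π hs (m • T x) = m • T' _
  rw [map_zsmul, h]

theorem over'_sum {ι : Type*} (s : Finset ι) {T : ι → Op X δ} {T' : ι → Op P δP}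
    (h : ∀ i ∈ s, Over' hd hdP π hs (T i) (T' i)) : Over' hd hdP π hs (∑ i ∈ s, T i) (∑ i ∈ s, T' i) := by
  classical
  induction s using Finset.induction_on with
  | empty => exact over'_zero
  | insert a t ha ih =>
    rw [Finset.sum_insert ha, Finset.sum_insert ha]
    exact (h a (Finset.mem_insert_self a t)).add (ih fun i hi => h i (Finset.mem_insert_of_mem hi))

variable (hd hdP π hs)

theorem over'_x1 {L : X.Modules} (hL : PicF.IsInvertible L) :
    Over' hd hdP π hs (x1 hd hL) (x1 hdP (Groth.L18.Ample.isInvertible_pullback π hL)) := fun x => by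
  have hL' := Groth.L18.Ample.isInvertible_pullback π hL
  refine DFunLike.congr_fun (op_ext (T := (pb hd hdP π hs).comp (x1 hd hL))
    (T' := AddMonoidHom.comp (x1 hdP hL') (pb hd hdP π hs)) fun k A hA => ?_) x
  show pb hd hdP π hs (x1 hd hL (emb δ k A)) = x1 hdP hL' (pb hd hdP π hs (emb δ k A))
  have h1 : pw hd hL (sec_ne hL) 1 A ∈ Cyc.Zk X δ (k - 1) := pw_mem hd hL (sec_ne hL) hA 1
  rw [x1_emb hd hL (sec_ne hL) hA, pb_emb hd hdP π hs h1, pb_emb hd hdP π hs hA,
    x1_emb hdP hL' (sec_ne hL') (pullC_mem π hs hA), show k - 1 + c = k + c - 1 by ring]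
  have h2 := pullC_mem π hs h1
  rw [show k - 1 + c = k + c - 1 by ring] at h2
  refine emb_eq hdP h2 (pw_mem hdP hL' (sec_ne hL') (pullC_mem π hs hA) 1) ?_
  exact cap_pullC hdP hd hL π hs (t := fun _ => sec hL) (fun _ => sec_ne hL) (t' := fun _ => sec hL') (fun _ => sec_ne hL') hA 1

theorem over'_C (hX : Cyc.IsSetup X δ) (hPs : Cyc.IsSetup P δP) [LocallyOfFiniteType π] {d : ℕ}
    (hr : Cyc.HasRelDim π d) (hc : Cyc.DeltaCompat π δP δ) {r : ℕ} {E : X.Modules}
    (hE : FlatMod.IsFinLocFreeOfRank r E) (j : ℕ) :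
    Over' hX.2.2 hPs.2.2 π (Groth.L22.Cyc.shift_of_deltaCompat π hr hc) (C hX hE j)
      (C hPs (rank_pullback π hE) j) := by
  rcases Nat.lt_or_ge r j with h | h
  · rw [C_of_lt hX hE h, C_of_lt hPs _ h]
    exact over'_zero
  cases r with
  | zero =>
    obtain rfl : j = 0 := by omega
    rw [C_zero, C_zero]
    exact over'_one
  | succ n =>
    intro x
    refine DFunLike.congr_fun (op_ext (T := (pb hX.2.2 hPs.2.2 π (Groth.L22.Cyc.shift_of_deltaCompat π hr hc)).comp (C hX hE j))
      (T' := AddMonoidHom.comp (C hPs (rank_pullback π hE) j) (pb hX.2.2 hPs.2.2 π (Groth.L22.Cyc.shift_of_deltaCompat π hr hc)))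
      fun k A hA => ?_) x
    show pb hX.2.2 hPs.2.2 π _ (C hX hE j (emb δ k A)) = C hPs (rank_pullback π hE) j (pb hX.2.2 hPs.2.2 π _ (emb δ k A))
    obtain ⟨Q, p, O1, q, δQ, hQ, hp, hcQ, hg⟩ := exists_cap hX hE
    haveI := hp
    obtain ⟨γ, hγ⟩ := hg k A hA
    have hQs := setup_of_compat p hX hcQ
    haveI := hQs.1
    obtain ⟨δR, hRs, hcR⟩ := Groth.L22.Cyc.exists_setup (pullback.snd p π) hPs
    haveI := hRs.1
    have hγ' := isChernCap_pull hPs.2.2 hX.2.2 hQs.2.2 hRs.2.2 hQ hE hcQ hcR (IsPullback.of_hasPullback p π) hr hc hγ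
    rw [pb_emb hX.2.2 hPs.2.2 π _ hA]
    rw [show C hX hE j (emb δ k A) = emb δ (k - ((j : ℕ) : ℤ)) (γ ⟨j, by omega⟩) from
      C_emb hX hE hQ hcQ hA hγ ⟨j, by omega⟩, pb_emb hX.2.2 hPs.2.2 π _ (hγ.2.1 ⟨j, by omega⟩),
      show k - (j : ℤ) + (d : ℤ) = k + (d : ℤ) - (j : ℤ) by ring]
    exact (C_emb hPs (rank_pullback π hE) (Groth.L22.Bundle.isProjBundle_baseChange q hQ (IsPullback.of_hasPullback p π))
      hcR (pullC_mem π _ hA) hγ' ⟨j, by omega⟩).symm

/-- Pullback along a splitting morphism is injective. -/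
theorem pb_injective_of_inj (hX : Cyc.IsSetup X δ) (hPs : Cyc.IsSetup P δP) {d : ℕ} (hi : InjPull δ π d)
    (hc : Cyc.DeltaCompat π δP δ) (hs' : Shift π δP δ (d : ℤ)) :
    Function.Injective (pb hX.2.2 hPs.2.2 π hs') := by
  refine pb_injective hX.2.2 hPs.2.2 π hs' fun k A hA h => ?_
  exact hi X (𝟙 X) δ hX (Bivar.deltaCompat_id δ) P π (𝟙 P) (IsPullback.of_horiz_isIso ⟨by simp⟩) δP hPs hc k A hA _
    (pullC_coe π hs' A) h

end Groth.L22.Chern
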