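import Groth.Agent.L22.Chern.Nat
import Groth.Agent.L22.Bundle.Span
import Groth.Agent.L22.Bundle.UPBridge
import Groth.Prelude.Def_ChowOps2

/-!
The defining relation of Chern class caps: existence and uniqueness of solutions.
-/

set_option autoImplicit false
set_option linter.style.haveILetI false
set_option backward.isDefEq.respectTransparency.types false
set_option backward.isDefEq.respectTransparency false

universe u

open CategoryTheory CategoryTheory.Limits AlgebraicGeometry TopologicalSpace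

noncomputable section

namespace Groth.L22.Chern

variable {X P : Scheme.{u}} [IsLocallyNoetherian X] [IsLocallyNoetherian P] {p : P ⟶ X} {E : X.Modules}
  {O1 : P.Modules} {q : (Scheme.Modules.pullback p).obj E ⟶ O1} {n : ℕ} {δ : X → ℤ} {δP : P → ℤ}
  (hdX : Cyc.IsDimFun X δ) (hdP : Cyc.IsDimFun P δP) (hδ : Cyc.DeltaCompat p δP δ) (hL : PicF.IsInvertible O1)
  (hp : Shift p δP δ (n : ℤ))

variable {t : ℕ → (ξ : P) → Cyc.secFibre O1 ξ} (ht : ∀ m ξ, t m ξ ≠ 0)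

/-- The relation defining the caps with Chern classes. -/
def rel (γ : Fin (n + 1 + 1) → AlgebraicCycle X ℤ) : AlgebraicCycle P ℤ :=
  ∑ i : Fin (n + 1 + 1), ((-1 : ℤ) ^ (i : ℕ)) • cap hdP hL ht (i : ℕ) (pullC p hp (γ (Fin.rev i)))

theorem rel_apply (γ : Fin (n + 1 + 1) → AlgebraicCycle X ℤ) (y : P) :
    rel hdP hL hp ht γ y = ∑ i : Fin (n + 1 + 1), (-1 : ℤ) ^ (i : ℕ) *
      Cyc.c1PowFun δP O1 t i (Cyc.pullFun p δP δ (((n + 1 : ℕ) : ℤ) - 1) ⇑(γ (Fin.rev i))) y := by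
  rw [rel, sum_apply]
  refine Finset.sum_congr rfl fun i _ => ?_
  rw [Function.locallyFinsuppWithin.coe_zsmul, Pi.smul_apply, cap_coe, pullC_coe, smul_eq_mul,
    show ((n + 1 : ℕ) : ℤ) - 1 = (n : ℤ) by push_cast; ring]

omit [IsLocallyNoetherian X] [IsLocallyNoetherian P] in
theorem rev_cast (i : Fin (n + 1 + 1)) : ((Fin.rev i : Fin (n + 1 + 1)) : ℤ) = (n : ℤ) + 1 - (i : ℕ) := by
  have h : ((Fin.rev i : Fin (n + 1 + 1)) : ℕ) = n + 1 + 1 - ((i : ℕ) + 1) := Fin.val_rev i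
  have := i.isLt
  omega

theorem rel_sub (γ γ' : Fin (n + 1 + 1) → AlgebraicCycle X ℤ) :
    rel hdP hL hp ht (fun j => γ j - γ' j) = rel hdP hL hp ht γ - rel hdP hL hp ht γ' := by
  simp only [rel, map_sub, smul_sub, Finset.sum_sub_distrib]

theorem term_mem {k : ℤ} {γ : Fin (n + 1 + 1) → AlgebraicCycle X ℤ}
    (hγ : ∀ j : Fin (n + 1 + 1), γ j ∈ Cyc.Zk X δ (k - ((j : ℕ) : ℤ))) (i : Fin (n + 1 + 1)) :
    pullC p hp (γ (Fin.rev i)) ∈ Cyc.Zk P δP (k - 1 + (i : ℕ)) := by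
  have := pullC_mem p hp (hγ (Fin.rev i))
  rwa [show k - ((Fin.rev i : Fin (n + 1 + 1)) : ℤ) + n = k - 1 + (i : ℕ) by rw [rev_cast]; ring] at this

theorem rel_change {t' : ℕ → (ξ : P) → Cyc.secFibre O1 ξ} (ht' : ∀ m ξ, t' m ξ ≠ 0) {k : ℤ}
    {γ : Fin (n + 1 + 1) → AlgebraicCycle X ℤ}
    (hγ : ∀ j : Fin (n + 1 + 1), γ j ∈ Cyc.Zk X δ (k - ((j : ℕ) : ℤ))) :
    rel hdP hL hp ht γ - rel hdP hL hp ht' γ ∈ ratGroup hdP (k - 1) := by
  simp only [rel, ← Finset.sum_sub_distrib, ← smul_sub]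
  refine sum_mem fun i _ => zsmul_mem ?_ _
  have := cap_change hdP hL ht ht' (term_mem hp hγ i) (i : ℕ)
  rwa [show k - 1 + ((i : ℕ) : ℤ) - ((i : ℕ) : ℤ) = k - 1 by ring] at this

include hp in
/-- The prelude's predicate in terms of `rel`. -/
theorem isChernCap_iff {k : ℤ} {α : AlgebraicCycle X ℤ} {γ : Fin (n + 1 + 1) → AlgebraicCycle X ℤ} :
    Cyc.IsChernCap p δ δP O1 (n + 1) k α γ ↔ γ 0 = α ∧
      (∀ j : Fin (n + 1 + 1), γ j ∈ Cyc.Zk X δ (k - ((j : ℕ) : ℤ))) ∧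
      ∀ (t : ℕ → (ξ : P) → Cyc.secFibre O1 ξ) (ht : ∀ m ξ, t m ξ ≠ 0),
        rel hdP hL hp ht γ ∈ ratGroup hdP (k - 1) := by
  refine and_congr Iff.rfl (and_congr Iff.rfl ?_)
  refine ⟨fun h t ht => h t ht _ (rel_apply hdP hL hp ht γ), fun h t ht β hβ => ?_⟩
  rw [show β = rel hdP hL hp ht γ from Function.locallyFinsuppWithin.ext fun y =>
    (hβ y).trans (rel_apply hdP hL hp ht γ y).symm]
  exact h t ht

/-- One choice of sections suffices. -/
theorem isChernCap_of_one {k : ℤ} {α : AlgebraicCycle X ℤ} {γ : Fin (n + 1 + 1) → AlgebraicCycle X ℤ}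
    (h0 : γ 0 = α) (hm : ∀ j : Fin (n + 1 + 1), γ j ∈ Cyc.Zk X δ (k - ((j : ℕ) : ℤ)))
    (h : rel hdP hL hp ht γ ∈ ratGroup hdP (k - 1)) : Cyc.IsChernCap p δ δP O1 (n + 1) k α γ :=
  (isChernCap_iff hdP hL hp).2 ⟨h0, hm, fun t' ht' => by
    simpa using add_mem (rel_change hdP hL hp ht' ht hm) h⟩

variable (hPB : KRR.IsProjBundle p E O1 q) (hF : FlatMod.IsFinLocFreeOfRank (n + 1) E) [IsProper p]

include hdX hδ hPB hF in
/-- A solution with rationally trivial first component is rationally trivial. -/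
theorem rat_of_rel {k : ℤ} {γ : Fin (n + 1 + 1) → AlgebraicCycle X ℤ}
    (hm : ∀ j : Fin (n + 1 + 1), γ j ∈ Cyc.Zk X δ (k - ((j : ℕ) : ℤ))) (h0 : γ 0 ∈ ratGroup hdX k)
    (h : rel hdP hL hp ht γ ∈ ratGroup hdP (k - 1)) (j : Fin (n + 1 + 1)) :
    γ j ∈ ratGroup hdX (k - ((j : ℕ) : ℤ)) := by
  haveI := Groth.L22.Bundle.flat_of_isProjBundle hPB hF
  have htop : cap hdP hL ht (n + 1) (pullC p hp (γ 0)) ∈ ratGroup hdP (k - 1) := by
    have := cap_rat hdP hL ht (pullC_rat p hp hdP hdX h0) (n + 1)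
    rwa [show k + (n : ℤ) - ((n + 1 : ℕ) : ℤ) = k - 1 by push_cast; ring] at this
  let a : Fin (n + 1) → AlgebraicCycle X ℤ := fun i => ((-1 : ℤ) ^ (i : ℕ)) • γ (Fin.rev (Fin.castSucc i))
  have ha : ∀ i : Fin (n + 1), a i ∈ Cyc.Zk X δ (k - 1 - n + ((i : ℕ) : ℤ)) := fun i => by
    have := hm (Fin.rev (Fin.castSucc i))
    rw [rev_cast, Fin.val_castSucc] at this
    rw [show k - 1 - n + ((i : ℕ) : ℤ) = k - ((n : ℤ) + 1 - (i : ℕ)) by ring]
    exact zsmul_mem (show _ ∈ zGroup δ _ from this) _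
  have hrel : (∑ i : Fin (n + 1), cap hdP hL ht (i : ℕ) (pullC p hp (a i))) ∈ ratGroup hdP (k - 1) := by
    rw [rel, Fin.sum_univ_castSucc] at h
    simp only [Fin.rev_last, Fin.val_last, Fin.val_castSucc] at h
    rw [add_mem_cancel_right (zsmul_mem htop _)] at h
    simpa [a, map_zsmul] using h
  have hind := Groth.L22.Bundle.indep hdX hdP hδ hPB hF (k - 1 - n) a ha hL (fun _ => t) (fun _ => ht)
    (∑ i : Fin (n + 1), cap hdP hL ht (i : ℕ) (pullC p hp (a i)))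
    (fun z => by
      rw [sum_apply]
      exact Finset.sum_congr rfl fun i _ => by rw [cap_coe, pullC_coe])
    (by rw [show k - 1 - (n : ℤ) + n = k - 1 by ring]; exact hrel)
  by_cases hj : j = 0
  · subst hj; simpa using h0
  obtain ⟨i, hi⟩ : ∃ i : Fin (n + 1), Fin.rev (Fin.castSucc i) = j := by
    refine ⟨⟨n + 1 - (j : ℕ), by have := Fin.pos_iff_ne_zero.2 hj; have : 0 < (j : ℕ) := this; omega⟩, Fin.ext ?_⟩
    rw [Fin.val_rev, Fin.val_castSucc]
    have := Fin.pos_iff_ne_zero.2 hj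
    have : 0 < (j : ℕ) := this
    have := j.isLt
    show n + 1 + 1 - (n + 1 - (j : ℕ) + 1) = _
    omega
  have := zsmul_mem (show a i ∈ ratGroup hdX _ from hind i) ((-1 : ℤ) ^ (i : ℕ))
  rw [smul_smul, ← mul_pow, show (-1 : ℤ) * -1 = 1 by norm_num, one_pow, one_smul, hi] at this
  rw [show k - ((j : ℕ) : ℤ) = k - 1 - n + ((i : ℕ) : ℤ) by rw [← hi, rev_cast, Fin.val_castSucc]; ring]
  exact this

include hdX hδ hPB hF hdP hL hp in
/-- Chern caps of rationally equivalent cycles are rationally equivalent. -/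
theorem unique {k : ℤ} {α α' : AlgebraicCycle X ℤ} (hαα' : Cyc.RatEquiv δ k α α')
    {γ γ' : Fin (n + 1 + 1) → AlgebraicCycle X ℤ} (hγ : Cyc.IsChernCap p δ δP O1 (n + 1) k α γ)
    (hγ' : Cyc.IsChernCap p δ δP O1 (n + 1) k α' γ') (j : Fin (n + 1 + 1)) :
    γ j - γ' j ∈ ratGroup hdX (k - ((j : ℕ) : ℤ)) := by
  obtain ⟨a0, a1, a2⟩ := (isChernCap_iff hdP hL hp).1 hγ
  obtain ⟨b0, b1, b2⟩ := (isChernCap_iff hdP hL hp).1 hγ'
  obtain ⟨t, ht⟩ := exists_secs hL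
  refine rat_of_rel hdX hdP hδ hL hp ht hPB hF (γ := fun j => γ j - γ' j)
    (fun j => sub_mem (show _ ∈ zGroup δ _ from a1 j) (b1 j)) ?_ ?_ j
  · show γ 0 - γ' 0 ∈ _
    rw [a0, b0]; exact hαα'
  · rw [rel_sub]; exact sub_mem (a2 t ht) (b2 t ht)

include hdX hδ hPB hF hdP hL hp in
/-- Chern caps exist. -/
theorem exists_chern {k : ℤ} {α : AlgebraicCycle X ℤ} (hα : α ∈ Cyc.Zk X δ k) :
    ∃ γ : Fin (n + 1 + 1) → AlgebraicCycle X ℤ, Cyc.IsChernCap p δ δP O1 (n + 1) k α γ := by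
  obtain ⟨t, ht⟩ := exists_secs hL
  have hβ := cap_mem hdP hL ht (pullC_mem p hp hα) (n + 1)
  rw [show k + (n : ℤ) - ((n + 1 : ℕ) : ℤ) = k - 1 - n + n by push_cast; ring] at hβ
  obtain ⟨a, β', ha, hβ', hr⟩ :=
    Groth.L22.Bundle.span hPB hF hdX hdP hδ hL (k - 1 - n) (fun _ => t) (fun _ _ ξ => ht _ ξ) _ hβ
  have hsum : β' = ∑ i : Fin (n + 1), cap hdP hL ht (i : ℕ) (pullC p hp (a i)) :=
    Function.locallyFinsuppWithin.ext fun z => by
      rw [hβ' z, sum_apply]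
      exact Finset.sum_congr rfl fun i _ => by rw [cap_coe, pullC_coe]
  replace hr : cap hdP hL ht (n + 1) (pullC p hp α) - β' ∈ ratGroup hdP (k - 1) := by
    have hr' : _ ∈ ratGroup hdP _ := hr
    rwa [show k - 1 - (n : ℤ) + n = k - 1 by ring] at hr'
  let γ : Fin (n + 1 + 1) → AlgebraicCycle X ℤ := fun j =>
    if h : j = 0 then α else ((-1 : ℤ) ^ (n + 1 - (j : ℕ) + n)) • a ⟨n + 1 - (j : ℕ), by
      have : 0 < (j : ℕ) := Fin.pos_iff_ne_zero.2 h; omega⟩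
  refine ⟨γ, isChernCap_of_one hdP hL hp ht (dif_pos rfl) (fun j => ?_) ?_⟩
  · by_cases h : j = 0
    · subst h; simpa [γ] using hα
    · have hpos : 0 < (j : ℕ) := Fin.pos_iff_ne_zero.2 h
      rw [show γ j = _ from dif_neg h]
      refine zsmul_mem (show _ ∈ zGroup δ (k - ((j : ℕ) : ℤ)) from ?_) _
      have := ha ⟨n + 1 - (j : ℕ), by omega⟩
      have hjl := j.isLt
      rw [show k - ((j : ℕ) : ℤ) = k - 1 - n + ((n + 1 - (j : ℕ) : ℕ) : ℤ) by omega]
      exact this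
  · have hlast : γ (Fin.rev (Fin.last (n + 1))) = α := by rw [Fin.rev_last]; exact dif_pos rfl
    have hcast : ∀ i : Fin (n + 1), γ (Fin.rev (Fin.castSucc i)) = ((-1 : ℤ) ^ ((i : ℕ) + n)) • a i := fun i => by
      have hv : ((Fin.rev (Fin.castSucc i) : Fin (n + 1 + 1)) : ℕ) = n + 1 - (i : ℕ) := by
        rw [Fin.val_rev, Fin.val_castSucc]; omega
      have hne : Fin.rev (Fin.castSucc i) ≠ 0 := fun e => by
        have := congrArg Fin.val e; rw [hv] at this; simp at this; omega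
      rw [show γ (Fin.rev (Fin.castSucc i)) = _ from dif_neg hne]
      have hi : n + 1 - ((Fin.rev (Fin.castSucc i) : Fin (n + 1 + 1)) : ℕ) = (i : ℕ) := by omega
      congr 1
      · rw [hi]
      · exact congrArg a (Fin.ext hi)
    have key : rel hdP hL hp ht γ =
        ((-1 : ℤ) ^ (n + 1)) • (cap hdP hL ht (n + 1) (pullC p hp α) - β') := by
      rw [rel, Fin.sum_univ_castSucc, hlast, hsum, smul_sub, Finset.smul_sum, Fin.val_last, sub_eq_add_neg,
        add_comm]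
      congr 1
      rw [← Finset.sum_neg_distrib]
      refine Finset.sum_congr rfl fun i _ => ?_
      rw [hcast, map_zsmul, map_zsmul, smul_smul, ← pow_add, Fin.val_castSucc, ← neg_smul]
      congr 1
      rw [pow_succ, mul_neg_one, neg_neg, show (i : ℕ) + ((i : ℕ) + n) = 2 * (i : ℕ) + n by ring, pow_add, pow_mul]
      simp
    rw [key]
    exact zsmul_mem hr _

end Groth.L22.Chern
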