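import Groth.Agent.L22.Chern.TensorFlag
import Groth.Agent.L29.DCoh.PullTensor

/-!
The first two Chern classes of a tensor product of two bundles.
-/

set_option autoImplicit false
set_option linter.style.haveILetI false
set_option linter.unusedSectionVars false
set_option backward.isDefEq.respectTransparency.types false
set_option backward.isDefEq.respectTransparency false

universe u

open CategoryTheory CategoryTheory.Limits AlgebraicGeometry TopologicalSpace

noncomputable section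

namespace Groth.L22.Chern

variable {X : Scheme.{u}} {δ : X → ℤ} [IsLocallyNoetherian X]

theorem C_tensor (hX : Cyc.IsSetup X δ) {E F : X.Modules} {r n : ℕ} (hE : FlatMod.IsFinLocFreeOfRank r E)
    (hF : FlatMod.IsFinLocFreeOfRank (n + 1) F) (hT : FlatMod.IsFinLocFreeOfRank (r * (n + 1)) (CohB1.tensorMod E F)) :
    C hX hT 1 = (r : ℤ) • C hX hF 1 + ((n + 1 : ℕ) : ℤ) • C hX hE 1 ∧
    C hX hT 2 = (r : ℤ) • C hX hF 2 + ((n + 1 : ℕ) : ℤ) • C hX hE 2 + (r.choose 2 : ℤ) • (C hX hF 1 * C hX hF 1) +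
      (((r * (n + 1) : ℕ) : ℤ) - 1) • (C hX hE 1 * C hX hF 1) + ((n + 1).choose 2 : ℤ) • (C hX hE 1 * C hX hE 1) := by
  obtain ⟨P, π, d, δP, hπ, hPs, hc, hS⟩ := exists_split 2 hX ![E, F] ![r, n + 1]
    fun i => by fin_cases i <;> assumption
  obtain ⟨lE, hlE, hfE⟩ := SubFlag.exists_flag (E := (Scheme.Modules.pullback π).obj E) (n := r) (hS 0)
  obtain ⟨lF, hlF, hfF⟩ := SubFlag.exists_flag (E := (Scheme.Modules.pullback π).obj F) (n := n + 1) (hS 1)
  haveI := hπ.proper
  haveI := hπ.flat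
  haveI := hPs.1
  have hs := Groth.L22.Cyc.shift_of_deltaCompat π hπ.relDim hc
  let θ := Groth.L29.DC.PullTensor.pullTensor π E F
  have hT' : FlatMod.IsFinLocFreeOfRank (r * (n + 1))
      (CohB1.tensorMod ((Scheme.Modules.pullback π).obj E) ((Scheme.Modules.pullback π).obj F)) := fun x => by
    obtain ⟨U, hx, ⟨i⟩⟩ := rank_pullback π hT x
    exact ⟨U, hx, ⟨(Scheme.Modules.restrictFunctor U.ι).mapIso θ ≪≫ i⟩⟩
  obtain ⟨u1, u2⟩ := hfE.C_tensor hPs (rank_pullback π hF) hfF hlF.symm (rank_pullback π hE) hT' hlE.symm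
    (by rw [hlE])
  have eT : ∀ j, C hPs (rank_pullback π hT) j = C hPs hT' j := C_congr hPs _ hT' θ.symm
  have o := fun {s : ℕ} {M : X.Modules} (h : FlatMod.IsFinLocFreeOfRank s M) (j : ℕ) =>
    over'_C π hX hPs hπ.relDim hc h j
  constructor
  · refine DFunLike.ext _ _ fun x => pb_injective_of_inj π hX hPs hπ.inj hc hs ?_
    rw [o hT 1 x, eT, u1, ((o hF 1).zsmul (r : ℤ)).add ((o hE 1).zsmul ((n + 1 : ℕ) : ℤ)) x]
  · refine DFunLike.ext _ _ fun x => pb_injective_of_inj π hX hPs hπ.inj hc hs ?_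
    rw [o hT 2 x, eT, u2,
      (((((o hF 2).zsmul (r : ℤ)).add ((o hE 2).zsmul ((n + 1 : ℕ) : ℤ))).add
        (((o hF 1).mul (o hF 1)).zsmul (r.choose 2 : ℤ))).add
        (((o hE 1).mul (o hF 1)).zsmul (((r * (n + 1) : ℕ) : ℤ) - 1))).add
        (((o hE 1).mul (o hE 1)).zsmul ((n + 1).choose 2 : ℤ)) x]

end Groth.L22.Chern
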