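import Groth.Agent.L22.Chern.CurveMain
import Groth.Agent.L22.Chern.Comm
import Groth.Agent.L22.Chern.TensorClass
import Groth.Agent.L22.Bundle.Push

/-!
Proper push-forward on total Chow groups and the operators of a projective bundle.
-/

set_option autoImplicit false
set_option linter.style.haveILetI false
set_option linter.unusedSectionVars false
set_option backward.isDefEq.respectTransparency.types false
set_option backward.isDefEq.respectTransparency false

universe u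

open CategoryTheory CategoryTheory.Limits AlgebraicGeometry TopologicalSpace

noncomputable section

namespace Groth.L22.Chern

section Comm

variable {X : Scheme.{u}} {δ : X → ℤ} [IsLocallyNoetherian X]

/-- First Chern classes commute with Chern classes. -/
theorem C_x1_comm (hX : Cyc.IsSetup X δ) {r : ℕ} {E : X.Modules} (hE : FlatMod.IsFinLocFreeOfRank r E)
    {M : X.Modules} (hM : PicF.IsInvertible M) (j : ℕ) :
    C hX hE j * x1 hX.2.2 hM = x1 hX.2.2 hM * C hX hE j := by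
  rcases Nat.lt_or_ge r j with h | h
  · simp [C_of_lt hX hE h]
  cases r with
  | zero =>
    obtain rfl : j = 0 := by omega
    simp [C_zero]
  | succ n =>
    obtain ⟨P, p, O1, q, δP, hP, hp, hc, hg⟩ := exists_cap hX hE
    haveI := hp
    have hPs := setup_of_compat p hX hc
    haveI := hPs.1
    haveI := Groth.L22.Bundle.flat_of_isProjBundle hP hE
    have hs : Shift p δP δ (n : ℤ) := Groth.L22.Bundle.delta_of_fibGen hPs.2.2 hc hP hE
    refine op_ext fun k A hA => ?_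
    obtain ⟨γ, hγ⟩ := hg k A hA
    show C hX hE j (x1 hX.2.2 hM (emb δ k A)) = x1 hX.2.2 hM (C hX hE j (emb δ k A))
    have h1 := isChernCap_capIter hX.2.2 hPs.2.2 hs (Groth.L22.Bundle.isInvertible_of_one hP.invertible)
      hM (v := fun _ => sec hM) (fun _ => sec_ne hM) hγ 1
    rw [x1_emb hX.2.2 hM (sec_ne hM) hA]
    erw [C_emb hX hE hP hc hA hγ ⟨j, by omega⟩]
    rw [x1_emb hX.2.2 hM (sec_ne hM) (hγ.2.1 ⟨j, by omega⟩)]
    have h2 := C_emb hX hE hP hc (pw_mem hX.2.2 hM (sec_ne hM) hA 1) h1 ⟨j, by omega⟩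
    erw [h2]
    rw [sub_right_comm]
    rfl

end Comm

section Push

variable {X P : Scheme.{u}} [IsLocallyNoetherian X] [IsLocallyNoetherian P] {δ : X → ℤ} {δP : P → ℤ}
  (hd : Cyc.IsDimFun X δ) (hdP : Cyc.IsDimFun P δP) (f : P ⟶ X) [IsProper f] (hc : Cyc.DeltaCompat f δP δ)

/-- Push-forward on Chow groups of one degree. -/
def pfH (k : ℤ) : ChowOps.CH P δP k →+ ChowOps.CH X δ k :=
  QuotientAddGroup.lift _
    (AddMonoidHom.mk' (fun a : ↥(ChowOps.zk P δP k) => ChowOps.cl (pushC f δP δ a.1) (pushC_mem f a.2))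
      fun a b => by
        show ChowOps.clHom X δ k _ = ChowOps.clHom X δ k _ + ChowOps.clHom X δ k _
        rw [← map_add]
        exact congrArg _ (Subtype.ext (map_add (pushC f δP δ) a.1 b.1)))
    ((AddSubgroup.closure_le _).2 fun a ha => by
      refine ((cl_eq_iff hd _ (ChowOps.zk X δ k).zero_mem).2 ?_).trans (map_zero (ChowOps.clHom X δ k))
      rw [sub_zero]
      exact pushC_rat f hdP hd hc ha)

/-- Push-forward on total Chow groups. -/
def pfT : Tot P δP →+ Tot X δ :=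
  DirectSum.toAddMonoid fun k => (DirectSum.of (fun k => ChowOps.CH X δ k) k).comp (pfH hd hdP f hc k)

theorem pfT_emb {k : ℤ} {A : AlgebraicCycle P ℤ} (hA : A ∈ Cyc.Zk P δP k) :
    pfT hd hdP f hc (emb δP k A) = emb δ k (pushC f δP δ A) := by
  rw [emb_def hA, emb_def (pushC_mem f hA), pfT]
  exact DirectSum.toAddMonoid_of _ _ _

end Push

theorem pfT_C {X P : Scheme.{u}} [IsLocallyNoetherian X] [IsLocallyNoetherian P] {δ : X → ℤ} {δP : P → ℤ}
    (hX : Cyc.IsSetup X δ) (hP : Cyc.IsSetup P δP) (f : P ⟶ X) [IsProper f] (hc : Cyc.DeltaCompat f δP δ)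
    {r : ℕ} {E : X.Modules} (hE : FlatMod.IsFinLocFreeOfRank r E) (j : ℕ) (y : Tot P δP) :
    C hX hE j (pfT hX.2.2 hP.2.2 f hc y) = pfT hX.2.2 hP.2.2 f hc (C hP (rank_pullback f hE) j y) := by
  refine DFunLike.congr_fun (op_ext (T := AddMonoidHom.comp (C hX hE j) (pfT hX.2.2 hP.2.2 f hc))
    (T' := AddMonoidHom.comp (pfT hX.2.2 hP.2.2 f hc) (C hP (rank_pullback f hE) j)) fun k A hA => ?_) y
  show C hX hE j (pfT hX.2.2 hP.2.2 f hc (emb δP k A)) = pfT hX.2.2 hP.2.2 f hc (C hP _ j (emb δP k A))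
  obtain ⟨B, hB, e1, e2⟩ := C_emb_push hX hP f hc hE hA j
  rw [pfT_emb _ _ f hc hA, e1, e2, pfT_emb _ _ f hc hB]

section Bundle

variable {X P : Scheme.{u}} [IsLocallyNoetherian X] [IsLocallyNoetherian P] {δ : X → ℤ} {δP : P → ℤ}
  {p : P ⟶ X} [IsProper p] [Flat p] {E : X.Modules} {O1 : P.Modules}
  {q : (Scheme.Modules.pullback p).obj E ⟶ O1} {n : ℕ} (hX : Cyc.IsSetup X δ) (hPs : Cyc.IsSetup P δP)
  (hc : Cyc.DeltaCompat p δP δ) (hPB : KRR.IsProjBundle p E O1 q)
  (hE : FlatMod.IsFinLocFreeOfRank (n + 1) E) (hL : PicF.IsInvertible O1) (hs : Shift p δP δ (n : ℤ))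

/-- Pull back, cap with a power of the tautological class, push forward. -/
def seg (N : ℕ) : Op X δ :=
  (pfT hX.2.2 hPs.2.2 p hc).comp (AddMonoidHom.comp (x1 hPs.2.2 hL ^ N) (pb hX.2.2 hPs.2.2 p hs))

theorem seg_apply (N : ℕ) (x : Tot X δ) :
    seg hX hPs hc hL hs N x = pfT hX.2.2 hPs.2.2 p hc ((x1 hPs.2.2 hL ^ N) (pb hX.2.2 hPs.2.2 p hs x)) := rfl

theorem seg_emb {t : ℕ → (ξ : P) → Cyc.secFibre O1 ξ} (ht : ∀ m ξ, t m ξ ≠ 0) (N : ℕ) {k : ℤ}
    {A : AlgebraicCycle X ℤ} (hA : A ∈ Cyc.Zk X δ k) :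
    seg hX hPs hc hL hs N (emb δ k A) =
      emb δ (k + n - N) (pushC p δP δ (cap hPs.2.2 hL ht N (pullC p hs A))) := by
  have hA' := pullC_mem p hs hA
  rw [seg_apply, pb_emb _ _ p hs hA, x1_pow_emb hPs hL hA' N]
  have m1 : cap hPs.2.2 hL ht N (pullC p hs A) ∈ Cyc.Zk P δP (k + n - N) := cap_mem hPs.2.2 hL ht hA' N
  rw [emb_eq hPs.2.2 (pw_mem hPs.2.2 hL (sec_ne hL) hA' N) m1
    (cap_change hPs.2.2 hL (t := fun _ => sec hL) (fun _ => sec_ne hL) ht hA' N), pfT_emb _ _ p hc m1]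

include hPB hE in
theorem seg_low {N : ℕ} (hN : N ≤ n) : seg hX hPs hc hL hs N = if N = n then 1 else 0 := by
  obtain ⟨t, ht⟩ := exists_secs hL
  refine op_ext fun k A hA => ?_
  rw [seg_emb hX hPs hc hL hs ht N hA]
  have hpt := Groth.L22.Bundle.map_c1Pow hPB hE hX.2.2 hPs.2.2 hc hL k A hA t ht N hN
    (cap hPs.2.2 hL ht N (pullC p hs A)) (by rw [cap_coe, pullC_coe])
  by_cases h : N = n
  · subst h
    rw [if_pos rfl, add_sub_cancel_right]
    have e : pushC p δP δ (cap hPs.2.2 hL ht N (pullC p hs A)) = A :=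
      Function.locallyFinsuppWithin.ext fun x => by rw [pushC_eq, hpt x, if_pos rfl]
    rw [e]; rfl
  · rw [if_neg h]
    have e : pushC p δP δ (cap hPs.2.2 hL ht N (pullC p hs A)) = 0 :=
      Function.locallyFinsuppWithin.ext fun x => by rw [pushC_eq, hpt x, if_neg h]; rfl
    rw [e, emb_zero]; rfl

include hc hPB in
/-- The relation of the tautological class. -/
theorem rel_zero (x : Tot X δ) :
    ∑ l : Fin (n + 1 + 1), ((-1 : ℤ) ^ (l : ℕ)) •
      (x1 hPs.2.2 hL ^ (l : ℕ)) (pb hX.2.2 hPs.2.2 p hs (C hX hE ((Fin.rev l : Fin (n + 1 + 1)) : ℕ) x)) = 0 := by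
  induction x using DirectSum.induction_on with
  | zero => simp
  | add a b ha hb =>
    simp only [map_add, smul_add, Finset.sum_add_distrib, ha, hb, add_zero]
  | of k z =>
    obtain ⟨⟨A, hA⟩, rfl⟩ := QuotientAddGroup.mk'_surjective (ChowOps.ratTriv X δ k) z
    have he : emb δ k A = DirectSum.of (fun k => ChowOps.CH X δ k) k
        (QuotientAddGroup.mk' (ChowOps.ratTriv X δ k) ⟨A, hA⟩) := emb_def hA
    rw [← he]
    obtain ⟨γ, hγ⟩ := exists_chern hX.2.2 hPs.2.2 hc hL hs hPB hE hA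
    have ht : ∀ (m : ℕ) ξ, (fun _ : ℕ => sec hL) m ξ ≠ 0 := fun _ => sec_ne hL
    obtain ⟨a0, a1, a2⟩ := (isChernCap_iff hPs.2.2 hL hs).1 hγ
    have m1 : ∀ l : Fin (n + 1 + 1), cap hPs.2.2 hL ht (l : ℕ) (pullC p hs (γ (Fin.rev l))) ∈ Cyc.Zk P δP (k - 1) :=
      fun l => by
        have := cap_mem hPs.2.2 hL ht (term_mem hs a1 l) (l : ℕ)
        rwa [show k - 1 + ((l : ℕ) : ℤ) - ((l : ℕ) : ℤ) = k - 1 by ring] at this
    have e : ∀ l : Fin (n + 1 + 1), (x1 hPs.2.2 hL ^ (l : ℕ)) (pb hX.2.2 hPs.2.2 p hs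
        (C hX hE ((Fin.rev l : Fin (n + 1 + 1)) : ℕ) (emb δ k A))) =
        emb δP (k - 1) (cap hPs.2.2 hL ht (l : ℕ) (pullC p hs (γ (Fin.rev l)))) := fun l => by
      rw [C_emb hX hE hPB hc hA hγ (Fin.rev l), pb_emb _ _ p hs (a1 (Fin.rev l)),
        x1_pow_emb hPs hL (pullC_mem p hs (a1 (Fin.rev l))) (l : ℕ),
        show k - ((Fin.rev l : Fin (n + 1 + 1)) : ℤ) + n - ((l : ℕ) : ℤ) = k - 1 by rw [rev_cast]; ring]
      rfl
    simp only [e]
    have h := a2 (fun _ => sec hL) ht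
    have hr : (∑ l : Fin (n + 1 + 1), ((-1 : ℤ) ^ (l : ℕ)) •
        emb δP (k - 1) (cap hPs.2.2 hL ht (l : ℕ) (pullC p hs (γ (Fin.rev l))))) =
        emb δP (k - 1) (rel hPs.2.2 hL hs ht γ) := by
      rw [rel, emb_sum _ fun l _ => (ChowOps.zk P δP (k - 1)).zsmul_mem (m1 l) _]
      exact Finset.sum_congr rfl fun l _ => (emb_zsmul _ (m1 l)).symm
    rw [hr, ← emb_zero (δ := δP) (k - 1)]
    refine emb_eq hPs.2.2 ?_ (ChowOps.zk P δP (k - 1)).zero_mem (by rw [sub_zero]; exact h)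
    exact (ChowOps.zk P δP (k - 1)).sum_mem fun l _ => (ChowOps.zk P δP (k - 1)).zsmul_mem (m1 l) _

theorem C_seg {d : ℕ} (hr : Cyc.HasRelDim p d) (hdn : d = n) {r : ℕ} {F : X.Modules}
    (hF : FlatMod.IsFinLocFreeOfRank r F) (j N : ℕ) (x : Tot X δ) :
    C hX hF j (seg hX hPs hc hL hs N x) = seg hX hPs hc hL hs N (C hX hF j x) := by
  subst hdn
  rw [seg_apply, seg_apply, pfT_C hX hPs p hc hF j]
  have hcomm : ∀ N : ℕ, C hPs (rank_pullback p hF) j * x1 hPs.2.2 hL ^ N =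
      x1 hPs.2.2 hL ^ N * C hPs (rank_pullback p hF) j := fun N =>
    (Commute.pow_right (show Commute _ _ from C_x1_comm hPs (rank_pullback p hF) hL j) N).eq
  have h := over'_C p hX hPs hr hc hF j x
  rw [h]
  exact congrArg _ (DFunLike.congr_fun (hcomm N) _)

include hPB in
/-- The pushed relation. -/
theorem seg_rel {m : ℕ} (hm : 1 ≤ m) (x : Tot X δ) :
    ∑ i ∈ Finset.range (m + 1), ((-1 : ℤ) ^ i) • seg hX hPs hc hL hs (n + i) (C hX hE (m - i) x) = 0 := by
  have h := congrArg (fun y => pfT hX.2.2 hPs.2.2 p hc ((x1 hPs.2.2 hL ^ (m - 1)) y))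
    (rel_zero hX hPs hc hPB hE hL hs x)
  simp only [map_sum, map_zsmul, map_zero] at h
  let g : ℕ → Tot X δ := fun l => ((-1 : ℤ) ^ l) • seg hX hPs hc hL hs (m - 1 + l) (C hX hE (n + 1 - l) x)
  have h' : ∑ l ∈ Finset.range (n + 1 + 1), g l = 0 := by
    rw [← Fin.sum_univ_eq_sum_range]
    refine Eq.trans (Finset.sum_congr rfl fun l _ => ?_) h
    show _ • seg hX hPs hc hL hs _ _ = _
    rw [seg_apply, pow_add, show ((Fin.rev l : Fin (n + 1 + 1)) : ℕ) = n + 1 - (l : ℕ) by rw [Fin.val_rev]; omega]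
    rfl
  have hz : ∀ l, m - 1 + l < n → g l = 0 := fun l hl => by
    show _ • seg hX hPs hc hL hs _ _ = _
    rw [seg_low hX hPs hc hPB hE hL hs hl.le, if_neg hl.ne]
    simp
  have hz' : ∀ i, n + 1 < m - i →
      ((-1 : ℤ) ^ i) • seg hX hPs hc hL hs (n + i) (C hX hE (m - i) x) = 0 := fun i hi => by
    rw [C_of_lt hX hE hi]
    show _ • seg hX hPs hc hL hs (n + i) (0 : Tot X δ) = 0
    rw [map_zero, smul_zero]
  rw [← Finset.sum_filter_add_sum_filter_not (Finset.range (m + 1)) (fun i => m - i ≤ n + 1),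
    Finset.sum_eq_zero (s := (Finset.range (m + 1)).filter fun i => ¬ m - i ≤ n + 1)
      fun i hi => hz' i (not_le.1 (Finset.mem_filter.1 hi).2), add_zero]
  rw [← Finset.sum_filter_add_sum_filter_not (Finset.range (n + 1 + 1)) (fun l => n + 1 ≤ m + l),
    Finset.sum_eq_zero (s := (Finset.range (n + 1 + 1)).filter fun l => ¬ n + 1 ≤ m + l)
      fun l hl => hz l (by have := (Finset.mem_filter.1 hl).2; omega), add_zero] at h'
  have key : ∑ i ∈ (Finset.range (m + 1)).filter (fun i => m - i ≤ n + 1),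
      ((-1 : ℤ) ^ i) • seg hX hPs hc hL hs (n + i) (C hX hE (m - i) x) =
      ((-1 : ℤ) ^ (n + 1 + m)) • ∑ l ∈ (Finset.range (n + 1 + 1)).filter (fun l => n + 1 ≤ m + l), g l := by
    rw [Finset.smul_sum]
    refine Finset.sum_nbij' (fun i => n + 1 + i - m) (fun l => m + l - (n + 1)) ?_ ?_ ?_ ?_ ?_
    · intro i hi; simp only [Finset.mem_filter, Finset.mem_range, Finset.mem_coe] at hi ⊢; omega
    · intro l hl; simp only [Finset.mem_filter, Finset.mem_range, Finset.mem_coe] at hl ⊢; omega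
    · intro i hi; simp only [Finset.mem_filter, Finset.mem_range, Finset.mem_coe] at hi; omega
    · intro l hl; simp only [Finset.mem_filter, Finset.mem_range, Finset.mem_coe] at hl; omega
    · intro i hi
      simp only [Finset.mem_filter, Finset.mem_range] at hi
      show _ = _ • (_ • seg hX hPs hc hL hs _ _)
      rw [smul_smul, ← pow_add, show n + 1 + m + (n + 1 + i - m) = i + 2 * (n + 1) by omega, pow_add, pow_mul,
        neg_one_sq, one_pow, mul_one, show m - 1 + (n + 1 + i - m) = n + i by omega,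
        show n + 1 - (n + 1 + i - m) = m - i by omega]
  rw [key, h', smul_zero]

end Bundle

end Groth.L22.Chern
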