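import Groth.Agent.L22.Chern.Gysin
import Groth.Agent.L22.Bundle.Sub

/-!
Chern class caps of an extension of a module by the structure sheaf.
-/

set_option autoImplicit false
set_option linter.style.haveILetI false
set_option backward.isDefEq.respectTransparency.types false
set_option backward.isDefEq.respectTransparency false

universe u

open CategoryTheory CategoryTheory.Limits AlgebraicGeometry TopologicalSpace Opposite

noncomputable section

namespace Groth.L22.Chern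

variable {X P Q : Scheme.{u}} {E F : X.Modules} {p : P ⟶ X} {p' : Q ⟶ X} {O1 : P.Modules} {O1' : Q.Modules}
  {q : (Scheme.Modules.pullback p).obj E ⟶ O1} {q' : (Scheme.Modules.pullback p').obj F ⟶ O1'}
  (hP : KRR.IsProjBundle p E O1 q) (hQ : KRR.IsProjBundle p' F O1' q')
  (a : Coh.structureModule X ⟶ E) (b : E ⟶ F) (hab : a ≫ b = 0) (hex : (ShortComplex.mk a b hab).ShortExact)

theorem cap_comp_one [IsLocallyNoetherian X] {δ : X → ℤ} (hδ : Cyc.IsDimFun X δ) {L : X.Modules}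
    (hL : PicF.IsInvertible L) {v : (ξ : X) → Cyc.secFibre L ξ} (hv : ∀ ξ, v ξ ≠ 0) (m : ℕ)
    (A : AlgebraicCycle X ℤ) :
    cap hδ hL (t := fun _ => v) (fun _ => hv) m (cap hδ hL (t := fun _ => v) (fun _ => hv) 1 A) =
      cap hδ hL (t := fun _ => v) (fun _ => hv) (m + 1) A := by
  induction m with
  | zero => rw [cap_zero]
  | succ m ih =>
    rw [← cap_step hδ hL (t := fun _ => v) (fun _ => hv) m, ← cap_step hδ hL (t := fun _ => v) (fun _ => hv) (m + 1), ih]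

include hP hQ hex in
/-- Padding with zero: the caps of `F` are caps of `E` for `0 → O → E → F → 0`. -/
theorem isChernCap_snoc {n : ℕ} (hE : FlatMod.IsFinLocFreeOfRank (n + 1 + 1) E)
    (hF : FlatMod.IsFinLocFreeOfRank (n + 1) F) [IsProper p] [IsProper p'] {δ : X → ℤ} {δP : P → ℤ} {δQ : Q → ℤ}
    (hX : Cyc.IsSetup X δ) (hPs : Cyc.IsSetup P δP) (hQs : Cyc.IsSetup Q δQ)
    (hδ : Cyc.DeltaCompat p δP δ) (hδ' : Cyc.DeltaCompat p' δQ δ) {k : ℤ} {α : AlgebraicCycle X ℤ}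
    {γ' : Fin (n + 1 + 1) → AlgebraicCycle X ℤ} (hγ' : Cyc.IsChernCap p' δ δQ O1' (n + 1) k α γ') :
    Cyc.IsChernCap p δ δP O1 (n + 1 + 1) k α (Fin.snoc γ' (0 : AlgebraicCycle X ℤ)) := by
  haveI := hX.1
  haveI := hPs.1
  haveI := hQs.1
  haveI : IsClosedImmersion (Groth.L22.Bundle.subMap hP hQ a b hab hex) :=
    Groth.L22.Bundle.isClosedImmersion_subMap hP hQ a b hab hex hE hF
  haveI := Groth.L22.Bundle.flat_of_isProjBundle hP hE
  haveI := Groth.L22.Bundle.flat_of_isProjBundle hQ hF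
  have hL := Groth.L22.Bundle.isInvertible_of_one hP.invertible
  have hLQ := Groth.L22.Bundle.isInvertible_of_one hQ.invertible
  have hp : Shift p δP δ (((n + 1 : ℕ)) : ℤ) := Groth.L22.Bundle.delta_of_fibGen hPs.2.2 hδ hP hE
  have hp' : Shift p' δQ δ (n : ℤ) := Groth.L22.Bundle.delta_of_fibGen hQs.2.2 hδ' hQ hF
  have hr : Cyc.HasRelDim p (n + 1) := Groth.L22.Cyc.hasRelDim_of_rtrdeg p fun z hz => by
    obtain ⟨j, hj, e⟩ := hδ z
    have h := hp z hz
    rw [show Groth.L22.Cyc.rtrdeg p z = (j : Cardinal.{u}) from hj, show j = n + 1 by omega]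
  have hr' : Cyc.HasRelDim p' n := Groth.L22.Cyc.hasRelDim_of_rtrdeg p' fun z hz => by
    obtain ⟨j, hj, e⟩ := hδ' z
    have h := hp' z hz
    rw [show Groth.L22.Cyc.rtrdeg p' z = (j : Cardinal.{u}) from hj, show j = n by omega]
  have hF' : FlatMod.IsFinLocFree F := fun x => ⟨(hF x).choose, n + 1, (hF x).choose_spec.1, (hF x).choose_spec.2⟩
  set i := Groth.L22.Bundle.subMap hP hQ a b hab hex with hi
  have hip : i ≫ p = p' := Groth.L22.Bundle.subMap_comp hP hQ a b hab hex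
  have hicomp : Cyc.DeltaCompat i δQ δP := by
    obtain rfl : δQ = fun d => δP (i d) := Groth.L22.Bundle.delta_unique hδ'
      (Groth.L22.Cyc.deltaCompat_square p i (𝟙 X) p' hδ ((Category.comp_id _).trans hip.symm))
    exact Groth.L22.C1.deltaCompat_closedImmersion i δP
  obtain ⟨e⟩ := Groth.L22.Bundle.nonempty_subMapIso hP hQ a b hab hex
  have hLc := Groth.L18.Ample.isInvertible_pullback i hL
  obtain ⟨a0, a1, a2⟩ := (isChernCap_iff hQs.2.2 hLc hp').1 (isChernCap_iso hQs.2.2 hp' e.symm hLQ hLc hγ')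
  obtain ⟨w, hw⟩ := exists_secs hL
  obtain ⟨t', ht'⟩ := exists_secs hLc
  let v := Cyc.gysinChoice O1 (Groth.L22.Bundle.secA p q a) (w 0)
  have hv : ∀ ξ, v ξ ≠ 0 := Groth.L22.C1.gysinChoice_ne_zero _ (w 0) (hw 0)
  have hm : ∀ j : Fin (n + 1 + 1 + 1), Fin.snoc (α := fun _ => AlgebraicCycle X ℤ) γ' 0 j ∈
      Cyc.Zk X δ (k - ((j : ℕ) : ℤ)) := fun j => by
    refine Fin.lastCases ?_ (fun j => ?_) j
    · rw [Fin.snoc_last]; exact fun _ _ => rfl
    · rw [Fin.snoc_castSucc]; exact a1 j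
  refine isChernCap_of_one hPs.2.2 hL hp (t := fun _ => v) (fun _ => hv)
    (by rw [← Fin.castSucc_zero, Fin.snoc_castSucc, a0]) hm ?_
  rw [rel, Fin.sum_univ_succ, Fin.rev_zero, Fin.snoc_last, map_zero, map_zero, smul_zero, zero_add]
  simp only [Fin.val_succ, Fin.rev_succ, Fin.snoc_castSucc]
  have hterm : ∀ j : Fin (n + 1 + 1),
      cap hPs.2.2 hL (t := fun _ => v) (fun _ => hv) ((j : ℕ) + 1) (pullC p hp (γ' (Fin.rev j))) -
        pushC i δQ δP (cap hQs.2.2 hLc ht' (j : ℕ) (pullC p' hp' (γ' (Fin.rev j)))) ∈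
          ratGroup hPs.2.2 (k - 1) := fun j => by
    rw [← cap_comp_one hPs.2.2 hL hv (j : ℕ), ← Groth.L22.Bundle.pushC_pullC hP hQ a b hab hex hX hPs hδ hδ' hr hr'
      (by push_cast; rfl) hp hp' hF' (hw 0) (a1 (Fin.rev j))]
    have h := cap_pushC hQs.2.2 hPs.2.2 hL i hicomp (t := fun _ => v) (fun _ => hv) ht' (term_mem hp' a1 j) (j : ℕ)
    rw [show k - 1 + ((j : ℕ) : ℤ) - ((j : ℕ) : ℤ) = k - 1 by ring] at h
    exact neg_sub (pushC i δQ δP _) _ ▸ neg_mem h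
  have hsum : ∑ j : Fin (n + 1 + 1), ((-1 : ℤ) ^ ((j : ℕ) + 1)) •
      pushC i δQ δP (cap hQs.2.2 hLc ht' (j : ℕ) (pullC p' hp' (γ' (Fin.rev j)))) =
      -pushC i δQ δP (rel hQs.2.2 hLc hp' ht' γ') := by
    simp [rel, map_sum, map_zsmul, pow_succ, Finset.sum_neg_distrib]
  have h1 := sum_mem (S := ratGroup hPs.2.2 (k - 1)) fun j (_ : j ∈ Finset.univ) =>
    zsmul_mem (hterm j) ((-1 : ℤ) ^ ((j : ℕ) + 1))
  simp only [smul_sub, Finset.sum_sub_distrib, hsum] at h1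
  simpa using sub_mem h1 (pushC_rat i hQs.2.2 hPs.2.2 hicomp (a2 t' ht'))

end Groth.L22.Chern

namespace Groth.L22.Chern

theorem isEmpty_of_rank_zero {X Q : Scheme.{u}} {F : X.Modules} {p' : Q ⟶ X} {O1' : Q.Modules}
    {q' : (Scheme.Modules.pullback p').obj F ⟶ O1'} (hQ : KRR.IsProjBundle p' F O1' q')
    (hF : FlatMod.IsFinLocFreeOfRank 0 F) : IsEmpty Q := ⟨fun y => by
  haveI := hQ.epi
  obtain ⟨U, hyU, ⟨e⟩⟩ := hF (p' y)
  obtain ⟨s, hs⟩ := Groth.L17.FinLocBases.exists_isBasis F e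
  have hU : U.ι ''ᵁ ⊤ = U := (Scheme.Hom.image_top_eq_opensRange U.ι).trans U.opensRange_ι
  obtain ⟨l, -⟩ := Groth.L19.ProjBdl.exists_mem_locus p' q' _ hQ.invertible
    (Groth.L19.ProjBdl.isBasisOn_of_locBases hs) (show y ∈ p' ⁻¹ᵁ (U.ι ''ᵁ ⊤) from hU.ge hyU)
  exact l.elim0⟩

variable {X P Q : Scheme.{u}} {E F : X.Modules} {p : P ⟶ X} {p' : Q ⟶ X} {O1 : P.Modules} {O1' : Q.Modules}
  {q : (Scheme.Modules.pullback p).obj E ⟶ O1} {q' : (Scheme.Modules.pullback p').obj F ⟶ O1'}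
  (hP : KRR.IsProjBundle p E O1 q) (hQ : KRR.IsProjBundle p' F O1' q')
  (a : Coh.structureModule X ⟶ E) (b : E ⟶ F) (hab : a ≫ b = 0) (hex : (ShortComplex.mk a b hab).ShortExact)

include hP hQ hex in
theorem isChernCap_snoc_zero (hE : FlatMod.IsFinLocFreeOfRank (0 + 1) E) (hF : FlatMod.IsFinLocFreeOfRank 0 F)
    [IsProper p] {δ : X → ℤ} {δP : P → ℤ} (hX : Cyc.IsSetup X δ) (hPs : Cyc.IsSetup P δP)
    (hδ : Cyc.DeltaCompat p δP δ) {k : ℤ} {α : AlgebraicCycle X ℤ} (hα : α ∈ Cyc.Zk X δ k) :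
    Cyc.IsChernCap p δ δP O1 (0 + 1) k α
      (Fin.snoc (fun _ : Fin (0 + 1) => α) (0 : AlgebraicCycle X ℤ)) := by
  haveI := hX.1
  haveI := hPs.1
  haveI : IsClosedImmersion (Groth.L22.Bundle.subMap hP hQ a b hab hex) :=
    Groth.L22.Bundle.isClosedImmersion_subMap hP hQ a b hab hex hE hF
  haveI := isEmpty_of_rank_zero hQ hF
  have hL := Groth.L22.Bundle.isInvertible_of_one hP.invertible
  have hp : Shift p δP δ (((0 : ℕ)) : ℤ) := Groth.L22.Bundle.delta_of_fibGen hPs.2.2 hδ hP hE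
  obtain ⟨w, hw⟩ := exists_secs hL
  have hv : ∀ ξ, Cyc.gysinChoice O1 (Groth.L22.Bundle.secA p q a) (w 0) ξ ≠ 0 :=
    Groth.L22.C1.gysinChoice_ne_zero _ (w 0) (hw 0)
  refine isChernCap_of_one hPs.2.2 hL hp
    (t := fun _ => Cyc.gysinChoice O1 (Groth.L22.Bundle.secA p q a) (w 0)) (fun _ => hv)
    (by rw [← Fin.castSucc_zero, Fin.snoc_castSucc]) (fun j => ?_) ?_
  · refine Fin.lastCases ?_ (fun j => ?_) j
    · rw [Fin.snoc_last]; exact fun _ _ => rfl
    · rw [Fin.snoc_castSucc, Fin.val_castSucc, Fin.fin_one_eq_zero j, Fin.val_zero, Nat.cast_zero, sub_zero]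
      exact hα
  · rw [rel, Fin.sum_univ_succ, Fin.rev_zero, Fin.snoc_last, map_zero, map_zero, smul_zero, zero_add]
    refine sum_mem fun j _ => zsmul_mem ?_ _
    convert (ratGroup hPs.2.2 (k - 1)).zero_mem
    refine Function.locallyFinsuppWithin.ext fun x => ?_
    rw [Fin.fin_one_eq_zero j, show ((Fin.succ (0 : Fin 1) : Fin (0 + 1 + 1)) : ℕ) = 0 + 1 from rfl, cap_succ, cap_zero]
    show Cyc.c1CapFun _ _ _ _ x = 0
    refine finsum_eq_zero_of_forall_eq_zero fun ξ => ?_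
    rw [Groth.L22.C1.secDivFun_gysin_eq_zero (Groth.L22.Bundle.secA p q a) (Groth.L22.Bundle.subMap hP hQ a b hab hex)
      hPs.2.2 hL (Groth.L22.Bundle.isZeroSchemeOf_subMap hP hQ a b hab hex) (w 0) ξ
      (fun ⟨d, _⟩ => isEmptyElim d), mul_zero]

end Groth.L22.Chern
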