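import Groth.Agent.L22.Chern.SplitTower

/-!
The splitting principle.
-/

set_option autoImplicit false
set_option linter.style.haveILetI false
set_option linter.unusedSectionVars false
set_option backward.isDefEq.respectTransparency.types false
set_option backward.isDefEq.respectTransparency false

universe u

open CategoryTheory CategoryTheory.Limits AlgebraicGeometry TopologicalSpace

noncomputable section

namespace Groth.L22.Chern

variable {X P : Scheme.{u}} {δ : X → ℤ}

/-- A module with a chain of submodules with invertible quotients. -/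
inductive SubFlag : X.Modules → ℕ → Prop
  | zero {E : X.Modules} : IsZero E → SubFlag E 0
  | succ {K E L : X.Modules} {n : ℕ} (a : K ⟶ E) (b : E ⟶ L) (hab : a ≫ b = 0)
      (hex : (ShortComplex.mk a b hab).ShortExact) (hL : PicF.IsInvertible L) : SubFlag K n → SubFlag E (n + 1)

theorem SubFlag.congr {E E' : X.Modules} {n : ℕ} (h : SubFlag E n) (θ : E ≅ E') : SubFlag E' n := by
  cases h with
  | zero hz => exact .zero (hz.of_iso θ.symm)
  | @succ K _ L n a b hab hex hL hK =>
    refine .succ (a ≫ θ.hom) (θ.inv ≫ b) (by simp [hab]) ?_ hL hK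
    exact ShortComplex.shortExact_of_iso (ShortComplex.isoMk (S₁ := ShortComplex.mk a b hab)
      (Iso.refl _) θ (Iso.refl _) (by simp) (by simp)) hex

theorem SubFlag.map {E : X.Modules} {n : ℕ} (h : SubFlag E n) (g : P ⟶ X) :
    SubFlag ((Scheme.Modules.pullback g).obj E) n := by
  induction h with
  | zero hz => exact .zero ((Scheme.Modules.pullback g).map_isZero hz)
  | @succ K E L n a b hab hex hL hK ih =>
    exact .succ ((Scheme.Modules.pullback g).map a) ((Scheme.Modules.pullback g).map b)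
      (by rw [← Functor.map_comp, hab, Functor.map_zero])
      (Groth.L03.VBPn.shortExact_pullback_of_invertible hex hL g) (Groth.L18.Ample.isInvertible_pullback g hL) ih

/-- The chain. -/
theorem SubFlag.exists_chain {E : X.Modules} {n : ℕ} (h : SubFlag E n) :
    ∃ (M : Fin (n + 1) → X.Modules) (L : Fin n → X.Modules) (a : ∀ j : Fin n, M (Fin.castSucc j) ⟶ M (Fin.succ j))
      (b : ∀ j : Fin n, M (Fin.succ j) ⟶ L j), IsZero (M 0) ∧ Nonempty (M (Fin.last n) ≅ E) ∧
      (∀ j, PicF.IsInvertible (L j)) ∧ ∀ j, ∃ hj : a j ≫ b j = 0, (ShortComplex.mk (a j) (b j) hj).ShortExact := by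
  induction h with
  | @zero E hz => exact ⟨fun _ => E, fun j => j.elim0, fun j => j.elim0, fun j => j.elim0, hz, ⟨Iso.refl _⟩,
      fun j => j.elim0, fun j => j.elim0⟩
  | @succ K E L n a b hab hex hL hK ih =>
    obtain ⟨M, Ls, as, bs, h0, ⟨e⟩, hLs, hexs⟩ := ih
    let M' : Fin (n + 1 + 1) → X.Modules := Fin.snoc M E
    let L' : Fin (n + 1) → X.Modules := Fin.snoc Ls L
    have eC : ∀ j : Fin (n + 1), M' (Fin.castSucc j) = M j := fun j => Fin.snoc_castSucc ..
    have eL : M' (Fin.last (n + 1)) = E := Fin.snoc_last ..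
    have lC : ∀ j : Fin n, L' (Fin.castSucc j) = Ls j := fun j => Fin.snoc_castSucc ..
    have lL : L' (Fin.last n) = L := Fin.snoc_last ..
    have eS : ∀ j : Fin n, M' (Fin.succ (Fin.castSucc j)) = M (Fin.succ j) := fun j => by
      rw [Fin.succ_castSucc]; exact eC _
    have eSL : M' (Fin.succ (Fin.last n)) = E := by rw [Fin.succ_last]; exact eL
    refine ⟨M', L',
      fun j => Fin.lastCases (motive := fun j => M' (Fin.castSucc j) ⟶ M' (Fin.succ j))
        (eqToHom (eC _) ≫ e.hom ≫ a ≫ eqToHom eSL.symm)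
        (fun i => eqToHom (eC _) ≫ as i ≫ eqToHom (eS i).symm) j,
      fun j => Fin.lastCases (motive := fun j => M' (Fin.succ j) ⟶ L' j)
        (eqToHom eSL ≫ b ≫ eqToHom lL.symm)
        (fun i => eqToHom (eS i) ≫ bs i ≫ eqToHom (lC i).symm) j,
      ?_, ⟨eqToIso eL⟩, fun j => ?_, fun j => ?_⟩
    · exact h0.of_iso (eqToIso (eC 0))
    · refine Fin.lastCases ?_ (fun i => ?_) j
      · rw [lL]; exact hL
      · rw [lC]; exact hLs i
    · refine Fin.lastCases ?_ (fun i => ?_) j
      · simp only [Fin.lastCases_last]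
        refine ⟨by simp [reassoc_of% hab], ?_⟩
        exact ShortComplex.shortExact_of_iso (ShortComplex.isoMk (S₁ := ShortComplex.mk a b hab)
          (e.symm ≪≫ eqToIso (eC _).symm) (eqToIso eSL.symm) (eqToIso lL.symm) (by simp) (by simp)) hex
      · simp only [Fin.lastCases_castSucc]
        obtain ⟨hj, hej⟩ := hexs i
        refine ⟨by simp [reassoc_of% hj], ?_⟩
        exact ShortComplex.shortExact_of_iso (ShortComplex.isoMk (S₁ := ShortComplex.mk (as i) (bs i) hj)
          (eqToIso (eC _).symm) (eqToIso (eS i).symm) (eqToIso (lC i).symm) (by simp) (by simp)) hej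

/-- A filtered module has a flag. -/
theorem SubFlag.exists_flag {E : X.Modules} {n : ℕ} (h : SubFlag E n) :
    ∃ ls : List X.Modules, ls.length = n ∧ Flag E ls := by
  obtain ⟨M, L, a, b, h0, ⟨e⟩, hL, hex⟩ := h.exists_chain
  choose hab hex using hex
  exact ⟨List.ofFn L, List.length_ofFn, Flag.of_chain M h0 e L hL a b hab hex⟩

/-- A single module splits. -/
theorem exists_split_one : ∀ (r : ℕ) {X : Scheme.{u}} {δ : X → ℤ} (_ : Cyc.IsSetup X δ) {E : X.Modules},
    FlatMod.IsFinLocFreeOfRank r E → ∃ (P : Scheme.{u}) (π : P ⟶ X) (d : ℕ) (δP : P → ℤ), IsSplitMor δ π d ∧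
      Cyc.IsSetup P δP ∧ Cyc.DeltaCompat π δP δ ∧ SubFlag ((Scheme.Modules.pullback π).obj E) r := by
  intro r
  induction r with
  | zero =>
    intro X δ hX E hE
    exact ⟨X, 𝟙 X, 0, δ, isSplitMor_id hX, hX, Bivar.deltaCompat_id δ,
      (SubFlag.zero (Groth.L12.Kvb.isZero_of_rank_zero hE)).map _⟩
  | succ n ih =>
    intro X δ hX E hE
    obtain ⟨P, p, O1, q, hP, hp⟩ := exists_bundle hE
    haveI := hp
    obtain ⟨δP, hPs, hc⟩ := Groth.L22.Cyc.exists_setup p hX
    have hK : FlatMod.IsFinLocFreeOfRank n (Groth.L12.KBun.tautSC q).X₁ :=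
      rank_left (Groth.L12.KBun.shortExact_tautSC hP) (Groth.L12.KBun.isFinLocFree_taut hP hE)
        (rank_pullback p hE) hP.invertible
    obtain ⟨R, ρ, e, δR, hρ, hRs, hc', hF⟩ := ih hPs hK
    haveI := hρ.proper
    refine ⟨R, ρ ≫ p, e + n, δR, isSplitMor_comp hX (isSplitMor_bundle hX hE hP) hc hρ, hRs,
      deltaCompat_trans ρ p hc' hc, ?_⟩
    have hO := Groth.L22.Bundle.isInvertible_of_one hP.invertible
    refine SubFlag.congr ?_ ((Scheme.Modules.pullbackComp ρ p).app E)
    exact .succ _ _ _ (Groth.L03.VBPn.shortExact_pullback_of_invertible (Groth.L12.KBun.shortExact_tautSC hP) hO ρ)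
      (Groth.L18.Ample.isInvertible_pullback ρ hO) hF

/-- Finitely many modules split simultaneously. -/
theorem exists_split : ∀ (m : ℕ) {X : Scheme.{u}} {δ : X → ℤ} (_ : Cyc.IsSetup X δ) (E : Fin m → X.Modules)
    (rk : Fin m → ℕ), (∀ i, FlatMod.IsFinLocFreeOfRank (rk i) (E i)) →
    ∃ (P : Scheme.{u}) (π : P ⟶ X) (d : ℕ) (δP : P → ℤ), IsSplitMor δ π d ∧
      Cyc.IsSetup P δP ∧ Cyc.DeltaCompat π δP δ ∧ ∀ i, SubFlag ((Scheme.Modules.pullback π).obj (E i)) (rk i) := by
  intro m
  induction m with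
  | zero => exact fun {X δ} hX E rk _ => ⟨X, 𝟙 X, 0, δ, isSplitMor_id hX, hX, Bivar.deltaCompat_id δ, fun i => i.elim0⟩
  | succ m ih =>
    intro X δ hX E rk hE
    obtain ⟨P, π, d, δP, hπ, hPs, hc, hF⟩ := exists_split_one (rk 0) hX (hE 0)
    obtain ⟨R, ρ, e, δR, hρ, hRs, hc', hFs⟩ := ih hPs (fun i => (Scheme.Modules.pullback π).obj (E i.succ))
      (fun i => rk i.succ) fun i => rank_pullback π (hE i.succ)
    haveI := hπ.proper
    haveI := hρ.proper
    refine ⟨R, ρ ≫ π, e + d, δR, isSplitMor_comp hX hπ hc hρ, hRs, deltaCompat_trans ρ π hc' hc, fun i => ?_⟩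
    refine Fin.cases ?_ (fun j => ?_) i
    · exact (hF.map ρ).congr ((Scheme.Modules.pullbackComp ρ π).app (E 0))
    · exact (hFs j).congr ((Scheme.Modules.pullbackComp ρ π).app (E j.succ))

/-- Splitting morphisms are locally projective. -/
theorem IsSplitMor.isLocallyProjective {π : P ⟶ X} {d : ℕ} (h : IsSplitMor δ π d) :
    RelProj.IsLocallyProjective π := fun x => by
  obtain ⟨_, ⟨U, hU, rfl⟩, hxU, -⟩ := X.isBasis_affineOpens.exists_subset_of_mem_open (Set.mem_univ x) isOpen_univ
  let V : X.Opens := U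
  haveI : IsAffine (V : Scheme.{u}) := hU
  exact ⟨V, hxU, h.projective _ _ V.ι (π ⁻¹ᵁ V).ι (π ∣_ V) (isPullback_morphismRestrict π V).flip inferInstance inferInstance⟩

end Groth.L22.Chern
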