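import Groth.Agent.L22.Chern.Tensor
import Groth.Agent.L22.Chern.Snoc
import Groth.Agent.L03.Euler.Twist
import Groth.Agent.L03.ShStab.TwistSubbundle
import Groth.Agent.L08.Cube.Inverse

/-!
Chern caps of an extension of a module by an invertible module.
-/

set_option autoImplicit false
set_option linter.style.haveILetI false
set_option linter.unusedSectionVars false
set_option backward.isDefEq.respectTransparency.types false
set_option backward.isDefEq.respectTransparency false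

universe u

open CategoryTheory CategoryTheory.Limits AlgebraicGeometry TopologicalSpace

noncomputable section

namespace Groth.L22.Chern

variable {X : Scheme.{u}} [IsLocallyNoetherian X] {δ : X → ℤ}

section Algebra

variable (hd : Cyc.IsDimFun X δ) {L : X.Modules} (hL : PicF.IsInvertible L)
  {u : (ξ : X) → Cyc.secFibre L ξ} (hu : ∀ ξ, u ξ ≠ 0) (g : ℕ → AlgebraicCycle X ℤ)

/-- The twisted tuple. -/
def tw (r i : ℕ) : AlgebraicCycle X ℤ :=
  ∑ j ∈ Finset.range (i + 1), ((r - i + j).choose j : ℤ) • pw hd hL hu j (g (i - j))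

/-- Pascal's rule for twisted tuples. -/
theorem tw_succ (m i : ℕ) (hi : i ≤ m) (h0 : g (m + 1) = 0) :
    tw hd hL hu g (m + 1) (i + 1) =
      (if i < m then tw hd hL hu g m (i + 1) else 0) + pw hd hL hu 1 (tw hd hL hu g m i) := by
  obtain ⟨d, rfl⟩ := Nat.exists_eq_add_of_le hi
  have hR : pw hd hL hu 1 (tw hd hL hu g (i + d) i) =
      ∑ l ∈ Finset.range (i + 1), ((d + l).choose l : ℤ) • pw hd hL hu (l + 1) (g (i - l)) := by
    simp only [tw, map_sum, map_zsmul, pw_pw, Nat.add_sub_cancel_left]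
    exact Finset.sum_congr rfl fun l _ => by rw [Nat.add_comm 1 l]
  rw [hR]
  unfold tw
  rw [Finset.sum_range_succ' _ (i + 1)]
  simp only [show i + d + 1 - (i + 1) = d by omega, Nat.choose_zero_right, Nat.cast_one, one_smul,
    Nat.sub_zero, Nat.add_sub_add_right]
  rcases Nat.eq_zero_or_pos d with rfl | hd0
  · rw [if_neg (by omega), zero_add, Nat.add_zero] at *
    rw [h0, map_zero, add_zero]
    simp [Nat.choose_self]
  · obtain ⟨e, rfl⟩ : ∃ e, d = e + 1 := ⟨d - 1, by omega⟩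
    rw [if_pos (by omega), Finset.sum_range_succ' _ (i + 1)]
    simp only [show i + (e + 1) - (i + 1) = e by omega, Nat.choose_zero_right, Nat.cast_one, one_smul,
      Nat.sub_zero, Nat.add_sub_add_right]
    rw [add_right_comm, ← Finset.sum_add_distrib]
    refine congrArg (· + _) (Finset.sum_congr rfl fun l _ => ?_)
    rw [← add_smul, show e + 1 + (l + 1) = e + 1 + l + 1 by ring, Nat.choose_succ_succ, Nat.cast_add,
      show e + (l + 1) = e + 1 + l by ring, add_comm]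

end Algebra

/-- Chern caps of an extension by an invertible module. -/
theorem caps_extend (hX : Cyc.IsSetup X δ) {m : ℕ} {E F L : X.Modules}
    (hE : FlatMod.IsFinLocFreeOfRank (m + 1) E) (hF : FlatMod.IsFinLocFreeOfRank m F) (hL : PicF.IsInvertible L)
    (a : L ⟶ E) (b : E ⟶ F) (hab : a ≫ b = 0) (hex : (ShortComplex.mk a b hab).ShortExact)
    {P Q : Scheme.{u}} {p : P ⟶ X} {p' : Q ⟶ X} {O1 : P.Modules} {O1' : Q.Modules}
    {q : (Scheme.Modules.pullback p).obj E ⟶ O1} {q' : (Scheme.Modules.pullback p').obj F ⟶ O1'}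
    (hP : KRR.IsProjBundle p E O1 q) (hQ : KRR.IsProjBundle p' F O1' q')
    {δP : P → ℤ} {δQ : Q → ℤ} (hδ : Cyc.DeltaCompat p δP δ) (hδ' : Cyc.DeltaCompat p' δQ δ)
    {u : (ξ : X) → Cyc.secFibre L ξ} (hu : ∀ ξ, u ξ ≠ 0) {k : ℤ} {α : AlgebraicCycle X ℤ}
    (hα : α ∈ Cyc.Zk X δ k) {γ : Fin (m + 2) → AlgebraicCycle X ℤ} (hγ : Cyc.IsChernCap p δ δP O1 (m + 1) k α γ)
    {γ' : Fin (m + 1) → AlgebraicCycle X ℤ} (hγ' : Cyc.IsChernCap p' δ δQ O1' m k α γ')
    (i : ℕ) (hi : i ≤ m) :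
    γ ⟨i + 1, by omega⟩ - ((if h : i < m then γ' ⟨i + 1, by omega⟩ else 0) +
      pw hX.2.2 hL hu 1 (γ' ⟨i, by omega⟩)) ∈ ratGroup hX.2.2 (k - ((i + 1 : ℕ) : ℤ)) := by
  obtain ⟨N, hN, ⟨ε⟩⟩ := Groth.L08.Cube.exists_inverse hL
  have hE' := Groth.L03.ShStab.TwistSubbundle.isFinLocFreeOfRank_tensor hE hN
  have hF' := Groth.L03.ShStab.TwistSubbundle.isFinLocFreeOfRank_tensor hF hN
  let θ : ∀ M : X.Modules, CohB1.tensorMod (CohB1.tensorMod M N) L ≅ M := fun M =>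
    Groth.L00.Tensor.tensorAssoc M N L ≪≫
      Groth.L00.Tensor.tensorIso (Iso.refl M) (Groth.L00.Tensor.tensorComm N L ≪≫ ε) ≪≫
      Groth.L00.Tensor.tensorUnitRight M
  have hexN := Groth.L03.Euler.shortExact_tensor hN hex
  let a' : Coh.structureModule X ⟶ CohB1.tensorMod E N :=
    ε.inv ≫ (Groth.L00.Tensor.tensorRightF N).map a
  have hab' : a' ≫ (Groth.L00.Tensor.tensorRightF N).map b = 0 := by
    show (ε.inv ≫ _) ≫ _ = 0
    rw [Category.assoc, ← Functor.map_comp, hab, Functor.map_zero, comp_zero]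
  let eS : (ShortComplex.mk a b hab).map (Groth.L00.Tensor.tensorRightF N) ≅
      ShortComplex.mk a' ((Groth.L00.Tensor.tensorRightF N).map b) hab' :=
    ShortComplex.isoMk ε (Iso.refl _) (Iso.refl _) (by simp [a', Groth.L00.Tensor.tensorRightF])
      (by simp [Groth.L00.Tensor.tensorRightF])
  have hex' : (ShortComplex.mk a' ((Groth.L00.Tensor.tensorRightF N).map b) hab').ShortExact :=
    ShortComplex.shortExact_of_iso eS hexN
  obtain ⟨P₁, p₁, O₁, q₁, hB₁, hp₁⟩ := exists_bundle hE'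
  haveI := hp₁
  obtain ⟨δ₁, hP₁s, hc₁⟩ := Groth.L22.Cyc.exists_setup p₁ hX
  haveI := hP₁s.1
  haveI := isProper_bundle hP hE
  have hPs := setup_of_compat p hX hδ
  haveI := hPs.1
  have hLI := Groth.L22.Bundle.isInvertible_of_one hP.invertible
  have hp := Groth.L22.Bundle.delta_of_fibGen hPs.2.2 hδ hP hE
  have h00 : α - α ∈ ratGroup hX.2.2 k := by rw [sub_self]; exact zero_mem _
  -- caps `g` of `F ⊗ N` whose twist is `γ'` and whose padding is a cap of `E ⊗ N`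
  obtain ⟨g, hgE, hgF⟩ : ∃ g : Fin (m + 1) → AlgebraicCycle X ℤ,
      Cyc.IsChernCap p₁ δ δ₁ O₁ (m + 1) k α (Fin.snoc g (0 : AlgebraicCycle X ℤ)) ∧
      ∀ j : Fin (m + 1), γ' j - tw hX.2.2 hL hu (fun l => if h : l < m + 1 then g ⟨l, h⟩ else 0) m j ∈
        ratGroup hX.2.2 (k - ((j : ℕ) : ℤ)) := by
    cases m with
    | zero =>
      haveI := Groth.L29.DC.PCQCoh.isQCoh_of_isFinLocFree (Groth.L18.KRRAmple.isFinLocFree_of_rank hF')
      obtain ⟨Q₁, r₁, R₁, s₁, hG⟩ := Groth.L18.QuotExist.exists_isGrass (CohB1.tensorMod F N) 1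
      refine ⟨fun _ => α, isChernCap_snoc_zero hB₁ hG.isProjBundle a' _ hab' hex' hE' hF' hX hP₁s hc₁ hα,
        fun j => ?_⟩
      obtain rfl : j = 0 := Subsingleton.elim (α := Fin 1) _ _
      simp [tw, pw, cap_zero, hγ'.1]
    | succ n =>
      obtain ⟨Q₁, r₁, R₁, s₁, hB₂, hr₁⟩ := exists_bundle hF'
      haveI := hr₁
      obtain ⟨δ₂, hQ₁s, hc₂⟩ := Groth.L22.Cyc.exists_setup r₁ hX
      haveI := hQ₁s.1
      haveI := isProper_bundle hQ hF
      have hQs := setup_of_compat p' hX hδ'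
      haveI := hQs.1
      obtain ⟨g, hg⟩ := exists_chern hX.2.2 hQ₁s.2.2 hc₂ (Groth.L22.Bundle.isInvertible_of_one hB₂.invertible)
        (Groth.L22.Bundle.delta_of_fibGen hQ₁s.2.2 hc₂ hB₂ hF') hB₂ hF' hα
      refine ⟨g, isChernCap_snoc hB₁ hB₂ a' _ hab' hex' hE' hF' hX hP₁s hQ₁s hc₁ hc₂ hg, fun j => ?_⟩
      have h := unique hX.2.2 hQs.2.2 hδ' (Groth.L22.Bundle.isInvertible_of_one hQ.invertible)
        (Groth.L22.Bundle.delta_of_fibGen hQs.2.2 hδ' hQ hF) hQ hF (α := α) (α' := α) h00 hγ'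
        (isChernCap_twist hX hF' hF hL (θ F) hB₂ hQ hc₂ hδ' hu hg) j
      refine (congrArg (· ∈ ratGroup hX.2.2 _) (congrArg (γ' j - ·) ?_)).mp h
      refine Finset.sum_congr rfl fun l hl => ?_
      have hlt : j.1 - l < n + 1 + 1 := by omega
      show _ • _ = _ • (pw hX.2.2 hL hu l) (if h : j.1 - l < n + 1 + 1 then g ⟨j.1 - l, h⟩ else 0)
      rw [dif_pos hlt]
  let G : ℕ → AlgebraicCycle X ℤ := fun l => if h : l < m + 1 then g ⟨l, h⟩ else 0
  have h1 := unique hX.2.2 hPs.2.2 hδ hLI hp hP hE (α := α) (α' := α) h00 hγ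
    (isChernCap_twist hX hE' hE hL (θ E) hB₁ hP hc₁ hδ hu hgE) ⟨i + 1, by omega⟩
  have e : (∑ j ∈ Finset.range (i + 1 + 1), ((m + 1 - (i + 1) + j).choose j : ℤ) •
      pw hX.2.2 hL hu j (Fin.snoc (α := fun _ => AlgebraicCycle X ℤ) g 0 ⟨i + 1 - j, by omega⟩)) =
      tw hX.2.2 hL hu G (m + 1) (i + 1) := by
    refine Finset.sum_congr rfl fun j _ => ?_
    congr 2
  replace h1 : γ ⟨i + 1, by omega⟩ - tw hX.2.2 hL hu G (m + 1) (i + 1) ∈
      ratGroup hX.2.2 (k - ((i + 1 : ℕ) : ℤ)) := e ▸ h1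
  rw [tw_succ hX.2.2 hL hu G m i hi (dif_neg (lt_irrefl _))] at h1
  have h2 := pw_rat hX.2.2 hL hu (hgF ⟨i, by omega⟩) 1
  rw [map_sub, show k - ((i : ℕ) : ℤ) - ((1 : ℕ) : ℤ) = k - ((i + 1 : ℕ) : ℤ) by push_cast; ring] at h2
  by_cases h : i < m
  · have h3 := hgF ⟨i + 1, by omega⟩
    rw [dif_pos h]
    rw [if_pos h] at h1
    refine (congrArg (· ∈ ratGroup hX.2.2 _) ?_).mp (sub_mem h1 (add_mem h3 h2))
    show γ _ - (_ + _) - ((γ' _ - _) + (_ - _)) = _
    abel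
  · rw [dif_neg h]
    rw [if_neg h] at h1
    refine (congrArg (· ∈ ratGroup hX.2.2 _) ?_).mp (sub_mem h1 h2)
    show γ _ - (_ + _) - (_ - _) = _
    abel

end Groth.L22.Chern
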