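import Groth.Agent.L22.Chern.DualClass
import Groth.Agent.L03.Euler.Twist

/-!
The first two Chern classes of a tensor product.
-/

set_option autoImplicit false
set_option linter.style.haveILetI false
set_option linter.unusedSectionVars false
set_option backward.isDefEq.respectTransparency.types false
set_option backward.isDefEq.respectTransparency false

universe u

open CategoryTheory CategoryTheory.Limits AlgebraicGeometry TopologicalSpace

noncomputable section

namespace Groth.L22.Chern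

variable {X : Scheme.{u}}

/-- Tensoring with a bundle is exact. -/
theorem shortExact_tensor_locFree {F : X.Modules} (hF : FlatMod.IsFinLocFree F) {S : ShortComplex X.Modules}
    (hS : S.ShortExact) : (S.map (Groth.L00.Tensor.tensorRightF F)).ShortExact := by
  refine (ShortComplex.shortExact_iff_of_iso ?_).2
    (Groth.L16.FrameIso.shortExact_tensor_left (Groth.L29.DC.isFlat_of_isFinLocFree hF) S hS)
  refine ShortComplex.isoMk ((Groth.L00.Tensor.tensorFlipIso F).app S.X₁)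
    ((Groth.L00.Tensor.tensorFlipIso F).app S.X₂) ((Groth.L00.Tensor.tensorFlipIso F).app S.X₃) ?_ ?_
  · exact (congrArg (_ ≫ ·) (Groth.L03.Euler.tensorBi_obj_map F S.f)).trans
      ((Groth.L00.Tensor.tensorFlipIso F).hom.naturality S.f).symm
  · exact (congrArg (_ ≫ ·) (Groth.L03.Euler.tensorBi_obj_map F S.g)).trans
      ((Groth.L00.Tensor.tensorFlipIso F).hom.naturality S.g).symm

variable {δ : X → ℤ} [IsLocallyNoetherian X] (hX : Cyc.IsSetup X δ)

theorem x1_pow_emb {L : X.Modules} (hL : PicF.IsInvertible L) {k : ℤ} {A : AlgebraicCycle X ℤ}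
    (hA : A ∈ Cyc.Zk X δ k) : ∀ m : ℕ, (x1 hX.2.2 hL ^ m) (emb δ k A) = emb δ (k - m) (pw hX.2.2 hL (sec_ne hL) m A) := by
  intro m
  induction m with
  | zero => simp [pw, cap_zero]
  | succ m ih =>
    rw [pow_succ']
    show x1 hX.2.2 hL ((x1 hX.2.2 hL ^ m) (emb δ k A)) = _
    rw [ih, x1_emb hX.2.2 hL (sec_ne hL) (pw_mem hX.2.2 hL (sec_ne hL) hA m), pw_succ,
      show k - (m : ℤ) - 1 = k - ((m + 1 : ℕ) : ℤ) by push_cast; ring]

/-- The Chern classes of a twist. -/
theorem C_twist {n : ℕ} {E L : X.Modules} (hE : FlatMod.IsFinLocFreeOfRank (n + 1) E) (hL : PicF.IsInvertible L)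
    {T : X.Modules} (hT : FlatMod.IsFinLocFreeOfRank (n + 1) T) (θ : CohB1.tensorMod E L ≅ T)
    (i : Fin (n + 1 + 1)) :
    C hX hT i = ∑ j ∈ Finset.range ((i : ℕ) + 1),
      ((n + 1 - (i : ℕ) + j).choose j : ℤ) • (x1 hX.2.2 hL ^ j * C hX hE ((i : ℕ) - j)) := by
  refine C_eq_of hX hT i fun P' p' O1' q' δP' hP' hp' hc' k α hα γ' hγ' => ?_
  haveI := hp'
  obtain ⟨P, p, O1, q, δP, hP, hp, hc, hg⟩ := exists_cap hX hE
  obtain ⟨γ, hγ⟩ := hg k α hα
  haveI := hp
  have htw := isChernCap_twist hX hE hT hL θ hP hP' hc hc' (sec_ne hL) hγ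
  rw [← C_emb hX hT hP' hc' hα hγ' i, C_emb hX hT hP' hc' hα htw i]
  refine (AddMonoidHom.finsetSum_apply _ _ _).trans ?_
  have hm : ∀ j ∈ Finset.range ((i : ℕ) + 1), ((n + 1 - (i : ℕ) + j).choose j : ℤ) •
      pw hX.2.2 hL (sec_ne hL) j (γ ⟨(i : ℕ) - j, by omega⟩) ∈ Cyc.Zk X δ (k - ((i : ℕ) : ℤ)) := fun j hj => by
    refine (ChowOps.zk X δ _).zsmul_mem ?_ _
    have := pw_mem hX.2.2 hL (sec_ne hL) (hγ.2.1 ⟨(i : ℕ) - j, by omega⟩) j
    have hj' : j < (i : ℕ) + 1 := Finset.mem_range.1 hj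
    rwa [show k - (((i : ℕ) - j : ℕ) : ℤ) - (j : ℤ) = k - ((i : ℕ) : ℤ) by omega] at this
  rw [emb_sum _ hm]
  refine Finset.sum_congr rfl fun j hj => ?_
  have hj' : j < (i : ℕ) + 1 := Finset.mem_range.1 hj
  have hmj := pw_mem hX.2.2 hL (sec_ne hL) (hγ.2.1 ⟨(i : ℕ) - j, by omega⟩) j
  have ek : k - (((i : ℕ) - j : ℕ) : ℤ) - (j : ℤ) = k - ((i : ℕ) : ℤ) := by omega
  rw [ek] at hmj
  show ((n + 1 - (i : ℕ) + j).choose j : ℤ) • (x1 hX.2.2 hL ^ j) (C hX hE ((i : ℕ) - j) (emb δ k α)) = _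
  rw [show C hX hE ((i : ℕ) - j) (emb δ k α) = emb δ (k - (((i : ℕ) - j : ℕ) : ℤ)) (γ ⟨(i : ℕ) - j, by omega⟩) from
    C_emb hX hE hP hc hα hγ ⟨(i : ℕ) - j, by omega⟩, x1_pow_emb hX hL (hγ.2.1 ⟨(i : ℕ) - j, by omega⟩) j, ek,
    emb_zsmul _ hmj]

/-- The first Chern class of a twist. -/
theorem C_twist_one {n : ℕ} {E L : X.Modules} (hE : FlatMod.IsFinLocFreeOfRank (n + 1) E) (hL : PicF.IsInvertible L)
    {T : X.Modules} (hT : FlatMod.IsFinLocFreeOfRank (n + 1) T) (θ : CohB1.tensorMod E L ≅ T) :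
    C hX hT 1 = C hX hE 1 + ((n + 1 : ℕ) : ℤ) • x1 hX.2.2 hL := by
  rw [show C hX hT 1 = _ from C_twist hX hE hL hT θ ⟨1, by omega⟩]
  simp [Finset.sum_range_succ, C_zero]

/-- The second Chern class of a twist. -/
theorem C_twist_two {n : ℕ} {E L : X.Modules} (hE : FlatMod.IsFinLocFreeOfRank (n + 1) E) (hL : PicF.IsInvertible L)
    {T : X.Modules} (hT : FlatMod.IsFinLocFreeOfRank (n + 1) T) (θ : CohB1.tensorMod E L ≅ T) :
    C hX hT 2 = C hX hE 2 + (n : ℤ) • (x1 hX.2.2 hL * C hX hE 1) +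
      ((n + 1).choose 2 : ℤ) • (x1 hX.2.2 hL * x1 hX.2.2 hL) := by
  rcases Nat.eq_zero_or_pos n with rfl | hn
  · rw [C_of_lt hX hT (by omega), C_of_lt hX hE (by omega)]
    simp
  rw [show C hX hT 2 = _ from C_twist hX hE hL hT θ ⟨2, by omega⟩, Finset.sum_range_succ, Finset.sum_range_succ,
    Finset.sum_range_one]
  simp only [Nat.sub_zero, Nat.add_zero, Nat.choose_zero_right, pow_zero, one_mul, pow_one, Nat.cast_one, one_smul,
    Nat.sub_self, C_zero, mul_one]
  rw [show n + 1 - 2 + 1 = n by omega, Nat.choose_one_right, show n + 1 - 2 + 2 = n + 1 by omega, pow_two,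
    show (2 : ℕ) - 1 = 1 from rfl]

theorem Flag.C_mem {E : X.Modules} {ls : List X.Modules} (h : Flag E ls) :
    ∀ {r : ℕ} (hE : FlatMod.IsFinLocFreeOfRank r E), r = ls.length → ∀ j, C hX hE j ∈ c1Ring hX.2.2 := by
  induction h with
  | nil hz =>
    rintro r hE rfl j
    rcases Nat.eq_zero_or_pos j with rfl | hj
    · rw [C_zero]; exact one_mem _
    · rw [C_of_lt hX hE (by simpa using hj)]; exact zero_mem _
  | @cons L E F ls hL a b hab hex hF ih =>
    rintro r hE rfl j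
    cases j with
    | zero => rw [C_zero]; exact one_mem _
    | succ i =>
      rw [C_extend hX hE hF.rank hL a b hab hex]
      exact add_mem (ih hF.rank rfl _) (mul_mem (Subring.subset_closure ⟨L, hL, rfl⟩) (ih hF.rank rfl i))

theorem Flag.rank_tensor {E : X.Modules} {ls : List X.Modules} (h : Flag E ls) {F : X.Modules} {s : ℕ}
    (hF : FlatMod.IsFinLocFreeOfRank s F) : FlatMod.IsFinLocFreeOfRank (ls.length * s) (CohB1.tensorMod E F) := by
  induction h with
  | nil hz =>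
    rw [List.length_nil, Nat.zero_mul]
    exact rank_zero_of_isZero ((Groth.L00.Tensor.tensorRightF F).map_isZero hz)
  | @cons L E E' ls hL a b hab hex hE' ih =>
    have hs := shortExact_tensor_locFree (Groth.L18.KRRAmple.isFinLocFree_of_rank hF) hex
    have h1 : FlatMod.IsFinLocFreeOfRank s (CohB1.tensorMod L F) := fun x => by
      obtain ⟨U, hx, ⟨i⟩⟩ := Groth.L03.ShStab.TwistSubbundle.isFinLocFreeOfRank_tensor hF hL x
      exact ⟨U, hx, ⟨(Scheme.Modules.restrictFunctor U.ι).mapIso (Groth.L00.Tensor.tensorComm L F) ≪≫ i⟩⟩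
    rw [List.length_cons, Nat.succ_mul, Nat.add_comm]
    exact Groth.L13.Canon.isFinLocFreeOfRank_middle hs h1 ih

omit [IsLocallyNoetherian X] in
theorem tensor_one_step {R : Type*} [CommRing R] (a x f1 : R) (t s : ℤ) :
    a + s • x + (t • a + s • f1) = (t + 1) • a + s • (f1 + x) := by
  simp only [zsmul_eq_mul]; push_cast; ring

omit [IsLocallyNoetherian X] in
theorem tensor_two_step {R : Type*} [CommRing R] (a b x f1 f2 : R) (t s ct cs : ℤ) :
    b + (s - 1) • (x * a) + cs • (x * x) + (a + s • x) * (t • a + s • f1) +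
      (t • b + s • f2 + ct • (a * a) + (t * s - 1) • (f1 * a) + cs • (f1 * f1)) =
    (t + 1) • b + s • (f2 + x * f1) + (t + ct) • (a * a) + ((t + 1) * s - 1) • ((f1 + x) * a) +
      cs • ((f1 + x) * (f1 + x)) + (s * s - s - 2 * cs) • (x * f1) := by
  simp only [zsmul_eq_mul]; push_cast; ring

omit [IsLocallyNoetherian X] in
theorem choose_two_int (n : ℕ) : 2 * ((n + 1).choose 2 : ℤ) = ((n + 1 : ℕ) : ℤ) * ((n + 1 : ℕ) : ℤ) - ((n + 1 : ℕ) : ℤ) := by
  induction n with
  | zero => simp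
  | succ n ih =>
    rw [Nat.choose_succ_succ, Nat.choose_one_right]
    push_cast at ih ⊢
    linarith

/-- The first two Chern classes of the tensor product with a filtered module. -/
theorem Flag.C_tensor {E : X.Modules} {ls : List X.Modules} (h : Flag E ls) {F : X.Modules} {n : ℕ}
    (hF : FlatMod.IsFinLocFreeOfRank (n + 1) F) {lF : List X.Modules} (hfl : Flag F lF) (hlF : n + 1 = lF.length) :
    ∀ {r t : ℕ} (hE : FlatMod.IsFinLocFreeOfRank r E) (hT : FlatMod.IsFinLocFreeOfRank t (CohB1.tensorMod E F)),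
      r = ls.length → t = ls.length * (n + 1) →
      C hX hT 1 = (r : ℤ) • C hX hF 1 + ((n + 1 : ℕ) : ℤ) • C hX hE 1 ∧
      C hX hT 2 = (r : ℤ) • C hX hF 2 + ((n + 1 : ℕ) : ℤ) • C hX hE 2 + (r.choose 2 : ℤ) • (C hX hF 1 * C hX hF 1) +
        (((r * (n + 1) : ℕ) : ℤ) - 1) • (C hX hE 1 * C hX hF 1) + ((n + 1).choose 2 : ℤ) • (C hX hE 1 * C hX hE 1) := by
  induction h with
  | nil hz =>
    rintro r t hE hT rfl rfl
    rw [C_of_lt hX hT (by simp), C_of_lt hX hE (by simp), C_of_lt hX hT (by simp), C_of_lt hX hE (by simp)]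
    simp
  | @cons L E E' ls hL a b hab hex hE' ih =>
    rintro r t hE hT rfl rfl
    have hs := shortExact_tensor_locFree (Groth.L18.KRRAmple.isFinLocFree_of_rank hF) hex
    have hG := hE'.rank_tensor hF
    have h1 : FlatMod.IsFinLocFreeOfRank (n + 1) (CohB1.tensorMod L F) := fun x => by
      obtain ⟨U, hx, ⟨i⟩⟩ := Groth.L03.ShStab.TwistSubbundle.isFinLocFreeOfRank_tensor hF hL x
      exact ⟨U, hx, ⟨(Scheme.Modules.restrictFunctor U.ι).mapIso (Groth.L00.Tensor.tensorComm L F) ≪≫ i⟩⟩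
    have hT' : FlatMod.IsFinLocFreeOfRank (n + 1 + ls.length * (n + 1)) (CohB1.tensorMod E F) := by
      rwa [List.length_cons, Nat.succ_mul, Nat.add_comm] at hT
    have eT : ∀ j, C hX hT j = C hX hT' j := C_rank_congr hX hT hT' (by rw [List.length_cons, Nat.succ_mul, Nat.add_comm])
    have hw := C_whitney hX h1 hG hT' _ _ _ hs
    obtain ⟨i1, i2⟩ := ih hE'.rank hG rfl rfl
    have e1 := C_twist_one hX hF hL h1 (Groth.L00.Tensor.tensorComm F L)
    have e2 := C_twist_two hX hF hL h1 (Groth.L00.Tensor.tensorComm F L)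
    have x1' := C_extend hX hE hE'.rank hL a b hab hex 0
    have x2' := C_extend hX hE hE'.rank hL a b hab hex 1
    rw [C_zero, mul_one] at x1'
    let R := c1Ring hX.2.2
    let A : R := ⟨C hX hF 1, hfl.C_mem hX hF hlF 1⟩
    let B : R := ⟨C hX hF 2, hfl.C_mem hX hF hlF 2⟩
    let F1 : R := ⟨C hX hE'.rank 1, hE'.C_mem hX hE'.rank rfl 1⟩
    let F2 : R := ⟨C hX hE'.rank 2, hE'.C_mem hX hE'.rank rfl 2⟩
    let Y : R := y1 hX.2.2 hL
    constructor
    · rw [eT, hw, Finset.Nat.antidiagonal_succ, Finset.sum_cons, Finset.Nat.antidiagonal_zero, Finset.map_singleton,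
        Finset.sum_singleton]
      show C hX h1 0 * C hX hG 1 + C hX h1 1 * C hX hG 0 = _
      rw [C_zero, C_zero, one_mul, mul_one, e1, i1, x1', add_comm, List.length_cons, Nat.cast_succ]
      exact congrArg R.subtype (tensor_one_step A Y F1 ((ls.length : ℤ)) ((n + 1 : ℕ) : ℤ))
    · rw [eT, hw, Finset.Nat.antidiagonal_eq_map', Finset.sum_map]
      show ∑ x ∈ Finset.range (2 + 1), C hX h1 (2 - x) * C hX hG x = _
      rw [Finset.sum_range_succ, Finset.sum_range_succ, Finset.sum_range_one]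
      simp only [Nat.sub_zero, Nat.sub_self, show (2 : ℕ) - 1 = 1 from rfl, C_zero, one_mul, mul_one]
      rw [e1, e2, i1, i2, x1', x2']
      have h := congrArg R.subtype (tensor_two_step A B Y F1 F2 ((ls.length : ℤ)) ((n + 1 : ℕ) : ℤ)
        ((ls.length.choose 2 : ℕ) : ℤ) (((n + 1).choose 2 : ℕ) : ℤ))
      rw [show ((n + 1 : ℕ) : ℤ) * ((n + 1 : ℕ) : ℤ) - ((n + 1 : ℕ) : ℤ) - 2 * (((n + 1).choose 2 : ℕ) : ℤ) = 0 by
        rw [choose_two_int]; ring, zero_smul, add_zero] at h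
      simp only [List.length_cons, Nat.choose_succ_succ, Nat.choose_one_right, Nat.succ_eq_add_one, Nat.cast_add,
        Nat.cast_mul, Nat.cast_one, add_sub_cancel_right] at h ⊢
      simpa [A, B, F1, F2, Y, R, y1, mul_add] using h

end Groth.L22.Chern
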