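import Groth.Agent.L22.Chern.Classes
import Groth.Agent.L22.Chern.SubLine
import Mathlib.Algebra.DirectSum.Basic
import Mathlib.Algebra.Polynomial.Coeff

/-!
The total Chow group and Chern classes as its endomorphisms.
-/

set_option autoImplicit false
set_option linter.style.haveILetI false
set_option linter.unusedSectionVars false
set_option backward.isDefEq.respectTransparency.types false
set_option backward.isDefEq.respectTransparency false

universe u

open CategoryTheory CategoryTheory.Limits AlgebraicGeometry TopologicalSpace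

noncomputable section

namespace Groth.L22.Chern

/-- The total Chow group. -/
abbrev Tot (X : Scheme.{u}) (δ : X → ℤ) : Type u := DirectSum ℤ (fun k => ChowOps.CH X δ k)

/-- The ring of operations on the total Chow group. -/
abbrev Op (X : Scheme.{u}) (δ : X → ℤ) : Type u := AddMonoid.End (Tot X δ)

variable {X : Scheme.{u}} {δ : X → ℤ}

open Classical in
/-- The class of a cycle in the total Chow group. -/
def emb (δ : X → ℤ) (k : ℤ) (A : AlgebraicCycle X ℤ) : Tot X δ :=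
  if h : A ∈ Cyc.Zk X δ k then DirectSum.of (fun k => ChowOps.CH X δ k) k (ChowOps.cl A h) else 0

theorem emb_def {k : ℤ} {A : AlgebraicCycle X ℤ} (h : A ∈ Cyc.Zk X δ k) :
    emb δ k A = DirectSum.of (fun k => ChowOps.CH X δ k) k (ChowOps.cl A h) := dif_pos h

theorem emb_zero (k : ℤ) : emb δ k (0 : AlgebraicCycle X ℤ) = 0 := by
  rw [emb_def (A := 0) (k := k) (ChowOps.zk X δ k).zero_mem]
  exact (congrArg _ (map_zero (ChowOps.clHom X δ k))).trans (map_zero _)

theorem emb_add {k : ℤ} {A B : AlgebraicCycle X ℤ} (hA : A ∈ Cyc.Zk X δ k) (hB : B ∈ Cyc.Zk X δ k) :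
    emb δ k (A + B) = emb δ k A + emb δ k B := by
  rw [emb_def hA, emb_def hB, emb_def (A := A + B) ((ChowOps.zk X δ k).add_mem hA hB), ← map_add]
  exact congrArg _ (map_add (ChowOps.clHom X δ k) ⟨A, hA⟩ ⟨B, hB⟩)

theorem emb_zsmul {k : ℤ} (c : ℤ) {A : AlgebraicCycle X ℤ} (hA : A ∈ Cyc.Zk X δ k) :
    emb δ k (c • A) = c • emb δ k A := by
  rw [emb_def hA, emb_def (A := c • A) ((ChowOps.zk X δ k).zsmul_mem hA c), ← map_zsmul]
  exact congrArg _ (map_zsmul (ChowOps.clHom X δ k) c ⟨A, hA⟩)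

theorem emb_sum {ι : Type*} (s : Finset ι) {k : ℤ} {A : ι → AlgebraicCycle X ℤ}
    (hA : ∀ i ∈ s, A i ∈ Cyc.Zk X δ k) : emb δ k (∑ i ∈ s, A i) = ∑ i ∈ s, emb δ k (A i) := by
  classical
  induction s using Finset.induction_on with
  | empty => simp [emb_zero]
  | insert a t ha ih =>
    rw [Finset.sum_insert ha, Finset.sum_insert ha, emb_add (hA a (Finset.mem_insert_self a t))
      ((ChowOps.zk X δ k).sum_mem fun i hi => hA i (Finset.mem_insert_of_mem hi)),
      ih fun i hi => hA i (Finset.mem_insert_of_mem hi)]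

/-- Two operations agreeing on classes of cycles are equal. -/
theorem op_ext {M : Type*} [AddCommMonoid M] {T T' : Tot X δ →+ M}
    (h : ∀ (k : ℤ) (A : AlgebraicCycle X ℤ), A ∈ Cyc.Zk X δ k → T (emb δ k A) = T' (emb δ k A)) : T = T' :=
  DirectSum.addHom_ext fun k y => QuotientAddGroup.induction_on y fun a => by
    have e := h k a.1 a.2
    rw [emb_def a.2] at e
    exact e

section Noeth

variable [IsLocallyNoetherian X] (hd : Cyc.IsDimFun X δ)

include hd in
theorem emb_eq {k : ℤ} {A B : AlgebraicCycle X ℤ} (hA : A ∈ Cyc.Zk X δ k) (hB : B ∈ Cyc.Zk X δ k)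
    (h : A - B ∈ ratGroup hd k) : emb δ k A = emb δ k B := by
  rw [emb_def hA, emb_def hB, (cl_eq_iff hd hA hB).2 h]

include hd in
theorem rat_of_emb_eq {k : ℤ} {A B : AlgebraicCycle X ℤ} (hA : A ∈ Cyc.Zk X δ k) (hB : B ∈ Cyc.Zk X δ k)
    (h : emb δ k A = emb δ k B) : A - B ∈ ratGroup hd k := by
  rw [emb_def hA, emb_def hB] at h
  exact (cl_eq_iff hd hA hB).1 (DirectSum.of_injective k h)

variable {L : X.Modules} (hL : PicF.IsInvertible L)

/-- The chosen rational section. -/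
def sec : (ξ : X) → Cyc.secFibre L ξ := (exists_secs hL).choose 0

theorem sec_ne : ∀ ξ, sec hL ξ ≠ 0 := (exists_secs hL).choose_spec 0

/-- The first Chern class on Chow groups of one degree. -/
def c1H (k : ℤ) : ChowOps.CH X δ k →+ ChowOps.CH X δ (k - 1) :=
  QuotientAddGroup.lift _
    (AddMonoidHom.mk' (fun a : ↥(ChowOps.zk X δ k) => ChowOps.cl (pw hd hL (sec_ne hL) 1 a.1)
      (pw_mem hd hL (sec_ne hL) a.2 1)) fun a b => by
        show ChowOps.clHom X δ (k - 1) _ = ChowOps.clHom X δ (k - 1) _ + ChowOps.clHom X δ (k - 1) _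
        rw [← map_add]
        exact congrArg _ (Subtype.ext (map_add (pw hd hL (sec_ne hL) 1) a.1 b.1)))
    ((AddSubgroup.closure_le _).2 fun a ha => by
      refine ((cl_eq_iff hd _ (ChowOps.zk X δ (k - 1)).zero_mem).2 ?_).trans (map_zero (ChowOps.clHom X δ (k - 1)))
      rw [sub_zero]
      exact pw_rat hd hL (sec_ne hL) ha 1)

/-- The first Chern class of an invertible module. -/
def x1 : Op X δ := DirectSum.toAddMonoid fun k =>
  (DirectSum.of (fun k => ChowOps.CH X δ k) (k - 1)).comp (c1H hd hL k)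

theorem x1_emb {u : (ξ : X) → Cyc.secFibre L ξ} (hu : ∀ ξ, u ξ ≠ 0) {k : ℤ} {A : AlgebraicCycle X ℤ}
    (hA : A ∈ Cyc.Zk X δ k) : x1 hd hL (emb δ k A) = emb δ (k - 1) (pw hd hL hu 1 A) := by
  rw [emb_def hA, emb_def (k := k - 1) (pw_mem hd hL hu hA 1), x1]
  refine (DirectSum.toAddMonoid_of _ _ _).trans (congrArg (DirectSum.of (fun k => ChowOps.CH X δ k) (k - 1)) ?_)
  refine (cl_eq_iff hd (k := k - 1) (pw_mem hd hL (sec_ne hL) hA 1) (pw_mem hd hL hu hA 1)).2 ?_
  exact cap_change hd hL (t := fun _ => sec hL) (fun _ => sec_ne hL) (t' := fun _ => u) (fun _ => hu) hA 1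

theorem x1_comm {N : X.Modules} (hN : PicF.IsInvertible N) : x1 hd hL * x1 hd hN = x1 hd hN * x1 hd hL := by
  refine op_ext fun k A hA => ?_
  show x1 hd hL (x1 hd hN (emb δ k A)) = x1 hd hN (x1 hd hL (emb δ k A))
  have hA1 : pw hd hN (sec_ne hN) 1 A ∈ Cyc.Zk X δ (k - 1) := pw_mem hd hN (sec_ne hN) hA 1
  have hA2 : pw hd hL (sec_ne hL) 1 A ∈ Cyc.Zk X δ (k - 1) := pw_mem hd hL (sec_ne hL) hA 1
  rw [x1_emb hd hN (sec_ne hN) hA, x1_emb hd hL (sec_ne hL) hA, x1_emb hd hL (sec_ne hL) hA1,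
    x1_emb hd hN (sec_ne hN) hA2]
  refine emb_eq hd (pw_mem hd hL (sec_ne hL) hA1 1) (pw_mem hd hN (sec_ne hN) hA2 1) ?_
  exact cap_comm hd hN hL (t := fun _ => sec hN) (fun _ => sec_ne hN) (fun _ => sec_ne hL) hA 1

end Noeth

variable (hX : Cyc.IsSetup X δ) {r : ℕ} {E : X.Modules}

/-- The Chern classes of a finite locally free module. -/
def C : ∀ {r : ℕ} {E : X.Modules}, FlatMod.IsFinLocFreeOfRank r E → ℕ → Op X δ
  | 0, _, _, j => if j = 0 then 1 else 0
  | _ + 1, _, hE, j => if h : j < _ + 1 + 1 then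
      DirectSum.toAddMonoid fun k => (DirectSum.of (fun k => ChowOps.CH X δ k) (k - (j : ℤ))).comp
        (opC hX hE ⟨j, h⟩ (Bivar.OSq.self X δ) k)
      else 0

theorem C_of_lt (hE : FlatMod.IsFinLocFreeOfRank r E) {j : ℕ} (h : r < j) : C hX hE j = 0 := by
  cases r with
  | zero => exact if_neg (by omega)
  | succ n => exact dif_neg (by omega)

/-- A single tuple computes the Chern classes. -/
theorem C_emb (hE : FlatMod.IsFinLocFreeOfRank r E) {P : Scheme.{u}} {p : P ⟶ X} {O1 : P.Modules}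
    {q : (Scheme.Modules.pullback p).obj E ⟶ O1} (hP : KRR.IsProjBundle p E O1 q) {δP : P → ℤ}
    (hδ : Cyc.DeltaCompat p δP δ) {k : ℤ} {α : AlgebraicCycle X ℤ} (hα : α ∈ Cyc.Zk X δ k)
    {γ : Fin (r + 1) → AlgebraicCycle X ℤ} (hγ : Cyc.IsChernCap p δ δP O1 r k α γ) (j : Fin (r + 1)) :
    C hX hE j (emb δ k α) = emb δ (k - ((j : ℕ) : ℤ)) (γ j) := by
  cases r with
  | zero =>
    obtain rfl : j = 0 := Subsingleton.elim (α := Fin 1) _ _
    rw [hγ.1, C]
    simp
  | succ n =>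
    rw [C, dif_pos j.isLt, emb_def hα]
    refine (DirectSum.toAddMonoid_of _ _ _).trans ?_
    have hR : Rep n E (Bivar.OSq.self X δ) k α γ :=
      rep_of hX hE (Bivar.OSq.self X δ) ((Scheme.Modules.pullbackId X).app E).symm hP hδ hγ
    rw [emb_def (k := k - ((j : ℕ) : ℤ)) ((rep_mem hX hE _ hR).2 j)]
    exact congrArg (DirectSum.of (fun k => ChowOps.CH X δ k) (k - ((j : ℕ) : ℤ)))
      (opC_cl hX hE j (Bivar.OSq.self X δ) hα hR)

include hX in
/-- Bundle data and tuples exist. -/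
theorem exists_cap (hE : FlatMod.IsFinLocFreeOfRank r E) :
    ∃ (P : Scheme.{u}) (p : P ⟶ X) (O1 : P.Modules) (q : (Scheme.Modules.pullback p).obj E ⟶ O1) (δP : P → ℤ),
      KRR.IsProjBundle p E O1 q ∧ IsProper p ∧ Cyc.DeltaCompat p δP δ ∧
      ∀ (k : ℤ) (α : AlgebraicCycle X ℤ), α ∈ Cyc.Zk X δ k →
        ∃ γ : Fin (r + 1) → AlgebraicCycle X ℤ, Cyc.IsChernCap p δ δP O1 r k α γ := by
  haveI := hX.1
  cases r with
  | zero =>
    haveI := Groth.L29.DC.PCQCoh.isQCoh_of_isFinLocFree (Groth.L18.KRRAmple.isFinLocFree_of_rank hE)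
    obtain ⟨P, p, O1, q, hG⟩ := Groth.L18.QuotExist.exists_isGrass E 1
    haveI := isEmpty_bundle hG.isProjBundle hE
    obtain ⟨δP, hPs, hc⟩ := Groth.L22.Cyc.exists_setup p hX
    haveI := hPs.1
    refine ⟨P, p, O1, q, δP, hG.isProjBundle, inferInstance, hc, fun k α hα => ⟨fun _ => α, rfl, fun j => ?_,
      fun t ht β hβ => ?_⟩⟩
    · obtain rfl : j = 0 := Subsingleton.elim (α := Fin 1) _ _
      simpa using hα
    · obtain rfl : β = 0 := Function.locallyFinsuppWithin.ext fun y => isEmptyElim y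
      exact (ratGroup hPs.2.2 (k - 1)).zero_mem
  | succ n =>
    obtain ⟨P, p, O1, q, hP, hp⟩ := exists_bundle hE
    haveI := hp
    obtain ⟨δP, hPs, hc⟩ := Groth.L22.Cyc.exists_setup p hX
    haveI := hPs.1
    exact ⟨P, p, O1, q, δP, hP, hp, hc, fun k α hα => exists_chern hX.2.2 hPs.2.2 hc
      (Groth.L22.Bundle.isInvertible_of_one hP.invertible) (Groth.L22.Bundle.delta_of_fibGen hPs.2.2 hc hP hE) hP hE hα⟩

end Groth.L22.Chern
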