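import Groth.Agent.L22.Chern.Gysin
import Groth.Agent.L22.Chern.Compat
import Groth.Agent.L12.KBun.Exist
import Groth.Agent.L18.Grass.MapEpi
import Groth.Agent.L16.Bivar.Env

/-!
Chern caps do not depend on the projective bundle.
-/

set_option autoImplicit false
set_option linter.style.haveILetI false
set_option backward.isDefEq.respectTransparency false

universe u

open CategoryTheory CategoryTheory.Limits AlgebraicGeometry TopologicalSpace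

noncomputable section

namespace Groth.L22.Chern

variable {Y : Scheme.{u}}

/-- Projective bundles of a finite locally free module exist and are proper. -/
theorem exists_bundle {n : ℕ} {E : Y.Modules} (hE : FlatMod.IsFinLocFreeOfRank (n + 1) E) :
    ∃ (P : Scheme.{u}) (π : P ⟶ Y) (O1 : P.Modules) (q : (Scheme.Modules.pullback π).obj E ⟶ O1),
      KRR.IsProjBundle π E O1 q ∧ IsProper π := by
  haveI := Groth.L29.DC.PCQCoh.isQCoh_of_isFinLocFree (Groth.L18.KRRAmple.isFinLocFree_of_rank hE)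
  obtain ⟨P, π, O1, q, hG⟩ := Groth.L18.QuotExist.exists_isGrass E 1
  obtain ⟨A⟩ := Groth.L12.KBun.exists_atlas hG.isProjBundle hE
  exact ⟨P, π, O1, q, hG.isProjBundle, A.isProper⟩

/-- Projective bundles are proper. -/
theorem isProper_bundle {n : ℕ} {E : Y.Modules} {P : Scheme.{u}} {π : P ⟶ Y} {O1 : P.Modules}
    {q : (Scheme.Modules.pullback π).obj E ⟶ O1} (hP : KRR.IsProjBundle π E O1 q)
    (hE : FlatMod.IsFinLocFreeOfRank (n + 1) E) : IsProper π :=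
  (Groth.L12.KBun.exists_atlas hP hE).some.isProper

/-- Projective bundles of isomorphic modules are isomorphic. -/
theorem exists_bundle_iso {P₁ P₂ : Scheme.{u}} {π₁ : P₁ ⟶ Y} {π₂ : P₂ ⟶ Y} {E₁ E₂ : Y.Modules}
    {O₁ : P₁.Modules} {O₂ : P₂.Modules} {q₁ : (Scheme.Modules.pullback π₁).obj E₁ ⟶ O₁}
    {q₂ : (Scheme.Modules.pullback π₂).obj E₂ ⟶ O₂} (θ : E₁ ≅ E₂) (hP₁ : KRR.IsProjBundle π₁ E₁ O₁ q₁)
    (hP₂ : KRR.IsProjBundle π₂ E₂ O₂ q₂) :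
    ∃ h : P₂ ⟶ P₁, IsIso h ∧ h ≫ π₁ = π₂ ∧ Nonempty ((Scheme.Modules.pullback h).obj O₁ ≅ O₂) := by
  have hG₁ := Grass.IsGrass.of_isProjBundle hP₁
  have hG₂ := Grass.IsGrass.of_isProjBundle hP₂
  haveI := Groth.L18.MapEpi.mono_mapOfEpi hG₁ hG₂ θ.hom
  obtain ⟨a, ha⟩ := Groth.L18.MapEpi.exists_factor hG₁ hG₂ θ.hom (𝟙 P₁) (by
    have hk : kernel.ι θ.hom = 0 := by
      rw [← cancel_mono θ.hom, kernel.condition, zero_comp]
    rw [hk, Functor.map_zero, zero_comp, Functor.map_zero])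
  haveI : IsSplitEpi (hG₁.mapOfEpi hG₂ θ.hom) := IsSplitEpi.mk' ⟨a, ha⟩
  exact ⟨_, isIso_of_mono_of_isSplitEpi _, hG₁.mapOfEpi_comp hG₂ θ.hom,
    ⟨hG₁.liftIso _ _ _ _ _⟩⟩

variable [IsLocallyNoetherian Y] {δ : Y → ℤ}

/-- Chern caps transfer between projective bundles of isomorphic modules. -/
theorem isChernCap_transfer (hY : Cyc.IsDimFun Y δ) {n : ℕ} {E₁ E₂ : Y.Modules}
    (hE : FlatMod.IsFinLocFreeOfRank (n + 1) E₁) (θ : E₁ ≅ E₂) {P₁ P₂ : Scheme.{u}}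
    [IsLocallyNoetherian P₁] [IsLocallyNoetherian P₂] {π₁ : P₁ ⟶ Y} {π₂ : P₂ ⟶ Y} [IsProper π₁] [IsProper π₂]
    {O₁ : P₁.Modules} {O₂ : P₂.Modules} {q₁ : (Scheme.Modules.pullback π₁).obj E₁ ⟶ O₁}
    {q₂ : (Scheme.Modules.pullback π₂).obj E₂ ⟶ O₂} (hP₁ : KRR.IsProjBundle π₁ E₁ O₁ q₁)
    (hP₂ : KRR.IsProjBundle π₂ E₂ O₂ q₂) {δ₁ : P₁ → ℤ} {δ₂ : P₂ → ℤ} (hd₁ : Cyc.IsDimFun P₁ δ₁)
    (hd₂ : Cyc.IsDimFun P₂ δ₂) (h₁ : Cyc.DeltaCompat π₁ δ₁ δ) (h₂ : Cyc.DeltaCompat π₂ δ₂ δ) {k : ℤ}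
    {α : AlgebraicCycle Y ℤ} {γ : Fin (n + 1 + 1) → AlgebraicCycle Y ℤ}
    (hγ : Cyc.IsChernCap π₁ δ δ₁ O₁ (n + 1) k α γ) : Cyc.IsChernCap π₂ δ δ₂ O₂ (n + 1) k α γ := by
  obtain ⟨h, hiso, hh, ⟨e⟩⟩ := exists_bundle_iso θ hP₁ hP₂
  haveI := hiso
  have hsq : IsPullback h π₂ π₁ (𝟙 Y) := IsPullback.of_horiz_isIso ⟨by rw [hh, Category.comp_id]⟩
  have hid : Cyc.DeltaCompat (𝟙 Y) δ δ := fun d => ⟨0,
    (Groth.L22.Bundle.rtrdeg_eq_zero (𝟙 Y) d).trans Nat.cast_zero.symm, by simp⟩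
  have hrd : Cyc.HasRelDim (𝟙 Y) 0 := Groth.L22.Cyc.hasRelDim_of_rtrdeg _ fun x _ => by
    rw [Groth.L22.Bundle.rtrdeg_eq_zero, Nat.cast_zero]
  have h := Groth.L22.Chern.isChernCap_pull hY hY hd₁ hd₂ hP₁ hE h₁ h₂ hsq hrd hid hγ
  have hpid : ∀ A : AlgebraicCycle Y ℤ,
      pullC (𝟙 Y) (Groth.L22.Cyc.shift_of_deltaCompat (𝟙 Y) hrd hid) A = A := fun A =>
    Function.locallyFinsuppWithin.ext fun d => by
      rw [pullC_apply, Groth.L22.Bundle.mult_openImmersion (𝟙 Y) d]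
      simp
  simp only [hpid] at h
  rw [show k + ((0 : ℕ) : ℤ) = k by simp] at h
  have hE₂ : FlatMod.IsFinLocFreeOfRank (n + 1) E₂ := fun x => by
    obtain ⟨U, hx, ⟨i⟩⟩ := hE x
    exact ⟨U, hx, ⟨(Scheme.Modules.restrictFunctor U.ι).mapIso θ.symm ≪≫ i⟩⟩
  exact isChernCap_iso hd₂ (Groth.L22.Bundle.delta_of_fibGen hd₂ h₂ hP₂ hE₂) e
    (Groth.L18.Ample.isInvertible_pullback _ (Groth.L22.Bundle.isInvertible_of_one hP₁.invertible))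
    (Groth.L22.Bundle.isInvertible_of_one hP₂.invertible) h

end Groth.L22.Chern
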