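import Groth.Agent.L22.Chern.Pull

/-!
The Whitney sum formula.
-/

set_option autoImplicit false
set_option linter.style.haveILetI false
set_option linter.unusedSectionVars false
set_option backward.isDefEq.respectTransparency.types false
set_option backward.isDefEq.respectTransparency false

universe u

open CategoryTheory CategoryTheory.Limits AlgebraicGeometry TopologicalSpace

noncomputable section

namespace Groth.L22.Chern

variable {X : Scheme.{u}} {δ : X → ℤ}

/-- The Whitney formula when the submodule is filtered. -/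
theorem Flag.cp_whitney [IsLocallyNoetherian X] (hX : Cyc.IsSetup X δ) {E₁ : X.Modules} {ls : List X.Modules}
    (h : Flag E₁ ls) : ∀ {E E₂ : X.Modules} {r₁ r₂ r : ℕ} (h₁ : FlatMod.IsFinLocFreeOfRank r₁ E₁)
      (h₂ : FlatMod.IsFinLocFreeOfRank r₂ E₂) (hE : FlatMod.IsFinLocFreeOfRank r E), r₁ = ls.length → r = r₁ + r₂ →
      ∀ (a : E₁ ⟶ E) (b : E ⟶ E₂) (hab : a ≫ b = 0), (ShortComplex.mk a b hab).ShortExact →
        cp hX hE = cp hX h₁ * cp hX h₂ := by
  induction h with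
  | @nil E₁ hz =>
    intro E E₂ r₁ r₂ r h₁ h₂ hE hl hr a b hab hex
    subst hl hr
    simp only [List.length_nil, zero_add] at hE h₁ ⊢
    haveI := hex.epi_g
    haveI : Mono b := hex.exact.mono_g (hz.eq_of_src _ _)
    haveI : IsIso b := isIso_of_mono_of_epi b
    rw [cp_rank_zero hX h₁, one_mul]
    exact cp_congr hX hE h₂ (asIso b)
  | @cons L E₁ F₁ ls hL a₁ b₁ hab₁ hex₁ hF ih =>
    intro E E₂ r₁ r₂ r h₁ h₂ hE hl hr a b hab hex
    subst hl
    haveI : Mono a₁ := hex₁.mono_f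
    haveI : Mono a := hex.mono_f
    obtain ⟨h, hs⟩ := shortExact_cokernel_comp a₁ a
    haveI := hex₁.epi_g
    haveI := hex.epi_g
    let ε₁ : cokernel a₁ ≅ F₁ := IsColimit.coconePointUniqueUpToIso (colimit.isColimit _) hex₁.gIsCokernel
    let ε₂ : cokernel a ≅ E₂ := IsColimit.coconePointUniqueUpToIso (colimit.isColimit _) hex.gIsCokernel
    let f' := cokernel.map a₁ (a₁ ≫ a) (𝟙 L) a (by simp)
    let g' := cokernel.map (a₁ ≫ a) a a₁ (𝟙 E) (by simp)
    have hw : (ε₁.inv ≫ f') ≫ (g' ≫ ε₂.hom) = 0 := by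
      rw [Category.assoc, reassoc_of% h]
      simp
    have hex' : (ShortComplex.mk (ε₁.inv ≫ f') (g' ≫ ε₂.hom) hw).ShortExact :=
      ShortComplex.shortExact_of_iso (ShortComplex.isoMk (S₁ := ShortComplex.mk _ _ h) ε₁ (Iso.refl _) ε₂
        (by simp [f']) (by simp [g'])) hs
    have hE' : FlatMod.IsFinLocFreeOfRank (ls.length + r₂) (cokernel (a₁ ≫ a)) :=
      Groth.L13.Canon.isFinLocFreeOfRank_middle hex' hF.rank h₂
    have hexL : (ShortComplex.mk (a₁ ≫ a) (cokernel.π (a₁ ≫ a)) (cokernel.condition _)).ShortExact :=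
      { exact := ShortComplex.exact_cokernel _
        mono_f := inferInstanceAs (Mono (a₁ ≫ a))
        epi_g := inferInstanceAs (Epi (cokernel.π _)) }
    subst hr
    have hE1 : FlatMod.IsFinLocFreeOfRank (ls.length + r₂ + 1) E := by
      rwa [show ls.length + r₂ + 1 = (L :: ls).length + r₂ by rw [List.length_cons]; ring]
    have h11 : FlatMod.IsFinLocFreeOfRank (ls.length + 1) E₁ := h₁
    have e : cp hX hE = cp hX hE1 := by
      have : ∀ {n m : ℕ} (hn : FlatMod.IsFinLocFreeOfRank n E) (hm : FlatMod.IsFinLocFreeOfRank m E),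
          n = m → cp hX hn = cp hX hm := fun hn hm e => by subst e; rfl
      exact this _ _ (by rw [List.length_cons]; ring)
    rw [e, cp_extend hX hE1 hE' hL _ _ _ hexL, ih hF.rank h₂ hE' rfl rfl _ _ hw hex', ← mul_assoc,
      ← cp_extend hX h11 hF.rank hL a₁ b₁ hab₁ hex₁]

/-- The Whitney formula. -/
theorem C_whitney [IsLocallyNoetherian X] (hX : Cyc.IsSetup X δ) {E₁ E E₂ : X.Modules} {r₁ r₂ : ℕ}
    (h₁ : FlatMod.IsFinLocFreeOfRank r₁ E₁) (h₂ : FlatMod.IsFinLocFreeOfRank r₂ E₂)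
    (hE : FlatMod.IsFinLocFreeOfRank (r₁ + r₂) E) (a : E₁ ⟶ E) (b : E ⟶ E₂) (hab : a ≫ b = 0)
    (hex : (ShortComplex.mk a b hab).ShortExact) (j : ℕ) :
    C hX hE j = ∑ p ∈ Finset.antidiagonal j, C hX h₁ p.1 * C hX h₂ p.2 := by
  obtain ⟨P, π, d, δP, hπ, hPs, hc, hF⟩ := exists_split_one r₁ hX h₁
  obtain ⟨ls, hl, hF'⟩ := hF.exists_flag
  haveI := hπ.proper
  haveI := hπ.flat
  haveI := hPs.1
  have hex' := Groth.L03.VBPn.shortExact_pullback_of_locFree hex h₂ π
  have hup := hF'.cp_whitney hPs (rank_pullback π h₁) (rank_pullback π h₂) (rank_pullback π hE) hl.symm rfl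
    _ _ _ hex'
  have hs := Groth.L22.Cyc.shift_of_deltaCompat π hπ.relDim hc
  refine DFunLike.ext _ _ fun x => pb_injective_of_inj π hX hPs hπ.inj hc hs ?_
  have hr : Over' hX.2.2 hPs.2.2 π hs (∑ p ∈ Finset.antidiagonal j, C hX h₁ p.1 * C hX h₂ p.2)
      (∑ p ∈ Finset.antidiagonal j, C hPs (rank_pullback π h₁) p.1 * C hPs (rank_pullback π h₂) p.2) :=
    over'_sum _ fun p _ => (over'_C π hX hPs hπ.relDim hc h₁ p.1).mul (over'_C π hX hPs hπ.relDim hc h₂ p.2)
  rw [hr x, over'_C π hX hPs hπ.relDim hc hE j x]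
  refine DFunLike.congr_fun ?_ _
  have := congrArg (fun f => Polynomial.coeff f j) hup
  simpa only [Polynomial.coeff_mul, coeff_cp] using this

end Groth.L22.Chern
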